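import Cfsg.Agent.H447.CTabLam_m3
import Cfsg.Agent.Lib.FinFast
import Cfsg.Agent.TAB.Eng.Fin
import Cfsg.Agent.BMx.FastFld
import Cfsg.Agent.H123.Cls.ListCover_m3
import Mathlib.Data.ZMod.Basic
import Mathlib.Data.Matrix.Mul
import Mathlib
import Cfsg.Agent.R2.M7.MainC
import Cfsg.Agent.TAB.Eng.Map
import Cfsg.Agent.TAB.Use.Defs_m3
import Cfsg.Agent.H853.ThC.Local_m3
import Cfsg.Agent.DZ3.Spor.Tr_m3
import Cfsg.Agent.H665.NoPQ
import Cfsg.Agent.H674.Codegree
import Cfsg.Agent.S0928
import Cfsg.Agent.FastGrp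
import Cfsg.Agent.Prune
set_option linter.all false

section
prune_inst 0x7ffefdf8efa8bfffffff7e3fffd1dff81380cfffe6dff943ffe12bbf5fbf132509c5fba50de090ffcec660b410387843fb7eefffe86fdc7ffffd5ff41ffbee4ff7ff3500519080240fbc0ff793e077ae6f3ffffffffffffffffffffffffffffffffffbfeffff

-- part: TAB/B/Dat
section
prune_inst 0x4010000
set_option linter.all false

/-!
# The 173 types of elements of the Baby Monster (helper51, TAB): data

The types are the rational classes, with 16C, 16F merged and 18A, 18B merged (names: notes/TAB/Bclasses51.txt).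
`val` is the trace on the space of dimension 4371, `cthree` the character of degree 96255.
-/

set_option autoImplicit false
set_option maxRecDepth 100000

namespace Cfsg.Agent.TAB.B

open Cfsg.Agent.TAB.Eng

/-- the data -/
def dat : Dat where
  n := 173
  N := 4154781481226426191177580544000000
  ordL := [1, 2, 2, 2, 2, 3, 3, 4, 4, 4, 4, 4, 4, 4, 4, 4, 4, 5, 5, 6, 6, 6, 6, 6, 6, 6, 6, 6, 6, 6, 7, 8, 8, 8,
    8, 8, 8, 8, 8, 8, 8, 8, 8, 8, 8, 9, 9, 10, 10, 10, 10, 10, 10, 11, 12, 12, 12, 12, 12, 12, 12, 12, 12, 12,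
    12, 12, 12, 12, 12, 12, 12, 12, 12, 12, 13, 14, 14, 14, 14, 14, 15, 15, 16, 16, 16, 16, 16, 16, 16, 17, 18,
    18, 18, 18, 18, 19, 20, 20, 20, 20, 20, 20, 20, 20, 20, 20, 21, 22, 22, 23, 24, 24, 24, 24, 24, 24, 24, 24,
    24, 24, 24, 24, 24, 24, 25, 26, 26, 27, 28, 28, 28, 28, 28, 30, 30, 30, 30, 30, 30, 30, 31, 32, 32, 33, 34,
    34, 35, 36, 36, 36, 38, 39, 40, 40, 40, 40, 40, 42, 42, 42, 44, 46, 47, 48, 48, 52, 55, 56, 60, 60, 60, 66,
    70]
  cntL := [1, 13571955000, 11707448673375, 156849238149120000, 355438141723665000, 10725600877608960000,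
    63622675428068556800000, 11167220161790784000, 37913401783857600000, 20473236963283104000000,
    21838119427501977600000, 43676238855003955200000, 171975190491578073600000, 687900761966312294400000,
    13758015239326245888000000, 28898887395015540080640000, 33019236574382990131200000,
    9367743238695946498867200, 692463580204404365196263424, 37646859080407449600000, 662584719815171112960000,
    13044636671361181286400000, 103068734193471062016000000, 208714186741778900582400000,
    238530499133461600665600000, 278285582322371867443200000, 391339100140835438592000000,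
    417428373483557801164800000, 8348567469671156023296000000, 11131423292894874697728000000,
    7360369687546815106252800000, 10482297325200949248000000, 352205190126751894732800000,
    352205190126751894732800000, 660384731487659802624000000, 704410380253503789465600000,
    2641538925950639210496000000, 2817641521014015157862400000, 7924616777851917631488000000,
    21132311407605113683968000000, 42264622815210227367936000000, 42264622815210227367936000000,
    50717547378252272841523200000, 126793868445630682103808000000, 338116982521681818943488000000,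
    237470363581757326884864000000, 356205545372635990327296000000, 10304517562565541148753920000,
    54098717203469091030958080000, 144263245875917576082554880000, 173115895051101091299065856000,
    216394868813876364123832320000, 432789737627752728247664640000, 3147561728201838023619379200000,
    1043570933708894502912000000, 5565711646447437348864000000, 5635283042028030315724800000,
    6261425602253367017472000000, 15027421445408080841932800000, 30054842890816161683865600000,
    56352830420280303157248000000, 75137107227040404209664000000, 112705660840560606314496000000,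
    150274214454080808419328000000, 200365619272107744559104000000, 225411321681121212628992000000,
    300548428908161616838656000000, 400731238544215489118208000000, 450822643362242425257984000000,
    450822643362242425257984000000, 450822643362242425257984000000, 2704935860173454551547904000000,
    3606581146897939402063872000000, 4808774862530585869418496000000, 13316607311623160869158912000000,
    7360369687546815106252800000, 883244362505617812750336000000, 883244362505617812750336000000,
    2318516451577246758469632000000, 2318516451577246758469632000000, 1154105967007340608660439040000,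
    34623179010220218259813171200000, 338116982521681818943488000000, 338116982521681818943488000000,
    6086105685390272740982784000000, 2028701895130090913660928000000, 2028701895130090913660928000000,
    16229615161040727309287424000000, 16229615161040727309287424000000, 61099727665094502811435008000000,
    9617549725061171738836992000000, 9617549725061171738836992000000, 9617549725061171738836992000000,
    19235099450122343477673984000000, 19235099450122343477673984000000, 109336354769116478715199488000000,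
    108197434406938182061916160000, 1038695370306606547794395136000, 1298369212883258184742993920000,
    1622961516104072730928742400000, 4327897376277527282476646400000, 6491846064416290923714969600000,
    8655794752555054564953292800000, 10386953703066065477943951360000, 25967384257665163694859878400000,
    51934768515330327389719756800000, 16487228100104865838006272000000, 31475617282018380236193792000000,
    47213425923027570354290688000000, 180642673096801138746851328000000, 1803290573448969701031936000000,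
    1803290573448969701031936000000, 1803290573448969701031936000000, 1803290573448969701031936000000,
    1803290573448969701031936000000, 2404387431265292934709248000000, 5409871720346909103095808000000,
    7213162293795878804127744000000, 7213162293795878804127744000000, 21639486881387636412383232000000,
    21639486881387636412383232000000, 21639486881387636412383232000000, 43278973762775272824766464000000,
    43278973762775272824766464000000, 166191259249057047647103221760000, 39949821934869482607476736000000,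
    79899643869738965214953472000000, 153880795600978747821391872000000, 9274065806308987033878528000000,
    9274065806308987033878528000000, 18548131612617974067757056000000, 18548131612617974067757056000000,
    37096263225235948135514112000000, 1154105967007340608660439040000, 11541059670073406086604390400000,
    11541059670073406086604390400000, 17311589505110109129906585600000, 17311589505110109129906585600000,
    34623179010220218259813171200000, 138492716040880873039252684800000, 268050418143640399430811648000000,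
    64918460644162909237149696000000, 64918460644162909237149696000000, 62951234564036760472387584000000,
    122199455330189005622870016000000, 61099727665094502811435008000000, 59354021160377517016822579200000,
    19235099450122343477673984000000, 57705298350367030433021952000000, 115410596700734060866043904000000,
    109336354769116478715199488000000, 106532858492985286953271296000000, 12983692128832581847429939200000,
    12983692128832581847429939200000, 25967384257665163694859878400000, 51934768515330327389719756800000,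
    103869537030660654779439513600000, 16487228100104865838006272000000, 49461684300314597514018816000000,
    49461684300314597514018816000000, 94426851846055140708581376000000, 180642673096801138746851328000000,
    176799211967081965582024704000000, 43278973762775272824766464000000, 43278973762775272824766464000000,
    79899643869738965214953472000000, 75541481476844112566865100800000, 74192526450471896271028224000000,
    34623179010220218259813171200000, 34623179010220218259813171200000, 69246358020440436519626342400000,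
    62951234564036760472387584000000, 59354021160377517016822579200000]
  pwL := [[], [(1, 1)], [(1, 2)], [(1, 3)], [(1, 4)], [(1, 5)], [(1, 6)], [(1, 7), (2, 2)], [(1, 8), (2, 2)],
    [(1, 9), (2, 2)], [(1, 10), (2, 2)], [(1, 11), (2, 4)], [(1, 12), (2, 2)], [(1, 13), (2, 2)], [(1, 14),
    (2, 4)], [(1, 15), (2, 3)], [(1, 16), (2, 4)], [(1, 17)], [(1, 18)], [(1, 19), (2, 5), (3, 1)], [(1, 20),
    (2, 5), (3, 1)], [(1, 21), (2, 5), (3, 2)], [(1, 22), (2, 6), (3, 1)], [(1, 23), (2, 5), (3, 4)], [(1, 24),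
    (2, 5), (3, 3)], [(1, 25), (2, 6), (3, 2)], [(1, 26), (2, 5), (3, 4)], [(1, 27), (2, 6), (3, 4)], [(1, 28),
    (2, 6), (3, 4)], [(1, 29), (2, 6), (3, 3)], [(1, 30)], [(1, 31), (2, 9), (4, 2)], [(1, 32), (2, 8), (4, 2)],
    [(1, 33), (2, 8), (4, 2)], [(1, 34), (2, 9), (4, 2)], [(1, 35), (2, 8), (4, 2)], [(1, 36), (2, 9), (4, 2)],
    [(1, 37), (2, 11), (4, 4)], [(1, 38), (2, 9), (4, 2)], [(1, 39), (2, 12), (4, 2)], [(1, 40), (2, 14),
    (4, 4)], [(1, 41), (2, 11), (4, 4)], [(1, 42), (2, 13), (4, 2)], [(1, 43), (2, 14), (4, 4)], [(1, 44),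
    (2, 16), (4, 4)], [(1, 45), (3, 6)], [(1, 46), (3, 6)], [(1, 47), (2, 17), (5, 1)], [(1, 48), (2, 17),
    (5, 2)], [(1, 49), (2, 17), (5, 3)], [(1, 50), (2, 18), (5, 2)], [(1, 51), (2, 17), (5, 4)], [(1, 52),
    (2, 18), (5, 4)], [(1, 53)], [(1, 54), (2, 21), (3, 8), (4, 5), (6, 2)], [(1, 55), (2, 25), (3, 8), (4, 6),
    (6, 2)], [(1, 56), (2, 21), (3, 7), (4, 5), (6, 2)], [(1, 57), (2, 21), (3, 8), (4, 5), (6, 2)], [(1, 58),
    (2, 21), (3, 10), (4, 5), (6, 2)], [(1, 59), (2, 27), (3, 11), (4, 6), (6, 4)], [(1, 60), (2, 21), (3, 9),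
    (4, 5), (6, 2)], [(1, 61), (2, 21), (3, 10), (4, 5), (6, 2)], [(1, 62), (2, 21), (3, 12), (4, 5), (6, 2)],
    [(1, 63), (2, 26), (3, 11), (4, 5), (6, 4)], [(1, 64), (2, 25), (3, 10), (4, 6), (6, 2)], [(1, 65), (2, 21),
    (3, 13), (4, 5), (6, 2)], [(1, 66), (2, 25), (3, 9), (4, 6), (6, 2)], [(1, 67), (2, 28), (3, 11), (4, 6),
    (6, 4)], [(1, 68), (2, 25), (3, 12), (4, 6), (6, 2)], [(1, 69), (2, 26), (3, 14), (4, 5), (6, 4)], [(1, 70),
    (2, 27), (3, 14), (4, 6), (6, 4)], [(1, 71), (2, 27), (3, 16), (4, 6), (6, 4)], [(1, 72), (2, 28), (3, 14),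
    (4, 6), (6, 4)], [(1, 73), (2, 29), (3, 15), (4, 6), (6, 3)], [(1, 74)], [(1, 75), (2, 30), (7, 1)],
    [(1, 76), (2, 30), (7, 1)], [(1, 77), (2, 30), (7, 3)], [(1, 78), (2, 30), (7, 2)], [(1, 79), (2, 30),
    (7, 4)], [(1, 80), (3, 17), (5, 5)], [(1, 81), (3, 18), (5, 6)], [(1, 82), (2, 34), (4, 9), (8, 2)],
    [(1, 83), (2, 34), (4, 9), (8, 2)], [(1, 84), (2, 38), (4, 9), (8, 2)], [(1, 85), (2, 38), (4, 9), (8, 2)],
    [(1, 86), (2, 34), (4, 9), (8, 2)], [(1, 87), (2, 43), (4, 14), (8, 4)], [(1, 88), (2, 40), (4, 14),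
    (8, 4)], [(1, 89)], [(1, 90), (2, 46), (3, 22), (6, 6), (9, 1)], [(1, 91), (2, 46), (3, 25), (6, 6),
    (9, 2)], [(1, 92), (2, 46), (3, 28), (6, 6), (9, 4)], [(1, 93), (2, 45), (3, 28), (6, 6), (9, 4)], [(1, 94),
    (2, 46), (3, 29), (6, 6), (9, 3)], [(1, 95)], [(1, 96), (2, 48), (4, 17), (5, 7), (10, 2)], [(1, 97),
    (2, 50), (4, 18), (5, 7), (10, 2)], [(1, 98), (2, 48), (4, 17), (5, 7), (10, 2)], [(1, 99), (2, 48),
    (4, 17), (5, 8), (10, 2)], [(1, 100), (2, 48), (4, 17), (5, 10), (10, 2)], [(1, 101), (2, 48), (4, 17),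
    (5, 13), (10, 2)], [(1, 102), (2, 52), (4, 18), (5, 11), (10, 4)], [(1, 103), (2, 49), (4, 17), (5, 15),
    (10, 3)], [(1, 104), (2, 50), (4, 18), (5, 12), (10, 2)], [(1, 105), (2, 52), (4, 18), (5, 16), (10, 4)],
    [(1, 106), (3, 30), (7, 5)], [(1, 107), (2, 53), (11, 1)], [(1, 108), (2, 53), (11, 2)], [(1, 109)],
    [(1, 110), (2, 57), (3, 35), (4, 21), (6, 8), (8, 5), (12, 2)], [(1, 111), (2, 60), (3, 31), (4, 21),
    (6, 9), (8, 5), (12, 2)], [(1, 112), (2, 57), (3, 33), (4, 21), (6, 8), (8, 5), (12, 2)], [(1, 113),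
    (2, 57), (3, 32), (4, 21), (6, 8), (8, 5), (12, 2)], [(1, 114), (2, 57), (3, 35), (4, 21), (6, 8), (8, 5),
    (12, 2)], [(1, 115), (2, 66), (3, 31), (4, 25), (6, 9), (8, 6), (12, 2)], [(1, 116), (2, 60), (3, 34),
    (4, 21), (6, 9), (8, 5), (12, 2)], [(1, 117), (2, 59), (3, 37), (4, 27), (6, 11), (8, 6), (12, 4)],
    [(1, 118), (2, 63), (3, 37), (4, 26), (6, 11), (8, 5), (12, 4)], [(1, 119), (2, 70), (3, 40), (4, 27),
    (6, 14), (8, 6), (12, 4)], [(1, 120), (2, 66), (3, 36), (4, 25), (6, 9), (8, 6), (12, 2)], [(1, 121),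
    (2, 63), (3, 41), (4, 26), (6, 11), (8, 5), (12, 4)], [(1, 122), (2, 71), (3, 44), (4, 27), (6, 16), (8, 6),
    (12, 4)], [(1, 123), (2, 68), (3, 39), (4, 25), (6, 12), (8, 6), (12, 2)], [(1, 124), (5, 18)], [(1, 125),
    (2, 74), (13, 3)], [(1, 126), (2, 74), (13, 1)], [(1, 127), (3, 45), (9, 6)], [(1, 128), (2, 78), (4, 30),
    (7, 8), (14, 2)], [(1, 129), (2, 78), (4, 30), (7, 9), (14, 2)], [(1, 130), (2, 78), (4, 30), (7, 7),
    (14, 2)], [(1, 131), (2, 78), (4, 30), (7, 10), (14, 2)], [(1, 132), (2, 79), (4, 30), (7, 11), (14, 4)],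
    [(1, 133), (2, 80), (3, 47), (5, 20), (6, 17), (10, 5), (15, 1)], [(1, 134), (2, 80), (3, 47), (5, 19),
    (6, 17), (10, 5), (15, 1)], [(1, 135), (2, 80), (3, 49), (5, 24), (6, 17), (10, 5), (15, 3)], [(1, 136),
    (2, 80), (3, 51), (5, 23), (6, 17), (10, 5), (15, 4)], [(1, 137), (2, 80), (3, 48), (5, 21), (6, 17),
    (10, 5), (15, 2)], [(1, 138), (2, 81), (3, 52), (5, 27), (6, 18), (10, 6), (15, 4)], [(1, 139), (2, 81),
    (3, 50), (5, 25), (6, 18), (10, 6), (15, 2)], [(1, 140)], [(1, 141), (2, 85), (4, 38), (8, 9), (16, 2)],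
    [(1, 142), (2, 84), (4, 38), (8, 9), (16, 2)], [(1, 143), (3, 53), (11, 5)], [(1, 144), (2, 89), (17, 1)],
    [(1, 145), (2, 89), (17, 3)], [(1, 146), (5, 30), (7, 17)], [(1, 147), (2, 91), (3, 55), (4, 46), (6, 25),
    (9, 8), (12, 6), (18, 2)], [(1, 148), (2, 91), (3, 64), (4, 46), (6, 25), (9, 10), (12, 6), (18, 2)],
    [(1, 149), (2, 93), (3, 67), (4, 45), (6, 28), (9, 11), (12, 6), (18, 4)], [(1, 150), (2, 95), (19, 1)],
    [(1, 151), (3, 74), (13, 5)], [(1, 152), (2, 99), (4, 48), (5, 33), (8, 17), (10, 8), (20, 2)], [(1, 153),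
    (2, 99), (4, 48), (5, 32), (8, 17), (10, 8), (20, 2)], [(1, 154), (2, 99), (4, 48), (5, 35), (8, 17),
    (10, 8), (20, 2)], [(1, 155), (2, 101), (4, 48), (5, 42), (8, 17), (10, 13), (20, 2)], [(1, 156), (2, 102),
    (4, 52), (5, 37), (8, 18), (10, 11), (20, 4)], [(1, 157), (2, 106), (3, 75), (6, 30), (7, 20), (14, 5),
    (21, 1)], [(1, 158), (2, 106), (3, 76), (6, 30), (7, 19), (14, 5), (21, 1)], [(1, 159), (2, 106), (3, 77),
    (6, 30), (7, 24), (14, 5), (21, 3)], [(1, 160), (2, 108), (4, 53), (11, 7), (22, 2)], [(1, 161), (2, 109),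
    (23, 2)], [(1, 162)], [(1, 163), (2, 116), (3, 82), (4, 60), (6, 34), (8, 21), (12, 9), (16, 5), (24, 2)],
    [(1, 164), (2, 116), (3, 83), (4, 60), (6, 34), (8, 21), (12, 9), (16, 5), (24, 2)], [(1, 165), (2, 125),
    (4, 74), (13, 15), (26, 3)], [(1, 166), (5, 53), (11, 17)], [(1, 167), (2, 129), (4, 78), (7, 31), (8, 30),
    (14, 9), (28, 2)], [(1, 168), (2, 137), (3, 96), (4, 80), (5, 56), (6, 48), (10, 21), (12, 17), (15, 7),
    (20, 5), (30, 2)], [(1, 169), (2, 137), (3, 100), (4, 80), (5, 58), (6, 48), (10, 21), (12, 17), (15, 10),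
    (20, 5), (30, 2)], [(1, 170), (2, 138), (3, 102), (4, 81), (5, 59), (6, 52), (10, 27), (12, 18), (15, 11),
    (20, 6), (30, 4)], [(1, 171), (2, 143), (3, 107), (6, 53), (11, 19), (22, 5), (33, 1)], [(1, 172), (2, 146),
    (5, 75), (7, 47), (10, 30), (14, 17), (35, 1)]]

/-- the traces on the space of dimension 4371 -/
def valL : List ℤ :=
  [4371, -493, 275, -53, 19, 78, -3, -77, 51, 19, -21, 35, -13, 11, 3, -1, -5, 21, -4, -34, 20, 14, -7, 4, -8,
    5, -2, 13, 1, 1, 10, -21, 7, -9, 11, -1, -5, -5, 3, -1, 7, 3, -1, -1, -1, -3, 6, 7, 5, -3, 0, -1, 4, 4, -12,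
    -3, 4, 6, -6, 5, -2, 0, -4, 2, -3, 2, 1, -1, 5, 0, -3, 1, 3, -1, 3, -10, 4, -4, 2, -2, 3, 2, 3, -5, 3, -1,
    -1, 1, 1, 2, 2, 2, -2, 1, -2, 1, -7, -2, 3, 1, -1, 1, 0, -1, 2, 0, 1, 2, 0, 1, 2, 0, 0, -2, -4, -3, 2, 1,
    -2, 1, 1, 0, -1, -1, 1, -1, 1, 0, 2, -2, 0, 0, 0, -5, 1, -3, -1, -1, -2, 0, 0, 1, -1, 1, 0, -2, 0, 0, 0, -1,
    1, 0, 1, -3, -1, -1, 0, -1, 1, -1, 0, -1, 0, 0, -2, -1, -1, 0, -1, -1, 0, -1, 0]

/-- the trace on the elements of type `i` -/
def val (i : ℕ) : ℤ := valL.getD i 0

private noncomputable def _root_.Cfsg.Agent.LsF.fbb7819_0 : {f // @Cfsg.Agent.TAB.Eng.Dat.ord = f} := ⟨_, by first | (delta Cfsg.Agent.TAB.Eng.Dat.ord; rewrite [Cfsg.Agent.LsF.getD_eq]; exact rfl) | exact rfl⟩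
private noncomputable def _root_.Cfsg.Agent.LsF.fbb7819_1 : {f // @Cfsg.Agent.TAB.Eng.Dat.pw = f} := ⟨_, by first | (delta Cfsg.Agent.TAB.Eng.Dat.pw; rewrite [Cfsg.Agent.LsF.getD_eq]; exact rfl) | exact rfl⟩
private noncomputable def _root_.Cfsg.Agent.LsF.fbb7819_2 : {f // @Cfsg.Agent.TAB.Eng.look = f} := ⟨_, by first | (delta Cfsg.Agent.TAB.Eng.look List.brecOn List.brecOn.go Cfsg.Agent.TAB.Eng.look._f; rewrite [Cfsg.Agent.LsF.instDecEq_eq, Cfsg.Agent.LsF.ite_eq]; (try delta Cfsg.Agent.TAB.Eng.look.match_1); (try delta List.casesOn); first | dsimp -zeta only | exact rfl) | exact rfl⟩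
private noncomputable def _root_.Cfsg.Agent.LsF.fbb7819_3 : {f // @Cfsg.Agent.TAB.Eng.Dat.okPow = f} := ⟨_, by first | (delta Cfsg.Agent.TAB.Eng.Dat.okPow; rewrite [Cfsg.Agent.LsF.dMemP_pat, Cfsg.Agent.LsF.fbb7819_0.2, Cfsg.Agent.LsF.fbb7819_1.2, Cfsg.Agent.LsF.fbb7819_2.2, Cfsg.Agent.LsF.nadd_pat, Cfsg.Agent.LsF.nmul_pat, Cfsg.Agent.LsF.nmod_pat, Cfsg.Agent.LsF.nbeq_pat, Cfsg.Agent.LsF.nbne_pat, Cfsg.Agent.LsF.dProdEq_eq, Cfsg.Agent.LsF.and_eq, Cfsg.Agent.LsF.or_eq, Cfsg.Agent.LsF.instDecEq_eq, Cfsg.Agent.LsF.decLt_eq, Cfsg.Agent.LsF.all_eq, Cfsg.Agent.LsF.range_eq, Cfsg.Agent.LsF.decide_eq]; exact rfl) | exact rfl⟩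
theorem okPow : dat.okPow = true := by ((try (rewrite [Cfsg.Agent.LsF.fbb7819_3.2])); decide +kernel)

private noncomputable def _root_.Cfsg.Agent.LsF.fbb7819_4 : {f // @Cfsg.Agent.TAB.B.val = f} := ⟨_, by first | (delta Cfsg.Agent.TAB.B.val; rewrite [Cfsg.Agent.LsF.getD_eq]; exact rfl) | exact rfl⟩
theorem okSep : dat.okSep val = true := by ((try (delta Cfsg.Agent.TAB.Eng.Dat.okSep; rewrite [Cfsg.Agent.LsF.fbb7819_0.2, Cfsg.Agent.LsF.fbb7819_1.2, Cfsg.Agent.LsF.fbb7819_4.2, Cfsg.Agent.LsF.nbeq_pat, Cfsg.Agent.LsF.nbne_pat, Cfsg.Agent.LsF.and_eq, Cfsg.Agent.LsF.or_eq, Cfsg.Agent.LsF.all_eq, Cfsg.Agent.LsF.any_eq, Cfsg.Agent.LsF.range_eq, Cfsg.Agent.LsF.instIDecEq_eq, Cfsg.Agent.LsF.dNot_eq, Cfsg.Agent.LsF.decide_eq])); decide +kernel)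

private noncomputable def _root_.Cfsg.Agent.LsF.fbb7819_5 : {f // @Cfsg.Agent.TAB.Eng.Dat.cnt = f} := ⟨_, by first | (delta Cfsg.Agent.TAB.Eng.Dat.cnt; rewrite [Cfsg.Agent.LsF.getD_eq]; exact rfl) | exact rfl⟩
private noncomputable def _root_.Cfsg.Agent.LsF.fbb7819_6 : {f // @Cfsg.Agent.TAB.Eng.Dat.okSum = f} := ⟨_, by first | (delta Cfsg.Agent.TAB.Eng.Dat.okSum; rewrite [Cfsg.Agent.LsF.fbb7819_5.2, Cfsg.Agent.LsF.decLe_eq, Cfsg.Agent.LsF.map_eq, Cfsg.Agent.LsF.range_eq, Cfsg.Agent.LsF.sum_eq, Cfsg.Agent.LsF.decide_eq]; exact rfl) | exact rfl⟩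
theorem okSum : dat.okSum = true := by ((try (rewrite [Cfsg.Agent.LsF.fbb7819_6.2])); decide +kernel)

/-- type 0 = 1A -/
theorem sg_1A : sg dat val 0 = (1, []) := by decide +kernel

theorem cnt_1A : dat.cnt 0 = 1 := by decide +kernel

/-- type 1 = 2A -/
theorem sg_2A : sg dat val 1 = (2, [(1, -493)]) := by decide +kernel

theorem cnt_2A : dat.cnt 1 = 13571955000 := by decide +kernel

/-- type 2 = 2B -/
theorem sg_2B : sg dat val 2 = (2, [(1, 275)]) := by decide +kernel

theorem cnt_2B : dat.cnt 2 = 11707448673375 := by decide +kernel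

/-- type 3 = 2C -/
theorem sg_2C : sg dat val 3 = (2, [(1, -53)]) := by decide +kernel

theorem cnt_2C : dat.cnt 3 = 156849238149120000 := by decide +kernel

/-- type 4 = 2D -/
theorem sg_2D : sg dat val 4 = (2, [(1, 19)]) := by decide +kernel

theorem cnt_2D : dat.cnt 4 = 355438141723665000 := by decide +kernel

/-- type 5 = 3A -/
theorem sg_3A : sg dat val 5 = (3, [(1, 78)]) := by decide +kernel

theorem cnt_3A : dat.cnt 5 = 10725600877608960000 := by decide +kernel

/-- type 6 = 3B -/
theorem sg_3B : sg dat val 6 = (3, [(1, -3)]) := by decide +kernel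

theorem cnt_3B : dat.cnt 6 = 63622675428068556800000 := by decide +kernel

/-- type 11 = 4E -/
theorem sg_4E : sg dat val 11 = (4, [(1, 35), (2, 19)]) := by decide +kernel

/-- type 14 = 4H -/
theorem sg_4H : sg dat val 14 = (4, [(1, 3), (2, 19)]) := by decide +kernel

/-- type 15 = 4I -/
theorem sg_4I : sg dat val 15 = (4, [(1, -1), (2, -53)]) := by decide +kernel

/-- type 16 = 4J -/
theorem sg_4J : sg dat val 16 = (4, [(1, -5), (2, 19)]) := by decide +kernel

/-- type 19 = 6A -/
theorem sg_6A : sg dat val 19 = (6, [(1, -34), (2, 78), (3, -493)]) := by decide +kernel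

theorem cnt_6A : dat.cnt 19 = 37646859080407449600000 := by decide +kernel

/-- type 20 = 6B -/
theorem sg_6B : sg dat val 20 = (6, [(1, 20), (2, 78), (3, -493)]) := by decide +kernel

/-- type 22 = 6D -/
theorem sg_6D : sg dat val 22 = (6, [(1, -7), (2, -3), (3, -493)]) := by decide +kernel

theorem cnt_6D : dat.cnt 22 = 103068734193471062016000000 := by decide +kernel

/-- type 23 = 6E -/
theorem sg_6E : sg dat val 23 = (6, [(1, 4), (2, 78), (3, 19)]) := by decide +kernel

/-- type 24 = 6F -/
theorem sg_6F : sg dat val 24 = (6, [(1, -8), (2, 78), (3, -53)]) := by decide +kernel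

/-- type 26 = 6H -/
theorem sg_6H : sg dat val 26 = (6, [(1, -2), (2, 78), (3, 19)]) := by decide +kernel

/-- type 27 = 6I -/
theorem sg_6I : sg dat val 27 = (6, [(1, 13), (2, -3), (3, 19)]) := by decide +kernel

theorem cnt_6I : dat.cnt 27 = 417428373483557801164800000 := by decide +kernel

/-- type 28 = 6J -/
theorem sg_6J : sg dat val 28 = (6, [(1, 1), (2, -3), (3, 19)]) := by decide +kernel

theorem cnt_6J : dat.cnt 28 = 8348567469671156023296000000 := by decide +kernel

/-- type 29 = 6K -/
theorem sg_6K : sg dat val 29 = (6, [(1, 1), (2, -3), (3, -53)]) := by decide +kernel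

theorem cnt_6K : dat.cnt 29 = 11131423292894874697728000000 := by decide +kernel

/-- type 37 = 8G -/
theorem sg_8G : sg dat val 37 = (8, [(1, -5), (2, 35), (4, 19)]) := by decide +kernel

/-- type 40 = 8J -/
theorem sg_8J : sg dat val 40 = (8, [(1, 7), (2, 3), (4, 19)]) := by decide +kernel

/-- type 41 = 8K -/
theorem sg_8K : sg dat val 41 = (8, [(1, 3), (2, 35), (4, 19)]) := by decide +kernel

/-- type 43 = 8M -/
theorem sg_8M : sg dat val 43 = (8, [(1, -1), (2, 3), (4, 19)]) := by decide +kernel

/-- type 44 = 8N -/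
theorem sg_8N : sg dat val 44 = (8, [(1, -1), (2, -5), (4, 19)]) := by decide +kernel

/-- type 45 = 9A -/
theorem sg_9A : sg dat val 45 = (9, [(1, -3), (3, -3)]) := by decide +kernel

theorem cnt_9A : dat.cnt 45 = 237470363581757326884864000000 := by decide +kernel

/-- type 46 = 9B -/
theorem sg_9B : sg dat val 46 = (9, [(1, 6), (3, -3)]) := by decide +kernel

theorem cnt_9B : dat.cnt 46 = 356205545372635990327296000000 := by decide +kernel

/-- type 51 = 10E -/
theorem sg_10E : sg dat val 51 = (10, [(1, -1), (2, 21), (5, 19)]) := by decide +kernel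

/-- type 53 = 11A -/
theorem sg_11A : sg dat val 53 = (11, [(1, 4)]) := by decide +kernel

theorem cnt_11A : dat.cnt 53 = 3147561728201838023619379200000 := by decide +kernel

/-- type 59 = 12F -/
theorem sg_12F : sg dat val 59 = (12, [(1, 5), (2, 13), (3, 35), (4, -3), (6, 19)]) := by decide +kernel

theorem cnt_12F : dat.cnt 59 = 30054842890816161683865600000 := by decide +kernel

/-- type 63 = 12J -/
theorem sg_12J : sg dat val 63 = (12, [(1, 2), (2, -2), (3, 35), (4, 78), (6, 19)]) := by decide +kernel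

/-- type 67 = 12N -/
theorem sg_12N : sg dat val 67 = (12, [(1, -1), (2, 1), (3, 35), (4, -3), (6, 19)]) := by decide +kernel

theorem cnt_12N : dat.cnt 67 = 400731238544215489118208000000 := by decide +kernel

/-- type 69 = 12P -/
theorem sg_12P : sg dat val 69 = (12, [(1, 0), (2, -2), (3, 3), (4, 78), (6, 19)]) := by decide +kernel

/-- type 70 = 12Q -/
theorem sg_12Q : sg dat val 70 = (12, [(1, -3), (2, 13), (3, 3), (4, -3), (6, 19)]) := by decide +kernel

theorem cnt_12Q : dat.cnt 70 = 450822643362242425257984000000 := by decide +kernel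

/-- type 71 = 12R -/
theorem sg_12R : sg dat val 71 = (12, [(1, 1), (2, 13), (3, -5), (4, -3), (6, 19)]) := by decide +kernel

theorem cnt_12R : dat.cnt 71 = 2704935860173454551547904000000 := by decide +kernel

/-- type 72 = 12S -/
theorem sg_12S : sg dat val 72 = (12, [(1, 3), (2, 1), (3, 3), (4, -3), (6, 19)]) := by decide +kernel

theorem cnt_12S : dat.cnt 72 = 3606581146897939402063872000000 := by decide +kernel

/-- type 73 = 12T -/
theorem sg_12T : sg dat val 73 = (12, [(1, -1), (2, 1), (3, -1), (4, -3), (6, -53)]) := by decide +kernel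

theorem cnt_12T : dat.cnt 73 = 4808774862530585869418496000000 := by decide +kernel

/-- type 74 = 13A -/
theorem sg_13A : sg dat val 74 = (13, [(1, 3)]) := by decide +kernel

theorem cnt_13A : dat.cnt 74 = 13316607311623160869158912000000 := by decide +kernel

/-- type 79 = 14E -/
theorem sg_14E : sg dat val 79 = (14, [(1, -2), (2, 10), (7, 19)]) := by decide +kernel

/-- type 81 = 15B -/
theorem sg_15B : sg dat val 81 = (15, [(1, 2), (3, -4), (5, -3)]) := by decide +kernel

/-- type 84 = 16CF -/
theorem sg_16CF : sg dat val 84 = (16, [(1, 3), (2, 3), (4, 19), (8, 275)]) := by decide +kernel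

/-- type 87 = 16G -/
theorem sg_16G : sg dat val 87 = (16, [(1, 1), (2, -1), (4, 3), (8, 19)]) := by decide +kernel

/-- type 88 = 16H -/
theorem sg_16H : sg dat val 88 = (16, [(1, 1), (2, 7), (4, 3), (8, 19)]) := by decide +kernel

/-- type 89 = 17A -/
theorem sg_17A : sg dat val 89 = (17, [(1, 2)]) := by decide +kernel

theorem cnt_17A : dat.cnt 89 = 61099727665094502811435008000000 := by decide +kernel

/-- type 90 = 18AB -/
theorem sg_18AB : sg dat val 90 = (18, [(1, 2), (2, 6), (3, -7), (6, -3), (9, -493)]) := by decide +kernel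

theorem cnt_18AB : dat.cnt 90 = 9617549725061171738836992000000 := by decide +kernel

/-- type 92 = 18D -/
theorem sg_18D : sg dat val 92 = (18, [(1, -2), (2, 6), (3, 1), (6, -3), (9, 19)]) := by decide +kernel

theorem cnt_18D : dat.cnt 92 = 9617549725061171738836992000000 := by decide +kernel

/-- type 93 = 18E -/
theorem sg_18E : sg dat val 93 = (18, [(1, 1), (2, -3), (3, 1), (6, -3), (9, 19)]) := by decide +kernel

theorem cnt_18E : dat.cnt 93 = 19235099450122343477673984000000 := by decide +kernel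

/-- type 94 = 18F -/
theorem sg_18F : sg dat val 94 = (18, [(1, -2), (2, 6), (3, 1), (6, -3), (9, -53)]) := by decide +kernel

theorem cnt_18F : dat.cnt 94 = 19235099450122343477673984000000 := by decide +kernel

/-- type 95 = 19A -/
theorem sg_19A : sg dat val 95 = (19, [(1, 1)]) := by decide +kernel

theorem cnt_19A : dat.cnt 95 = 109336354769116478715199488000000 := by decide +kernel

/-- type 107 = 22A -/
theorem sg_22A : sg dat val 107 = (22, [(1, 2), (2, 4), (11, -493)]) := by decide +kernel

theorem cnt_22A : dat.cnt 107 = 31475617282018380236193792000000 := by decide +kernel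

/-- type 109 = 23AB -/
theorem sg_23AB : sg dat val 109 = (23, [(1, 1)]) := by decide +kernel

theorem cnt_23AB : dat.cnt 109 = 180642673096801138746851328000000 := by decide +kernel

/-- type 117 = 24H -/
theorem sg_24H : sg dat val 117 = (24, [(1, 1), (2, 5), (3, -5), (4, 13), (6, 35), (8, -3), (12, 19)]) := by decide +kernel

theorem cnt_24H : dat.cnt 117 = 7213162293795878804127744000000 := by decide +kernel

/-- type 118 = 24I -/
theorem sg_24I : sg dat val 118 = (24, [(1, -2), (2, 2), (3, -5), (4, -2), (6, 35), (8, 78), (12, 19)]) := by decide +kernel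

/-- type 119 = 24J -/
theorem sg_24J : sg dat val 119 = (24, [(1, 1), (2, -3), (3, 7), (4, 13), (6, 3), (8, -3), (12, 19)]) := by decide +kernel

theorem cnt_24J : dat.cnt 119 = 21639486881387636412383232000000 := by decide +kernel

/-- type 121 = 24L -/
theorem sg_24L : sg dat val 121 = (24, [(1, 0), (2, 2), (3, 3), (4, -2), (6, 35), (8, 78), (12, 19)]) := by decide +kernel

/-- type 122 = 24M -/
theorem sg_24M : sg dat val 122 = (24, [(1, -1), (2, 1), (3, -1), (4, 13), (6, -5), (8, -3), (12, 19)]) := by decide +kernel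

theorem cnt_24M : dat.cnt 122 = 43278973762775272824766464000000 := by decide +kernel

/-- type 125 = 26A -/
theorem sg_26A : sg dat val 125 = (26, [(1, -1), (2, 3), (13, -53)]) := by decide +kernel

theorem cnt_26A : dat.cnt 125 = 39949821934869482607476736000000 := by decide +kernel

/-- type 126 = 26B -/
theorem sg_26B : sg dat val 126 = (26, [(1, 1), (2, 3), (13, -493)]) := by decide +kernel

theorem cnt_26B : dat.cnt 126 = 79899643869738965214953472000000 := by decide +kernel

/-- type 127 = 27A -/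
theorem sg_27A : sg dat val 127 = (27, [(1, 0), (3, -3), (9, -3)]) := by decide +kernel

theorem cnt_27A : dat.cnt 127 = 153880795600978747821391872000000 := by decide +kernel

/-- type 132 = 28E -/
theorem sg_28E : sg dat val 132 = (28, [(1, 0), (2, -2), (4, 10), (7, 35), (14, 19)]) := by decide +kernel

/-- type 136 = 30D -/
theorem sg_30D : sg dat val 136 = (30, [(1, -1), (2, 3), (3, -1), (5, 4), (6, 21), (10, 78), (15, 19)]) := by decide +kernel

/-- type 140 = 31AB -/
theorem sg_31AB : sg dat val 140 = (31, [(1, 0)]) := by decide +kernel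

theorem cnt_31AB : dat.cnt 140 = 268050418143640399430811648000000 := by decide +kernel

/-- type 143 = 33A -/
theorem sg_33A : sg dat val 143 = (33, [(1, 1), (3, 4), (11, 78)]) := by decide +kernel

theorem cnt_33A : dat.cnt 143 = 62951234564036760472387584000000 := by decide +kernel

/-- type 144 = 34AB -/
theorem sg_34AB : sg dat val 144 = (34, [(1, 0), (2, 2), (17, -493)]) := by decide +kernel

theorem cnt_34AB : dat.cnt 144 = 122199455330189005622870016000000 := by decide +kernel

/-- type 145 = 34C -/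
theorem sg_34C : sg dat val 145 = (34, [(1, -2), (2, 2), (17, -53)]) := by decide +kernel

theorem cnt_34C : dat.cnt 145 = 61099727665094502811435008000000 := by decide +kernel

/-- type 149 = 36C -/
theorem sg_36C : sg dat val 149 = (36, [(1, -1), (2, 1), (3, -1), (4, -3), (6, 1), (9, 35), (12, -3), (18, 19)]) := by decide +kernel

theorem cnt_36C : dat.cnt 149 = 115410596700734060866043904000000 := by decide +kernel

/-- type 150 = 38A -/
theorem sg_38A : sg dat val 150 = (38, [(1, 1), (2, 1), (19, -493)]) := by decide +kernel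

theorem cnt_38A : dat.cnt 150 = 109336354769116478715199488000000 := by decide +kernel

/-- type 151 = 39A -/
theorem sg_39A : sg dat val 151 = (39, [(1, 0), (3, 3), (13, 78)]) := by decide +kernel

theorem cnt_39A : dat.cnt 151 = 106532858492985286953271296000000 := by decide +kernel

/-- type 162 = 47AB -/
theorem sg_47AB : sg dat val 162 = (47, [(1, 0)]) := by decide +kernel

theorem cnt_47AB : dat.cnt 162 = 176799211967081965582024704000000 := by decide +kernel

/-- type 165 = 52A -/
theorem sg_52A : sg dat val 165 = (52, [(1, -1), (2, -1), (4, 3), (13, -1), (26, -53)]) := by decide +kernel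

theorem cnt_52A : dat.cnt 165 = 79899643869738965214953472000000 := by decide +kernel

/-- type 166 = 55A -/
theorem sg_55A : sg dat val 166 = (55, [(1, -1), (5, 4), (11, 21)]) := by decide +kernel

theorem cnt_55A : dat.cnt 166 = 75541481476844112566865100800000 := by decide +kernel

/-- type 171 = 66A -/
theorem sg_66A : sg dat val 171 = (66, [(1, -1), (2, 1), (3, 2), (6, 4), (11, -34), (22, 78), (33, -493)]) := by decide +kernel

theorem cnt_66A : dat.cnt 171 = 62951234564036760472387584000000 := by decide +kernel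

end Cfsg.Agent.TAB.B
end

-- part: TAB/B/Fin/DatF
section
set_option linter.all false

/-!
# The 175 rational classes of the Baby Monster: data (helper51, TAB)

The types of `TAB.B.dat`, with 84 split into 84 (16C), 173 (16F) and 90 split into 90 (18A), 174 (18B).
-/

set_option autoImplicit false
set_option maxRecDepth 100000

namespace Cfsg.Agent.TAB.B.Fin

open Cfsg.Agent.TAB.Eng

/-- the data -/
def datF : Dat where
  n := 175
  N := 4154781481226426191177580544000000
  ordL := [1, 2, 2, 2, 2, 3, 3, 4, 4, 4, 4, 4, 4, 4, 4, 4, 4, 5, 5, 6, 6, 6, 6, 6, 6, 6, 6, 6, 6, 6, 7, 8, 8,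
  8, 8, 8, 8, 8, 8, 8, 8, 8, 8, 8, 8, 9, 9, 10, 10, 10, 10, 10, 10, 11, 12, 12, 12, 12, 12, 12, 12, 12, 12,
  12, 12, 12, 12, 12, 12, 12, 12, 12, 12, 12, 13, 14, 14, 14, 14, 14, 15, 15, 16, 16, 16, 16, 16, 16, 16, 17,
  18, 18, 18, 18, 18, 19, 20, 20, 20, 20, 20, 20, 20, 20, 20, 20, 21, 22, 22, 23, 24, 24, 24, 24, 24, 24, 24,
  24, 24, 24, 24, 24, 24, 24, 25, 26, 26, 27, 28, 28, 28, 28, 28, 30, 30, 30, 30, 30, 30, 30, 31, 32, 32, 33,
  34, 34, 35, 36, 36, 36, 38, 39, 40, 40, 40, 40, 40, 42, 42, 42, 44, 46, 47, 48, 48, 52, 55, 56, 60, 60, 60,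
  66, 70, 16, 18]
  cntL := [1, 13571955000, 11707448673375, 156849238149120000, 355438141723665000, 10725600877608960000,
  63622675428068556800000, 11167220161790784000, 37913401783857600000, 20473236963283104000000,
  21838119427501977600000, 43676238855003955200000, 171975190491578073600000, 687900761966312294400000,
  13758015239326245888000000, 28898887395015540080640000, 33019236574382990131200000,
  9367743238695946498867200, 692463580204404365196263424, 37646859080407449600000, 662584719815171112960000,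
  13044636671361181286400000, 103068734193471062016000000, 208714186741778900582400000,
  238530499133461600665600000, 278285582322371867443200000, 391339100140835438592000000,
  417428373483557801164800000, 8348567469671156023296000000, 11131423292894874697728000000,
  7360369687546815106252800000, 10482297325200949248000000, 352205190126751894732800000,
  352205190126751894732800000, 660384731487659802624000000, 704410380253503789465600000,
  2641538925950639210496000000, 2817641521014015157862400000, 7924616777851917631488000000,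
  21132311407605113683968000000, 42264622815210227367936000000, 42264622815210227367936000000,
  50717547378252272841523200000, 126793868445630682103808000000, 338116982521681818943488000000,
  237470363581757326884864000000, 356205545372635990327296000000, 10304517562565541148753920000,
  54098717203469091030958080000, 144263245875917576082554880000, 173115895051101091299065856000,
  216394868813876364123832320000, 432789737627752728247664640000, 3147561728201838023619379200000,
  1043570933708894502912000000, 5565711646447437348864000000, 5635283042028030315724800000,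
  6261425602253367017472000000, 15027421445408080841932800000, 30054842890816161683865600000,
  56352830420280303157248000000, 75137107227040404209664000000, 112705660840560606314496000000,
  150274214454080808419328000000, 200365619272107744559104000000, 225411321681121212628992000000,
  300548428908161616838656000000, 400731238544215489118208000000, 450822643362242425257984000000,
  450822643362242425257984000000, 450822643362242425257984000000, 2704935860173454551547904000000,
  3606581146897939402063872000000, 4808774862530585869418496000000, 13316607311623160869158912000000,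
  7360369687546815106252800000, 883244362505617812750336000000, 883244362505617812750336000000,
  2318516451577246758469632000000, 2318516451577246758469632000000, 1154105967007340608660439040000,
  34623179010220218259813171200000, 338116982521681818943488000000, 338116982521681818943488000000,
  2028701895130090913660928000000, 2028701895130090913660928000000, 2028701895130090913660928000000,
  16229615161040727309287424000000, 16229615161040727309287424000000, 61099727665094502811435008000000,
  3205849908353723912945664000000, 9617549725061171738836992000000, 9617549725061171738836992000000,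
  19235099450122343477673984000000, 19235099450122343477673984000000, 109336354769116478715199488000000,
  108197434406938182061916160000, 1038695370306606547794395136000, 1298369212883258184742993920000,
  1622961516104072730928742400000, 4327897376277527282476646400000, 6491846064416290923714969600000,
  8655794752555054564953292800000, 10386953703066065477943951360000, 25967384257665163694859878400000,
  51934768515330327389719756800000, 16487228100104865838006272000000, 31475617282018380236193792000000,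
  47213425923027570354290688000000, 180642673096801138746851328000000, 1803290573448969701031936000000,
  1803290573448969701031936000000, 1803290573448969701031936000000, 1803290573448969701031936000000,
  1803290573448969701031936000000, 2404387431265292934709248000000, 5409871720346909103095808000000,
  7213162293795878804127744000000, 7213162293795878804127744000000, 21639486881387636412383232000000,
  21639486881387636412383232000000, 21639486881387636412383232000000, 43278973762775272824766464000000,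
  43278973762775272824766464000000, 166191259249057047647103221760000, 39949821934869482607476736000000,
  79899643869738965214953472000000, 153880795600978747821391872000000, 9274065806308987033878528000000,
  9274065806308987033878528000000, 18548131612617974067757056000000, 18548131612617974067757056000000,
  37096263225235948135514112000000, 1154105967007340608660439040000, 11541059670073406086604390400000,
  11541059670073406086604390400000, 17311589505110109129906585600000, 17311589505110109129906585600000,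
  34623179010220218259813171200000, 138492716040880873039252684800000, 268050418143640399430811648000000,
  64918460644162909237149696000000, 64918460644162909237149696000000, 62951234564036760472387584000000,
  122199455330189005622870016000000, 61099727665094502811435008000000, 59354021160377517016822579200000,
  19235099450122343477673984000000, 57705298350367030433021952000000, 115410596700734060866043904000000,
  109336354769116478715199488000000, 106532858492985286953271296000000, 12983692128832581847429939200000,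
  12983692128832581847429939200000, 25967384257665163694859878400000, 51934768515330327389719756800000,
  103869537030660654779439513600000, 16487228100104865838006272000000, 49461684300314597514018816000000,
  49461684300314597514018816000000, 94426851846055140708581376000000, 180642673096801138746851328000000,
  176799211967081965582024704000000, 43278973762775272824766464000000, 43278973762775272824766464000000,
  79899643869738965214953472000000, 75541481476844112566865100800000, 74192526450471896271028224000000,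
  34623179010220218259813171200000, 34623179010220218259813171200000, 69246358020440436519626342400000,
  62951234564036760472387584000000, 59354021160377517016822579200000, 4057403790260181827321856000000,
  6411699816707447825891328000000]
  pwL := [[], [(1, 1)], [(1, 2)], [(1, 3)], [(1, 4)], [(1, 5)], [(1, 6)], [(1, 7), (2, 2)], [(1, 8), (2, 2)],
  [(1, 9), (2, 2)], [(1, 10), (2, 2)], [(1, 11), (2, 4)], [(1, 12), (2, 2)], [(1, 13), (2, 2)], [(1, 14),
  (2, 4)], [(1, 15), (2, 3)], [(1, 16), (2, 4)], [(1, 17)], [(1, 18)], [(1, 19), (2, 5), (3, 1)], [(1, 20),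
  (2, 5), (3, 1)], [(1, 21), (2, 5), (3, 2)], [(1, 22), (2, 6), (3, 1)], [(1, 23), (2, 5), (3, 4)], [(1, 24),
  (2, 5), (3, 3)], [(1, 25), (2, 6), (3, 2)], [(1, 26), (2, 5), (3, 4)], [(1, 27), (2, 6), (3, 4)], [(1, 28),
  (2, 6), (3, 4)], [(1, 29), (2, 6), (3, 3)], [(1, 30)], [(1, 31), (2, 9), (4, 2)], [(1, 32), (2, 8),
  (4, 2)], [(1, 33), (2, 8), (4, 2)], [(1, 34), (2, 9), (4, 2)], [(1, 35), (2, 8), (4, 2)], [(1, 36), (2, 9),
  (4, 2)], [(1, 37), (2, 11), (4, 4)], [(1, 38), (2, 9), (4, 2)], [(1, 39), (2, 12), (4, 2)], [(1, 40),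
  (2, 14), (4, 4)], [(1, 41), (2, 11), (4, 4)], [(1, 42), (2, 13), (4, 2)], [(1, 43), (2, 14), (4, 4)],
  [(1, 44), (2, 16), (4, 4)], [(1, 45), (3, 6)], [(1, 46), (3, 6)], [(1, 47), (2, 17), (5, 1)], [(1, 48),
  (2, 17), (5, 2)], [(1, 49), (2, 17), (5, 3)], [(1, 50), (2, 18), (5, 2)], [(1, 51), (2, 17), (5, 4)],
  [(1, 52), (2, 18), (5, 4)], [(1, 53)], [(1, 54), (2, 21), (3, 8), (4, 5), (6, 2)], [(1, 55), (2, 25),
  (3, 8), (4, 6), (6, 2)], [(1, 56), (2, 21), (3, 7), (4, 5), (6, 2)], [(1, 57), (2, 21), (3, 8), (4, 5),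
  (6, 2)], [(1, 58), (2, 21), (3, 10), (4, 5), (6, 2)], [(1, 59), (2, 27), (3, 11), (4, 6), (6, 4)],
  [(1, 60), (2, 21), (3, 9), (4, 5), (6, 2)], [(1, 61), (2, 21), (3, 10), (4, 5), (6, 2)], [(1, 62), (2, 21),
  (3, 12), (4, 5), (6, 2)], [(1, 63), (2, 26), (3, 11), (4, 5), (6, 4)], [(1, 64), (2, 25), (3, 10), (4, 6),
  (6, 2)], [(1, 65), (2, 21), (3, 13), (4, 5), (6, 2)], [(1, 66), (2, 25), (3, 9), (4, 6), (6, 2)], [(1, 67),
  (2, 28), (3, 11), (4, 6), (6, 4)], [(1, 68), (2, 25), (3, 12), (4, 6), (6, 2)], [(1, 69), (2, 26), (3, 14),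
  (4, 5), (6, 4)], [(1, 70), (2, 27), (3, 14), (4, 6), (6, 4)], [(1, 71), (2, 27), (3, 16), (4, 6), (6, 4)],
  [(1, 72), (2, 28), (3, 14), (4, 6), (6, 4)], [(1, 73), (2, 29), (3, 15), (4, 6), (6, 3)], [(1, 74)],
  [(1, 75), (2, 30), (7, 1)], [(1, 76), (2, 30), (7, 1)], [(1, 77), (2, 30), (7, 3)], [(1, 78), (2, 30),
  (7, 2)], [(1, 79), (2, 30), (7, 4)], [(1, 80), (3, 17), (5, 5)], [(1, 81), (3, 18), (5, 6)], [(1, 82),
  (2, 34), (4, 9), (8, 2)], [(1, 83), (2, 34), (4, 9), (8, 2)], [(1, 84), (2, 38), (4, 9), (8, 2)], [(1, 85),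
  (2, 38), (4, 9), (8, 2)], [(1, 86), (2, 34), (4, 9), (8, 2)], [(1, 87), (2, 43), (4, 14), (8, 4)],
  [(1, 88), (2, 40), (4, 14), (8, 4)], [(1, 89)], [(1, 90), (2, 46), (3, 22), (6, 6), (9, 1)], [(1, 91),
  (2, 46), (3, 25), (6, 6), (9, 2)], [(1, 92), (2, 46), (3, 28), (6, 6), (9, 4)], [(1, 93), (2, 45), (3, 28),
  (6, 6), (9, 4)], [(1, 94), (2, 46), (3, 29), (6, 6), (9, 3)], [(1, 95)], [(1, 96), (2, 48), (4, 17),
  (5, 7), (10, 2)], [(1, 97), (2, 50), (4, 18), (5, 7), (10, 2)], [(1, 98), (2, 48), (4, 17), (5, 7),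
  (10, 2)], [(1, 99), (2, 48), (4, 17), (5, 8), (10, 2)], [(1, 100), (2, 48), (4, 17), (5, 10), (10, 2)],
  [(1, 101), (2, 48), (4, 17), (5, 13), (10, 2)], [(1, 102), (2, 52), (4, 18), (5, 11), (10, 4)], [(1, 103),
  (2, 49), (4, 17), (5, 15), (10, 3)], [(1, 104), (2, 50), (4, 18), (5, 12), (10, 2)], [(1, 105), (2, 52),
  (4, 18), (5, 16), (10, 4)], [(1, 106), (3, 30), (7, 5)], [(1, 107), (2, 53), (11, 1)], [(1, 108), (2, 53),
  (11, 2)], [(1, 109)], [(1, 110), (2, 57), (3, 35), (4, 21), (6, 8), (8, 5), (12, 2)], [(1, 111), (2, 60),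
  (3, 31), (4, 21), (6, 9), (8, 5), (12, 2)], [(1, 112), (2, 57), (3, 33), (4, 21), (6, 8), (8, 5), (12, 2)],
  [(1, 113), (2, 57), (3, 32), (4, 21), (6, 8), (8, 5), (12, 2)], [(1, 114), (2, 57), (3, 35), (4, 21),
  (6, 8), (8, 5), (12, 2)], [(1, 115), (2, 66), (3, 31), (4, 25), (6, 9), (8, 6), (12, 2)], [(1, 116),
  (2, 60), (3, 34), (4, 21), (6, 9), (8, 5), (12, 2)], [(1, 117), (2, 59), (3, 37), (4, 27), (6, 11), (8, 6),
  (12, 4)], [(1, 118), (2, 63), (3, 37), (4, 26), (6, 11), (8, 5), (12, 4)], [(1, 119), (2, 70), (3, 40),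
  (4, 27), (6, 14), (8, 6), (12, 4)], [(1, 120), (2, 66), (3, 36), (4, 25), (6, 9), (8, 6), (12, 2)],
  [(1, 121), (2, 63), (3, 41), (4, 26), (6, 11), (8, 5), (12, 4)], [(1, 122), (2, 71), (3, 44), (4, 27),
  (6, 16), (8, 6), (12, 4)], [(1, 123), (2, 68), (3, 39), (4, 25), (6, 12), (8, 6), (12, 2)], [(1, 124),
  (5, 18)], [(1, 125), (2, 74), (13, 3)], [(1, 126), (2, 74), (13, 1)], [(1, 127), (3, 45), (9, 6)],
  [(1, 128), (2, 78), (4, 30), (7, 8), (14, 2)], [(1, 129), (2, 78), (4, 30), (7, 9), (14, 2)], [(1, 130),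
  (2, 78), (4, 30), (7, 7), (14, 2)], [(1, 131), (2, 78), (4, 30), (7, 10), (14, 2)], [(1, 132), (2, 79),
  (4, 30), (7, 11), (14, 4)], [(1, 133), (2, 80), (3, 47), (5, 20), (6, 17), (10, 5), (15, 1)], [(1, 134),
  (2, 80), (3, 47), (5, 19), (6, 17), (10, 5), (15, 1)], [(1, 135), (2, 80), (3, 49), (5, 24), (6, 17),
  (10, 5), (15, 3)], [(1, 136), (2, 80), (3, 51), (5, 23), (6, 17), (10, 5), (15, 4)], [(1, 137), (2, 80),
  (3, 48), (5, 21), (6, 17), (10, 5), (15, 2)], [(1, 138), (2, 81), (3, 52), (5, 27), (6, 18), (10, 6),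
  (15, 4)], [(1, 139), (2, 81), (3, 50), (5, 25), (6, 18), (10, 6), (15, 2)], [(1, 140)], [(1, 141), (2, 85),
  (4, 38), (8, 9), (16, 2)], [(1, 142), (2, 84), (4, 38), (8, 9), (16, 2)], [(1, 143), (3, 53), (11, 5)],
  [(1, 144), (2, 89), (17, 1)], [(1, 145), (2, 89), (17, 3)], [(1, 146), (5, 30), (7, 17)], [(1, 147),
  (2, 91), (3, 55), (4, 46), (6, 25), (9, 8), (12, 6), (18, 2)], [(1, 148), (2, 91), (3, 64), (4, 46),
  (6, 25), (9, 10), (12, 6), (18, 2)], [(1, 149), (2, 93), (3, 67), (4, 45), (6, 28), (9, 11), (12, 6),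
  (18, 4)], [(1, 150), (2, 95), (19, 1)], [(1, 151), (3, 74), (13, 5)], [(1, 152), (2, 99), (4, 48), (5, 33),
  (8, 17), (10, 8), (20, 2)], [(1, 153), (2, 99), (4, 48), (5, 32), (8, 17), (10, 8), (20, 2)], [(1, 154),
  (2, 99), (4, 48), (5, 35), (8, 17), (10, 8), (20, 2)], [(1, 155), (2, 101), (4, 48), (5, 42), (8, 17),
  (10, 13), (20, 2)], [(1, 156), (2, 102), (4, 52), (5, 37), (8, 18), (10, 11), (20, 4)], [(1, 157),
  (2, 106), (3, 75), (6, 30), (7, 20), (14, 5), (21, 1)], [(1, 158), (2, 106), (3, 76), (6, 30), (7, 19),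
  (14, 5), (21, 1)], [(1, 159), (2, 106), (3, 77), (6, 30), (7, 24), (14, 5), (21, 3)], [(1, 160), (2, 108),
  (4, 53), (11, 7), (22, 2)], [(1, 161), (2, 109), (23, 2)], [(1, 162)], [(1, 163), (2, 116), (3, 82),
  (4, 60), (6, 34), (8, 21), (12, 9), (16, 5), (24, 2)], [(1, 164), (2, 116), (3, 83), (4, 60), (6, 34),
  (8, 21), (12, 9), (16, 5), (24, 2)], [(1, 165), (2, 125), (4, 74), (13, 15), (26, 3)], [(1, 166), (5, 53),
  (11, 17)], [(1, 167), (2, 129), (4, 78), (7, 31), (8, 30), (14, 9), (28, 2)], [(1, 168), (2, 137), (3, 96),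
  (4, 80), (5, 56), (6, 48), (10, 21), (12, 17), (15, 7), (20, 5), (30, 2)], [(1, 169), (2, 137), (3, 100),
  (4, 80), (5, 58), (6, 48), (10, 21), (12, 17), (15, 10), (20, 5), (30, 2)], [(1, 170), (2, 138), (3, 102),
  (4, 81), (5, 59), (6, 52), (10, 27), (12, 18), (15, 11), (20, 6), (30, 4)], [(1, 171), (2, 143), (3, 107),
  (6, 53), (11, 19), (22, 5), (33, 1)], [(1, 172), (2, 146), (5, 75), (7, 47), (10, 30), (14, 17), (35, 1)],
  [(1, 173), (2, 38), (4, 9), (8, 2)], [(1, 174), (2, 46), (3, 22), (6, 6), (9, 1)]]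

/-- the traces on the space of dimension 4371 -/
def valF : List ℤ :=
  [.ofNat 4371, .negSucc 492, .ofNat 275, .negSucc 52, .ofNat 19, .ofNat 78, .negSucc 2, .negSucc 76,
  .ofNat 51, .ofNat 19, .negSucc 20, .ofNat 35, .negSucc 12, .ofNat 11, .ofNat 3, .negSucc 0, .negSucc 4,
  .ofNat 21, .negSucc 3, .negSucc 33, .ofNat 20, .ofNat 14, .negSucc 6, .ofNat 4, .negSucc 7, .ofNat 5,
  .negSucc 1, .ofNat 13, .ofNat 1, .ofNat 1, .ofNat 10, .negSucc 20, .ofNat 7, .negSucc 8, .ofNat 11,
  .negSucc 0, .negSucc 4, .negSucc 4, .ofNat 3, .negSucc 0, .ofNat 7, .ofNat 3, .negSucc 0, .negSucc 0,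
  .negSucc 0, .negSucc 2, .ofNat 6, .ofNat 7, .ofNat 5, .negSucc 2, .ofNat 0, .negSucc 0, .ofNat 4, .ofNat 4,
  .negSucc 11, .negSucc 2, .ofNat 4, .ofNat 6, .negSucc 5, .ofNat 5, .negSucc 1, .ofNat 0, .negSucc 3,
  .ofNat 2, .negSucc 2, .ofNat 2, .ofNat 1, .negSucc 0, .ofNat 5, .ofNat 0, .negSucc 2, .ofNat 1, .ofNat 3,
  .negSucc 0, .ofNat 3, .negSucc 9, .ofNat 4, .negSucc 3, .ofNat 2, .negSucc 1, .ofNat 3, .ofNat 2, .ofNat 3,
  .negSucc 4, .ofNat 3, .negSucc 0, .negSucc 0, .ofNat 1, .ofNat 1, .ofNat 2, .ofNat 2, .ofNat 2, .negSucc 1,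
  .ofNat 1, .negSucc 1, .ofNat 1, .negSucc 6, .negSucc 1, .ofNat 3, .ofNat 1, .negSucc 0, .ofNat 1, .ofNat 0,
  .negSucc 0, .ofNat 2, .ofNat 0, .ofNat 1, .ofNat 2, .ofNat 0, .ofNat 1, .ofNat 2, .ofNat 0, .ofNat 0,
  .negSucc 1, .negSucc 3, .negSucc 2, .ofNat 2, .ofNat 1, .negSucc 1, .ofNat 1, .ofNat 1, .ofNat 0,
  .negSucc 0, .negSucc 0, .ofNat 1, .negSucc 0, .ofNat 1, .ofNat 0, .ofNat 2, .negSucc 1, .ofNat 0, .ofNat 0,
  .ofNat 0, .negSucc 4, .ofNat 1, .negSucc 2, .negSucc 0, .negSucc 0, .negSucc 1, .ofNat 0, .ofNat 0,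
  .ofNat 1, .negSucc 0, .ofNat 1, .ofNat 0, .negSucc 1, .ofNat 0, .ofNat 0, .ofNat 0, .negSucc 0, .ofNat 1,
  .ofNat 0, .ofNat 1, .negSucc 2, .negSucc 0, .negSucc 0, .ofNat 0, .negSucc 0, .ofNat 1, .negSucc 0,
  .ofNat 0, .negSucc 0, .ofNat 0, .ofNat 0, .negSucc 1, .negSucc 0, .negSucc 0, .ofNat 0, .negSucc 0,
  .negSucc 0, .ofNat 0, .negSucc 0, .ofNat 0, .ofNat 3, .ofNat 2]

/-- the numbers of the commuting involutions of type 2B -/
def piN : List ℕ :=
  [11707448673375, 3146667615, 269689951, 4524975, 4549215, 1216215, 4374, 1525151, 841375, 26463, 82927,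
  32511, 23327, 19503, 2367, 1755, 847, 5775, 250, 63063, 12915, 6103, 270, 1683, 1323, 262, 1239, 54, 30,
  18, 315, 4159, 943, 1423, 639, 1183, 383, 135, 143, 47, 71, 135, 91, 71, 27, 0, 27, 315, 111, 75, 26, 75,
  10, 15, 595, 190, 371, 199, 271, 30, 39, 91, 83, 39, 10, 63, 30, 30, 14, 27, 6, 10, 6, 0, 0, 315, 21, 21,
  27, 27, 15, 4, 7, 55, 11, 11, 15, 3, 3, 0, 15, 7, 3, 0, 3, 0, 31, 26, 11, 15, 7, 3, 6, 5, 2, 2, 0, 3, 3, 1,
  7, 7, 19, 7, 19, 10, 3, 6, 3, 2, 2, 3, 0, 2, 0, 0, 0, 0, 3, 3, 5, 5, 3, 15, 3, 3, 3, 3, 4, 2, 0, 1, 1, 0,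
  0, 0, 0, 1, 1, 0, 0, 0, 3, 3, 3, 1, 0, 0, 0, 0, 1, 1, 0, 1, 1, 0, 0, 1, 1, 1, 0, 0, 0, 3, 3]

/-- the same as integers -/
def piF : List ℤ :=
  [.ofNat 11707448673375, .ofNat 3146667615, .ofNat 269689951, .ofNat 4524975, .ofNat 4549215,
  .ofNat 1216215, .ofNat 4374, .ofNat 1525151, .ofNat 841375, .ofNat 26463, .ofNat 82927, .ofNat 32511,
  .ofNat 23327, .ofNat 19503, .ofNat 2367, .ofNat 1755, .ofNat 847, .ofNat 5775, .ofNat 250, .ofNat 63063,
  .ofNat 12915, .ofNat 6103, .ofNat 270, .ofNat 1683, .ofNat 1323, .ofNat 262, .ofNat 1239, .ofNat 54,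
  .ofNat 30, .ofNat 18, .ofNat 315, .ofNat 4159, .ofNat 943, .ofNat 1423, .ofNat 639, .ofNat 1183,
  .ofNat 383, .ofNat 135, .ofNat 143, .ofNat 47, .ofNat 71, .ofNat 135, .ofNat 91, .ofNat 71, .ofNat 27,
  .ofNat 0, .ofNat 27, .ofNat 315, .ofNat 111, .ofNat 75, .ofNat 26, .ofNat 75, .ofNat 10, .ofNat 15,
  .ofNat 595, .ofNat 190, .ofNat 371, .ofNat 199, .ofNat 271, .ofNat 30, .ofNat 39, .ofNat 91, .ofNat 83,
  .ofNat 39, .ofNat 10, .ofNat 63, .ofNat 30, .ofNat 30, .ofNat 14, .ofNat 27, .ofNat 6, .ofNat 10, .ofNat 6,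
  .ofNat 0, .ofNat 0, .ofNat 315, .ofNat 21, .ofNat 21, .ofNat 27, .ofNat 27, .ofNat 15, .ofNat 4, .ofNat 7,
  .ofNat 55, .ofNat 11, .ofNat 11, .ofNat 15, .ofNat 3, .ofNat 3, .ofNat 0, .ofNat 15, .ofNat 7, .ofNat 3,
  .ofNat 0, .ofNat 3, .ofNat 0, .ofNat 31, .ofNat 26, .ofNat 11, .ofNat 15, .ofNat 7, .ofNat 3, .ofNat 6,
  .ofNat 5, .ofNat 2, .ofNat 2, .ofNat 0, .ofNat 3, .ofNat 3, .ofNat 1, .ofNat 7, .ofNat 7, .ofNat 19,
  .ofNat 7, .ofNat 19, .ofNat 10, .ofNat 3, .ofNat 6, .ofNat 3, .ofNat 2, .ofNat 2, .ofNat 3, .ofNat 0,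
  .ofNat 2, .ofNat 0, .ofNat 0, .ofNat 0, .ofNat 0, .ofNat 3, .ofNat 3, .ofNat 5, .ofNat 5, .ofNat 3,
  .ofNat 15, .ofNat 3, .ofNat 3, .ofNat 3, .ofNat 3, .ofNat 4, .ofNat 2, .ofNat 0, .ofNat 1, .ofNat 1,
  .ofNat 0, .ofNat 0, .ofNat 0, .ofNat 0, .ofNat 1, .ofNat 1, .ofNat 0, .ofNat 0, .ofNat 0, .ofNat 3,
  .ofNat 3, .ofNat 3, .ofNat 1, .ofNat 0, .ofNat 0, .ofNat 0, .ofNat 0, .ofNat 1, .ofNat 1, .ofNat 0,
  .ofNat 1, .ofNat 1, .ofNat 0, .ofNat 0, .ofNat 1, .ofNat 1, .ofNat 1, .ofNat 0, .ofNat 0, .ofNat 0,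
  .ofNat 3, .ofNat 3]

theorem okLen : datF.okLen := ⟨by decide +kernel, by decide +kernel, by decide +kernel⟩

end Cfsg.Agent.TAB.B.Fin
end

-- part: TAB/B/Fin/Cols
section
prune_inst 0x1020710574000000081c0002e2007ec7f3000192006bc001ed440a040ecdaf63a045af21f6f0031399f4befc787bc04811000179023800002a00be00411b00800caffae6f7fdbf043f0086c1f885190c00000000000000000000000000000000004010000
set_option linter.all false

/-- decoders of the packed data (elaboration time only) -/
private noncomputable def pk61d (b S i : Nat) : Nat := Nat.mod (Nat.shiftRight S (Nat.mul b i)) (Nat.shiftLeft (nat_lit 1) b)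
private noncomputable def pk61c {α : Type} (t : Nat) (a : α) (f : Nat → α) : α := Nat.rec a (fun k _ => f k) t
private noncomputable def pk61f {α : Type} (t : Nat) (f : Nat → α) : α := Nat.rec (f Nat.zero) (fun k _ => f (Nat.succ k)) t
private noncomputable def pk61z (t : Nat) : Int := pk61f t fun t =>
  pk61c (Nat.mod t (nat_lit 2)) (Int.ofNat (Nat.div t (nat_lit 2))) fun _ => Int.negSucc (Nat.div t (nat_lit 2))
private noncomputable def pk61l {α : Type} (f : Nat → α) (s e : Nat) (tl : List α) : List α :=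
  pk61f e fun e => Nat.rec tl (fun k ih => List.cons (pk61f (Nat.sub e (Nat.succ k)) f) ih) (Nat.sub e s)

/-!
# The table of the Baby Monster: data (helper51, TAB)

The first 166 rows are irreducible characters, the last 9 are sums of two; the table is given by its columns.
-/

set_option autoImplicit false
set_option maxRecDepth 100000

namespace Cfsg.Agent.TAB.B.Fin

open Cfsg.Agent.TAB.Eng

/-- the values at 1A -/
noncomputable def col0 : List ℤ :=
  (by
  refine (?fq9001 : ((pk61l (fun i1 => (pk61z (pk61d (nat_lit 56) (Nat.add 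
    (nat_lit 0xb36d4001274036906b0e9082ac35d396399473103197a8d2971410314574fd5968002f8ce9d843ee402d94cdfdcadbda2a936ed3bd7bc626f9710a6738c4255b24bb9185ee255b24bb9185ee251e5346dc361024e3a64000000022f502118e1a2c21ae7af9301e1821ae7af9301e1820fe82e9a74c8020d375cbd79f62207a88de00af4e1e337270cb00001e10e22c98c5641e10e22c98c5641dcc9e68e490001d19d2b26f34a01ce8d979a6966a1b4835874841561a1377fab9e5c01942dc3ae416921942dc3ae4169218a632b07b2cb615cdc915ee8ec01540ff35ae765014fb3d942c39b814ab114774cca613d0dc5ce2000013668c76f4cdc012c70000000000128f29a36e1b08123a1a7d26140011526b21116e900f172db8f300000db402dbdfa3dc0cd7c1410800000c29b8d1ff40000bee9842111a000ad382f4aae51a0a5dc664872db809e282b2ded12e09bdca4deff63a09bdca4deff63a0883e2f725e58e07c5cd9bf769680768c2acd5a00006e14c19b200000601094de9b80005efcc623ba00005d45a34f98f0e05c04c0afaa840058283cd18857a051ba7112700000514552ef86a0004cf80590e341004b9aea3ef000004b9aea3ef000004b5e50b718f5404a3ca68db86c20497caf36f49ec043b08a2160000042236a7e428ee04016b2c94145403015f2a0d601402bfe03e23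466002974489527878027aed97ef4bc20205594c642ac40205594c642ac401d9e36d61482a019b6ef3dc998a017feead879ac0017fa8f84c4d44014ac5c0d35a00012808b2f22efa01000c0286b44000e09e6f11000000d956edd6600000d78342c8e2b600acc50149d27000a307b40a0d7a008e88eddce7360055ab6ed23d80004a7f8c063b68004651a4e030b20045c1a1823c98004036c6452800002cb2ed9d56d80028a6d3206dc0002448174f80ac0023023170a494001faca6a2de0c0017840f1bd3660013be2849bc00001327372a5b1800129fe3018eda00129fe3018eda00121d4ce4ac2a000eda247d5d18000d55f577040e000c2eb63ea42c000c0a452cf780000b2de075b7c8000b2cbb6755b60008cc672d3dae0007f58ef5b9c40004c61e03b95a00037ce1ace96e0001fe55ad28d400012a999e821a000128251533c0000100d5c8ec640000f9a4ca772e000090399aacee0000490c981200000032742e11c40000257392f200000023515372d600000cc4439ff60000064a5434c0000005d25415be0000045319e444000002271821ac000001fda9b5b0000001f73a507c0000017f3a317a000000a7be1ad40000002a71eace000000297139d40000000792db8a000000012376560000000120a87c0000000022c55c0000000002effe0000000000222600000000000002) (Nat.shiftLeft 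
    (nat_lit 0xb08f65e0240000880c808bbf3d443d8ee865649f00004da87bde2300002b41afe98d6c001e7bff36d428000ee7f14b426c0000eb9c40e2540000549221bd1c75944b8b20fe00650b70eb905a48639475dfb20000630e5a62a54a005cb329c6000000543a8000000000543a800000000050def0433c6000483362f65bf3cc4801aefa0d000045f43a7bb2b4a8443088218fbb9643fecc4d39fd6c43e9e6cb22df0041738000000000417380000000003e5841f2cc8e403d2072e44b00003b9b34c20946e23b5737a8dcae0237dfa904ac8e0037cd36d654f0a837064784fdf80036) (nat_lit 8000))) i1))) (nat_lit 0) (nat_lit 175) List.nil) : List ℤ)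
    = ?xq9001 → (List ℤ)) ?hq9001; (case hq9001 => (set_option maxRecDepth 1000000 in conv => lhs; reduce)); intro _; exact ?xq9001 : List ℤ)

/-- the values at 2A -/
noncomputable def col1 : List ℤ :=
  (by
  refine (?fq9002 : ((pk61l (fun i1 => (pk61z (pk61d (nat_lit 39) 
    (nat_lit 0x67dd100000eb2815f5dcfb0825f00015a8339fe028bacca4c066ac7214000a261d93001afaeca800348904717da595f00182275b24819f74400004898f6280060affffff9fffffffff400000000059dc498001894483619a05622ffff10647466aeb9b5afd1a5725c7b14990b9969f003ffffffffe8000000001edb87d0dfb7c964ffff2c9eb0ae3a1bcf8c8ff46120ed8ff8de14e80a84aed840ffe9f5ee41d000c4af7aa9a4030eab100639eb27de7bf4625ffd0c9c86f200fb54f08254963fec78c49c4946ceca5f40f7f714be81efee33a562e3de00000000007cdfcb11600f2d251e7341034ac309adc5632011fdfb1e4e80ea263cb149e6360000d2b14f359023514994d8679a96fff444b2709407bae7bb1a902ae4be54843734fa3f29e49e76da331d625a492df88dfa49b4c37213f31e0dd3ca0a0e33bb91d3063a595325cd6200002d876f5b8000000000004b1b80d8411582a6bff215a1192de68be0c00004aa3a9e11991db7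ffff1633697ffe62def297fc761180c7298e55102472ef3aad65c45ce4788e8956549be295e1b448711957b1ad2e5568c17ffc072d10000062e5047ff2307fb40000bcbb43c3884d0e7c200bfeeb6b7a17d3ae0000046a3957fc618fee9f78b9ddf0000255441fffe393bca3d5047a2cf3610d9e930213195f53fffe22da96b3b811cb6682a064e2dac141861c7d33e1932563e1c58db8621e8219fc12c4157866a588241c8690a826ed659c5022904bac0055ea30a882125a668002d8beaf828414c0dbbf0b5cfdfffe11446e7ffc1d8fb51a4845fb6558f08204eb2f410c93f74d8148414ec001f5d4cb6804b60ca1640216e62d9c025ac9400012d1946d802e53e3b8003d197e2b00ec50de4a015330b9f302c093313200eccf0ffc0277a6273807d7532da0241ea524a01d25f1f540315cb28c00cee723f1018d893fa601ca5e5e0004df31fe4004b4651b600fd3a6b5c0238a8b71002cae6b5280544b34910074817e5600a5f8f868014e0b1e00008021c64003fc48a5c003b3b74440071ca900000a1929c40014f99bfe001afaeca40023cde04800239fb3f0003bddc820007f91110000b1ded60001386db000003cff060001756de800030d29580003a0b3100005c3ba800003921d400001d22b000003a07c000001a54600000097f80000001ec8000000002) i1))) (nat_lit 0) (nat_lit 175) List.nil)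 : List ℤ)
    = ?xq9002 → (List ℤ)) ?hq9002; (case hq9002 => (set_option maxRecDepth 1000000 in conv => lhs; reduce)); intro _; exact ?xq9002 : List ℤ)

/-- the values at 2B -/
noncomputable def col2 : List ℤ :=
  (by
  refine (?fq9003 : ((pk61l (fun i1 => (pk61z (pk61d (nat_lit 34) 
    (nat_lit 0x1ee24000043557f51273189f0004fd773fc00a18d6c01088af5c0512bd93000da895000987d1c3f2ac07fc36ff25b738d37fffde4aeb5ff7e7fffffc00000000000000000a9dc60003bba030cc500d00002ac732d5c919544693f7c7f5b15fc920ff0000000000000000000af1c6fce44b000006e2d647559c7b1fd0a17dc7fc59a80f57032081ffc10c4d8bf0de8ff54c174ef3104e521afbc4f8697ff528c3b9017a3de4252977c10e5a78378c42b3c66845099865ee43bf2d841bfffffff69fe668b0a274e1e7437aa7860588cb37f073d17d89517c6f4e1c32c0000bfb445642fed1159177bb6fff215c72d7c581db66a4a1d68558b5901a3f68a7eda485e5816924abd3b2d82fbd8ec034fb7d941167cb9b81f94bb29962e2000045ffb37000000000057eb86c21244e14003e7fbba40acf300003502e8f70050800003f4fd0000c51d1a0015b091468dca62db82440ac4b81616363a3a0e158e8ab80458e0741da5a04d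35a00045ac800003689b8002a86e800015c58f0e41b26a1006ef8a57a27c9c000003ab95ff39b32d040b5ef00002d7bc00006d638f5415fae1b084c1d09ec160580000d7e6e8ee18c0d51503c87a01412be9198099ccf87825b112f085e05aac417816ab105da4882a0017619d482bd9ac01c8f33510799f5a0019e5a3be8267bb44011c4400004cf6600017db30ad8538a52700f95135e82dc2073605c10f60008013b680abc8c2c83584bc98031eb5ffc260256d806885b7000bfc00ac09b7c925010585e0c06f6e4d981801bc00052816c6002004eda046443b6806ecec2a0377b7460130f840e035a790b0130af78003cdcdf20098095b603b56f6b808c379c40296ae5680822496e01cfea350043dc21a013f8cf00045fec6400ac85cb80341ccee007d0480001d091c4004fbc8000067d2d6003097fd8006b34c0000fd56f80039e444000f586b0003435b0000c541f00025117a000606b50000ccace0002fe75000041b8a0000459580001287c00001157000000ffe00000089800000002) i1))) (nat_lit 0) (nat_lit 175) List.nil) : List ℤ)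
    = ?xq9003 → (List ℤ)) ?hq9003; (case hq9003 => (set_option maxRecDepth 1000000 in conv => lhs; reduce)); intro _; exact ?xq9003 : List ℤ)

/-- the values at 2C -/
noncomputable def col3 : List ℤ :=
  (by
  refine (?fq9004 : ((pk61l (fun i1 => (pk61z (pk61d (nat_lit 27) 
    (nat_lit 0xf546d239d7d0007c6a001034bb009d55404ebb1301bf69601cf60da701ff863247700000008ff6ffc0000001ffffff3fffffe450fffd6249d98ac200020181d02ed8458781d69b9d7d004000000800000071a11f8681fff33386db2238248fdce001b4882800000007abf6fcf0ea89822fdd01ac4ba0a933ffc74a360034698528286f2076f891695fcf2d2bf9e62a2fa000000011b86f6508da184639d4e1847a01d1d2e11b5e1110d03ffe77ca56cddbc322a4cfff529e6401c91d157a3a7c908613f1df30451f199b4191bcb0b7084032ce32014e2a1c0421849143fff210c27f00000028313bbb36a8001f6525e7018000504e2e0000000450fffe45ed00117221aa104f383eff2c2833f568fb05caaca17812a433d045100000000002a4d0002b0800041efa381a701f9a64bca1583ffe7ee6ffc67306817c60001583ffe210d0506ba841073aa8c22880003f340c4bf7f5a10cd9f413e55c0337a51c7a70e10c1a8841cab2f64a033289c263d03b59c00b45c880252ffc0bcbf507224c00d04000340fffc252dac807d2cf05681b40ec90e421054000152680b7789a1e7769c0000000338dd80dc8480054fab0049455843ff33074fcf20c160000712b3810317a0147d4a082cd282eed6c046894e0078b180549a002119c4022b329039cca20a7c7900a68f280b635e010645601dca1401f020005c6db02b8ffc01426f801ba000034e040066800013d41800ac7480419bf004043c00aa11000a4398017b70002b986002cca800626a0000ac100013e8000965400030c8001b3c0000c3800003380000348000002)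 i1))) (nat_lit 0) (nat_lit 175) List.nil) : List ℤ)
    = ?xq9004 → (List ℤ)) ?hq9004; (case hq9004 => (set_option maxRecDepth 1000000 in conv => lhs; reduce)); intro _; exact ?xq9004 : List ℤ)

/-- the values at 2D -/
noncomputable def col4 : List ℤ :=
  (by
  refine (?fq9005 : ((pk61l (fun i1 => (pk61z (pk61d (nat_lit 27) 
    (nat_lit 0xe10000198cb5dc2bdf00011c6000e4ca4c237deb800a26c010835600a5b8c91e0ff98ca2483fbfffe81fd7fd000000000000000000008867ffc9049e62a2ffff243795047151a426714993be0ff000000000000006040df85b00002a179c4507a008e618ff93620a81640ffe328e2fd5f0d560d05b101feb82048da0001960df8f7f02537018722bc8ced05e9f72efec1102efc2000000005db91601c4e182a80c304b032001b15b108bcb4e649fffe53c8a6c0a114d9aa900019349404aa21a86cabab2c045c008fa1242b3a5b43e845b0f4fec0140a35e05806e0b6c8ac922000046b247e00000008c0d840cf6bff0cd0d2030c0000ade1ee037ffff04680003b897fcb5fd8d110e2473be21a260c68e801e1e28ba6b8e063ad2e08e800001000018447ff03cbffe7ca3c38448c201a4677a251fffe0a757fc1051f785f00000be000027f3d509833610703a131d3fffe1beac4447342a0bbe414059933e3a481e01fb21e92d62c40b8ba764bcf0a87ebbc5099fac00d21576100680007758282d7bbf07dfffe08180000fb05b037658f19722f41d91b242c2ec00236b68075de9a154926028940004b59270a1fb8016fa2b007364a01f160c031decc02b0ffc0d4273832dada009324a050c0a8041a8c01933f100cf05807f5e001b87e401729b600d4b5c0c7d71004e4ad0001f6e00ce1a8038a7940721e0002439b01ca25c000fbb80116ff80259c40049bfe0071ca4000a0480124c0001ac8200b11100035298021db000240f8004021400329580018ce0008ba80003e280007d4800107c000054600007f80000130000002)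 i1))) (nat_lit 0) (nat_lit 175) List.nil) : List ℤ)
    = ?xq9005 → (List ℤ)) ?hq9005; (case hq9005 => (set_option maxRecDepth 1000000 in conv => lhs; reduce)); intro _; exact ?xq9005 : List ℤ)

/-- the values at 3A -/
noncomputable def col5 : List ℤ :=
  (by
  refine (?fq9006 : ((pk61l (fun i1 => (pk61z (pk61d (nat_lit 24) 
    (nat_lit 0x84aa7f000000000000148cf0092a170000000000000168ef00a7931f935c24a85f7335c01a078439e4004dffff4dffff3d454f000000534b3f01960d3943bc00000000000021ffff21ffff1ca1dd300cbf2ba63300000004f2e34446e90000001d750413cb8f4f88be6fed1e00fa403947151ca1de1a0783317ce8000000000000556cf17d200036a9610866960866961254306539ac05e43418cb40065cdb065cdb83f7c0527ad84f88bd09e5c732678434b20a4706390b032e02a84636a962119eb0509af55f98800dbf242bffff0bc867235938422e2616554036a962082cff41fbe03943bb2746af534b40527ad81ca1dd1ca1dd484812326783050fef3951c002cca041ac9019e839335cca119eb0534b401ff1344f88be494340494340029a5a1d75034770de25b4805cfa3036a96136a9621609cb2b78e827972000bbaf00bbaf0b032e0000004c59b44ae26c54e304492be236a9622d96c02fce304f88be485b7a1e70622d3f00065cdc00d3263943bc250ab203c6e022a43c180c360da84a314094008cc320956e1d60e81c945e0d32600d3260037dbf0a65c01a07841888501d46b40e41da0279711992b802fefe16241a119eb01118880c5f3a0b032e0a4676065cdc09ac32076f140706ac0529a40007d103f28a01be5e019968009a2c01c86c014bce01243200ff3c00c41e008e66007ec0003f120017760015520007d00002be00009c000002)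 i1))) (nat_lit 0) (nat_lit 175) List.nil) : List ℤ)
    = ?xq9006 → (List ℤ)) ?hq9006; (case hq9006 => (set_option maxRecDepth 1000000 in conv => lhs; reduce)); intro _; exact ?xq9006 : List ℤ)

/-- the values at 3B -/
noncomputable def col6 : List ℤ :=
  (by
  refine (?fq9007 : ((pk61l (fun i1 => (pk61z (pk61d (nat_lit 18) 
    (nat_lit 0x90ff00000000011f804740000006683031b01c5b288bc6b57353fc00003d7fc78001e000ec400000000004f5d400000cd099a1045ffd17ff00000d37f0000100491d1bc00003342030841fa4155b800000417852da000000000136140000000003650d180000001a3d868f61330731d54535116800556e155b8596f19d6caadc0fd222704316c49006000016f080000000003bda4e87f41a2d90003083c32a04d2b086ff00001f3005ccfc0000158880000263b800000000000000d90534bf08400f34800000ecf4010dc00000000065402ab6c617f185fc00004c334d494036000db500000000000b90d1ba246305a1e16878000033420111c00000455f155b40000035fc307f155b843802e7e89e34111608b6d00000000019ee0505e010dc60301382c232805c5413af015142fab0beac27a60b834000004d5417b801d88125904d08013d032a0000000ca40654000001ab7044580fd2006bc0945003bc168e02b440ba00286807fe00ac804a400e88021c004d8013f006d4010e000300031001a40036000140002)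 i1))) (nat_lit 0) (nat_lit 175) List.nil) : List ℤ)
    = ?xq9007 → (List ℤ)) ?hq9007; (case hq9007 => (set_option maxRecDepth 1000000 in conv => lhs; reduce)); intro _; exact ?xq9007 : List ℤ)

/-- the values at 4A -/
noncomputable def col7 : List ℤ :=
  (by
  refine (?fq9008 : ((pk61l (fun i1 => (pk61z (pk61d (nat_lit 23) 
    (nat_lit 0x2cf0e230570006d6002ca5b044eeb80a26c03865602598c784ff93f9480000006fb7fc00000000000000000897fff8fee62c00009d70ae33a6593fc49cb68ff0000000000030502000000047c9bacbef0a1fcffa212a881f000f1b2fd1ccd61526102369def0a0020e5dfc9935ab486720da1124426893852e8afa200000010fe9605dfe73f723060adfd7ac0ea5e4310000002d51919003204d0004c52bf965b55da33489663f8c675af335b5fda6487b0c0a0eea0c25d1e9894ce400004d738000000054984157bffcdd8de00000173d11b800003c7ffe8a88017e5ad5af847c4ccdcbee11414bc2bc5a317c8ad08980000000005780086c000246c3af15202b183ac80000734802c8877e40000c7fffe2675514299eaef19357ffff55a5b815515b30b9426f0c10be21d8ff1e9db9c400b4766b1ea88479a926ec054548971880283862b5b5bf6fffff0d7ffe35f04c08e8f4e21f4b887d84bcc00782977161643e619c05400208cd83ed7804bd6b1b2eca00490c4c98320fcffc6b27387255a22bc4a0c96a84950c1b5cf1311ca6516e0092e640216c9276d5c19a9109fd52932c5121cc56304e68620e002bc640db5dc18a9443bd0005f6c40a8bfe0084581e8c481d93f02e18202f9100e1960160b0007f060222e804795808ff100e0a800ebd400b0b00157c000f46000af80004c800002)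 i1))) (nat_lit 0) (nat_lit 175) List.nil) : List ℤ)
    = ?xq9008 → (List ℤ)) ?hq9008; (case hq9008 => (set_option maxRecDepth 1000000 in conv => lhs; reduce)); intro _; exact ?xq9008 : List ℤ)

/-- the values at 4B -/
noncomputable def col8 : List ℤ :=
  (by
  refine (?fq9009 : ((pk61l (fun i1 => (pk61z (pk61d (nat_lit 23) 
    (nat_lit 0x13ffffe30a1daab70001e9fe1265b036d1400a26c027da80a4e701d4ff92dab74ffffe16c80000000000000000000657ffd20ae600000014b8ae3386585384988f700000000000001c84201c0000004fba1cdb0874cff847aa815f0002a0d00555298a7def1d11de34a0003e9df91795a56a18cd5c6ec6ee171a01d1012dde00000108b698297e71b55ceb9d2004a0f12b7a3138000155c190de1cd822fff3d7d4098a0a86634b02d63f4cb15a1c0a48f8e9b1bd8c008a95ee2d2e2962331c000005ac7e000000e167b96bbff2ed0de700000e6111b80000387ffecd0800af02d1dcfb8448edc94d6e8cdebd2392ce3aead10580013ffff8187ff3cc0000a2c38aa9200ee73a0000001c37fc14a77800000700000a0d5508826118f86c3800004872440e1ea02be6b7c40c014b21d26ce106ea3b792388a536a8854e519013f2a63768c080044e1d048240380000268000302848b3d70260df46243d8a14c00f05681121642d719c05400015b271087800ee6b0820ca0ff50c1f5bcc1ecffc3327380f75a21bbb40e4ea8048f387cf0e11df580b51fc2e064021f3603d55c2a111012aad0528ae079ba810066822ce002439b069bdc020d440cd0000cac404b4000618580803b008ec000ba7c03d91005896009cb0007f0600791400c6a00410e0044a8004c280048b00097c0008b80006f800033000002)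 i1))) (nat_lit 0) (nat_lit 175) List.nil) : List ℤ)
    = ?xq9009 → (List ℤ)) ?hq9009; (case hq9009 => (set_option maxRecDepth 1000000 in conv => lhs; reduce)); intro _; exact ?xq9009 : List ℤ)

/-- the values at 4C -/
noncomputable def col9 : List ℤ :=
  (by
  refine (?fq9010 : ((pk61l (fun i1 => (pk61z (pk61d (nat_lit 18) 
    (nat_lit 0x3ffffa1aed5f0008c00716c21f5c4e6c189502ee31f80049b78000035ff00000000000000e000297300000692a0686918db15f00000000000626fc000009b898a02038005f571e0005740212b0bf103ffbce800b66fdd8256e0e6c2c4a67b91fee437bc0000280b0c9e78d79f337f3d2758eb100000909b2fd906fff2cd7c326af25588a3f455b6da92402d9693f74940a2471d2980000af7000000693dc6bff215bc00004c88c000010001e5ff05c6932471c344f23a698e9a38edb5a1200080000380048000cb0e73efe0b7a00001ea0033fbc0000000011d540a30827ec00000df11499515a145067c4787350f4a8c43ecec542a53628153f1f2eca5ff33c1433bf00000e00026ad83670162141cc933600a36812d347f672a000c6d83170016ac09a51000c2659843ff1fc600f2503c947bd5384604ff10974c187f0cf20d9b6101445bc413d6828910a4ac0be5050fc16640d4b8211104800003b037fc06d6047d81cc00210416440214c09b00160c0b7a00cac0131010ac018a00158027c0028c0001000980002)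 i1))) (nat_lit 0) (nat_lit 175) List.nil) : List ℤ)
    = ?xq9010 → (List ℤ)) ?hq9010; (case hq9010 => (set_option maxRecDepth 1000000 in conv => lhs; reduce)); intro _; exact ?xq9010 : List ℤ)

/-- the values at 4D -/
noncomputable def col10 : List ℤ :=
  (by
  refine (?fq9011 : ((pk61l (fun i1 => (pk61z (pk61d (nat_lit 18) 
    (nat_lit 0x8ff6d950008bfcd6ec032a004ec06b2c1cfc150011d77000018c0000000000000001ffff0b1312000b805dd316d9cb1950000000000003f00e000248b5c8adbd000f228000020e404304d832f32340700020cfc3005929e42ba409f7827de1eb4000003944c67e721161797f33108fe9138000f7a47826c700088b7d487a45ee66d3fa3b890e6d72fa41a40825bc2f872d5243fff36b0000003322167ff17f4160004917000000000263ff2442936c71e48500da61154ba412b7a1ffff000006fff00001ca8e70701898a47ffc53ff120bc9fff47ffcca1452a09d90c1000071b10c8d1188b46c7d3e476d0f4e98467e129e4a0c2e85dc0282ed1c00204a94ac037ffc00001939827cf2a968318641a0048683013429580000020270810017ac2c950b63341fe457ff12a608e0548e9415350809c5fb1064300a80342205e5604ab8dc640b86819610f4ac08fa1b90009240b2f80e8100ffc0d0408ffc1bb9031a417bf03678244402c30127000cf0049500cac0881019d0021500298023c0038c008e000a40002)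 i1))) (nat_lit 0) (nat_lit 175) List.nil) : List ℤ)
    = ?xq9011 → (List ℤ)) ?hq9011; (case hq9011 => (set_option maxRecDepth 1000000 in conv => lhs; reduce)); intro _; exact ?xq9011 : List ℤ)

/-- the values at 4E -/
noncomputable def col11 : List ℤ :=
  (by
  refine (?fq9012 : ((pk61l (fun i1 => (pk61z (pk61d (nat_lit 18) 
    (nat_lit 0x375ed94ff1a3fc396c0d4a0246c0325001a3117fc37c87fffd0e000000000000000000002973000000275c1e962624d3b000000000000bd0000001f60942620a80093a835ffc8abf70cb1f76f381bc780013afda09a669184e8436438d90e0a6400000202b001180d660077f7ad74427100000b61b2d86d4fff4397c794a0c824603f05434fe926a4243fc0114bcb8c729a180000030fc000005bdc3c0002bbc0000317700000000010e00026e83f474bac45ffa0589496d12fda000008000117ff000005b0e13afce0a500000d1ff6564000000000080ab034f449d300001802e1e45049d40527c0c070bb08434410d1024ea02955acc07d3110e0051a682f400000000005935959f01ace80816011fc19974bac974180e0012fd8253001c2c3e850468c2ce99540057c60041a0256808150d660cb8e243b129800c1202c76434b807fb3c168880e2e9508eda1cb00c3640a638a9ce198008144118000276144d81dc0071f808440a9b01b3008df0209a0635011ee044500a4a012d803fc0077000de001180002)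 i1))) (nat_lit 0) (nat_lit 175) List.nil) : List ℤ)
    = ?xq9012 → (List ℤ)) ?hq9012; (case hq9012 => (set_option maxRecDepth 1000000 in conv => lhs; reduce)); intro _; exact ?xq9012 : List ℤ)

/-- the values at 4F -/
noncomputable def col12 : List ℤ :=
  (by
  refine (?fq9013 : ((pk61l (fun i1 => (pk61z (pk61d (nat_lit 17) 
    (nat_lit 0x2ed888700027f9ea4c5bae4e6c10ea0658cb3fe03480000077fc00000000000028001b7980000012b9b9a4dd26f8ff0000000005880000001d1412f493fe66a83c0016d00fca6181032880a0020f7e1e5a8d630faed635c92513c7780000025853e74a7386dfc963a6931000022e6c00c8500046afb4aa91bd22e3f89e93fa48a792833f2aa80551d023200001f1f8000019ee640014c800000a84600001fff9c8011c4afbb80b770dae8060a6bb14f4ba7ffc0000780030001bc38937e63ba0000077fc422000000000022ac3584256c00001b644d5a85c942a3026a1c7b846dc4411da0aa8869426c005220c80063740e40000017ffccf12537020fd17225030059680da69799c500018d81fe0196b02cd656f3228c8b0003e30245a04ed142a870303d0e095604e00659014361aa88f510594a09d1031585d942b80099b0c37024b8140006c405000065805120d3f021f0311007a60ab002c1804e80da801710055807d400d2017c002e000f800320002)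 i1))) (nat_lit 0) (nat_lit 175) List.nil) : List ℤ)
    = ?xq9013 → (List ℤ)) ?hq9013; (case hq9013 => (set_option maxRecDepth 1000000 in conv => lhs; reduce)); intro _; exact ?xq9013 : List ℤ)

/-- the values at 4G -/
noncomputable def col13 : List ℤ :=
  (by
  refine (?fq9014 : ((pk61l (fun i1 => (pk61z (pk61d (nat_lit 16) 
    (nat_lit 0xd5b2d00050005131ea804ec05b408832c0046770000740000000000000040001bb320000117551676d32d000000000041c01fff171211ed33ff43d700001a400b131bd0342f4fff12c0297a3e8636db2fe177e1022f00001fec06180758117f0d3d43ee1fff6f5b66644fff38df07c50279793f1a5d466d0f694c401b900b7807893fff293f00000f7777ff08d06000045c000080000400064a233818e1445a1aea5afe21e83fff000050003fff297143c03f4a1fff7400112f60001fff001414826873400013311a4b14f4211f4cb805c222843f7b4fca030521c00fbb04000d952f3f200040001d261ccf43da20b942800e68344d305800003e271e4030ac255405332e8607ff2567027a275a0db514d818b123732e803d880029045116e401e511de17d41b851c4006db117e013e040004040400047900160a4006e1084401730970033c0455032b01be02f4016a0099013c001c004e00160002)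 i1))) (nat_lit 0) (nat_lit 175) List.nil) : List ℤ)
    = ?xq9014 → (List ℤ)) ?hq9014; (case hq9014 => (set_option maxRecDepth 1000000 in conv => lhs; reduce)); intro _; exact ?xq9014 : List ℤ)

/-- the values at 4H -/
noncomputable def col14 : List ℤ :=
  (by
  refine (?fq9015 : ((pk61l (fun i1 => (pk61z (pk61d (nat_lit 14) 
    (nat_lit 0x2012cff3c00f6c44a059307ac7dc08006c80000600000000000000005ccc0004ca06965e4c300000000045000000d08b5d37fc9a85ffc1401b4c3901a407ff62fd31a02e47fb70c50ce22400000d4cce70260f7f38889f10001be46f90fff2e811750ed93c044c8c9239d81c000bcdc70f1800000fc0002420c0038400000c8c000000060009e89471bc507a19946112a5c00000017ff0002d0e32fdd9a0000600024000000000543708cac00008510dac8ab1580cf83cf4f44251009509a80c00b106003a9454000000000e58b0f22e8ea91e0006822c83181ffc6270b0022c07ac08c28984000460565029466a159c28e09b027f25209090b444840294131015025a030006404c400e07fc0bb07fc036012403f0004344004c23001f005a00ac0ae01ac0350024003008c01e0018002) i1))) (nat_lit 0) (nat_lit 175) List.nil) : List ℤ)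
    = ?xq9015 → (List ℤ)) ?hq9015; (case hq9015 => (set_option maxRecDepth 1000000 in conv => lhs; reduce)); intro _; exact ?xq9015 : List ℤ)

/-- the values at 4I -/
noncomputable def col15 : List ℤ :=
  (by
  refine (?fq9016 : ((pk61l (fun i1 => (pk61z (pk61d (nat_lit 14) 
    (nat_lit 0x2a2c00000009c32bdcf3c14505130000a28000000000020007ffc00015f0d80096083933900007ffe0000000d7f00d479d000028827000003e8c00000009bf000083a15185130af82be000000015f0a2728a00001e7428935fca5b297000000005450af80001e7479d151800000002870a240000000000289c0000000d8015f000000000001e742880a2483a0af42be096000000009bf0000031000003536000000000d7f360057c0a28514000079e0bcc2f300002580af403427d05450af40000bcc000019400035fc00008840001e742be000054716c82882700547000051415ec4ac0bc400009602bd07b428a15202be0aec00015202890a242bc07b42be07b0032000028c145822100000340000221000400001a4034026c000026c03500d0036027000200d803300cc0010004002) i1))) (nat_lit 0) (nat_lit 175) List.nil) : List ℤ)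
    = ?xq9016 → (List ℤ)) ?hq9016; (case hq9016 => (set_option maxRecDepth 1000000 in conv => lhs; reduce)); intro _; exact ?xq9016 : List ℤ)

/-- the values at 4J -/
noncomputable def col16 : List ℤ :=
  (by
  refine (?fq9017 : ((pk61l (fun i1 => (pk61z (pk61d (nat_lit 14) 
    (nat_lit 0x1590eff3bfca131aa03ec162c03c00002f70000000000000000000002ccc000225c6e92eb0eff00000001b00000043453200005283ffd04013b05501d4000018fc545241821b82044fe154000013b0b18136028016085d10000d5b126d00000802da1a648c034f4e92115814027bcaf8345800033000003ddc00015400003b70000000000002a84380c0436518d43a14ba00000000000000038e230009500000001ebc00000002942008d3300001711dd0fb4207c0c70cf43842dec50a39683c012ec000232883f000000006184b00d940e602000970ac8227400012705004530eac33308e4000199c845096878a1d604ce02cc08008204e906b832406681c104ac23a02fc1a4007815e00001fb000036602a40bf03780c402cc0f0010c08a02ac01e00d002a001803c00700110024002) i1))) (nat_lit 0) (nat_lit 175) List.nil) : List ℤ)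
    = ?xq9017 → (List ℤ)) ?hq9017; (case hq9017 => (set_option maxRecDepth 1000000 in conv => lhs; reduce)); intro _; exact ?xq9017 : List ℤ)

/-- the values at 5A -/
noncomputable def col17 : List ℤ :=
  (by
  refine (?fq9018 : ((pk61l (fun i1 => (pk61z (pk61d (nat_lit 13) 
    (nat_lit 0x128e0000000001b5800000036ae081900c8055f1eef34200054340000001800c0078f50e28a0000c06f0a7bc0003c260001b8225c001f71abdd5ee07b03d00061fe0ce0000000000000000fb899c8ce44d00000001e120000000002af80000d20c04000dab0005800000000abdde864164cf973e6cc000f090000c0460215d00055ee07f06837a0001b5889825329900009f64fb2260000000301b6ac0529f500000002baf09784b6acec200018136b0ce49cc5554831ef157c0003c28526301c801298f4f03e6d60003c288978343021b5830218100002bd5d6abe4830ce4737abe0002f45312c8055f21b0f0a48341a223919e6d604cde1456c2cb03193ec604253134099c51421b0c0834815e06301b8054002) i1))) (nat_lit 0) (nat_lit 175) List.nil) : List ℤ)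
    = ?xq9018 → (List ℤ)) ?hq9018; (case hq9018 => (set_option maxRecDepth 1000000 in conv => lhs; reduce)); intro _; exact ?xq9018 : List ℤ)

/-- the values at 5B -/
noncomputable def col18 : List ℤ :=
  (by
  refine (?fq9019 : ((pk61l (fun i1 => (pk61z (pk61d (nat_lit 11) 
    (nat_lit 0x2fa1f4000000000007ce000500000000022a9e0000d1c7cbe7600c0008c10000001180001160000000021a00000000000001d73ae001b000000000000000000000000000845da0000000000000000000348078000003e6bfc00000000000d1c902d10dc000000001dc3b800000002438000ee000000001e0f00e1000000000000004600014080000000000000000000e600021c0000028127ea9cb400000000130a390006184605b0003e8000000001dc000aa154000000f00002040025a0007d0000a7000000448001400008c0bd00001c0002608a0cc000280b40440f00002a0740a00000202803802) i1))) (nat_lit 0) (nat_lit 175) List.nil) : List ℤ)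
    = ?xq9019 → (List ℤ)) ?hq9019; (case hq9019 => (set_option maxRecDepth 1000000 in conv => lhs; reduce)); intro _; exact ?xq9019 : List ℤ)

/-- the values at 6A -/
noncomputable def col19 : List ℤ :=
  (by
  refine (?fq9020 : ((pk61l (fun i1 => (pk61z (pk61d (nat_lit 18) 
    (nat_lit 0xc07f0000000000fdc084570000000000604018ec7180cf09f180fce79b2300100003fffd3770000003cbfbb3c9245c00000000040000ffff0538839c063ab00000336f1b68900000d5fb207bcf3a109f7839bf700a814e139e709797000000000730c4000009f78513627da4d88f63ab10eb41b8fc459b1166c39c01b11cf3a225e6126c4386558a06248b83d8609f74a70f893288c800d890000003de00f784339839c009f745aff15a7d245b5f63c3cc01b11c14e24e4f4556d55b8c79af0af0017a038f4117b943a28a70f0f300636b3ce8452c03f4fcd2ba357f08f010c5fcc0f009f7827dd58bac24176c47c952f74b40922e0000067341f531bf644e4f427dd386fcb20f3ce857b253ce88d2601167042c649170556d0887ccdbc240d808155e7d0a9a346a442c5712e841ce02b4fc44bf16f80e79b2eebc8d341cae83b8e2f2e05d3e2ee14a70f2ee5c93ba248b81fb611670532d191d05f0c151ec117111e5422e1069dc136c0aa301eae011340bdc03e8412790380008ed010d803f20073c00de0010c0002)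 i1))) (nat_lit 0) (nat_lit 175) List.nil) : List ℤ)
    = ?xq9020 → (List ℤ)) ?hq9020; (case hq9020 => (set_option maxRecDepth 1000000 in conv => lhs; reduce)); intro _; exact ?xq9020 : List ℤ)

/-- the values at 6B -/
noncomputable def col20 : List ℤ :=
  (by
  refine (?fq9021 : ((pk61l (fun i1 => (pk61z (pk61d (nat_lit 16) 
    (nat_lit 0x64000000000036af0578000000000577076b1acb67e8320012fc93ff1fff2000428f00003cbf45ba29c4000000001fff20004a0924bf408c00009894463e0000684b29580fd186c93c603ac94a0a12fb3623000000002166000027de0c4e1f710000000007072f40107410733c5f626f0fd2303c13244ded27a61c7a216527dd2d9056210a00189b0000545f23274f5609bf27dd5aff131f29c302583cc07b0c4a0920452045396b266f61ff1f7f0f2f0419196e2d903cc05d830fd113c061c0370d164327a5510004eb27dd27de3a3320d02b4f43603ccf1c7a0000526b5753247c204627de39c03a300fd21b4d286e2f881074394129c42f751ce006e3265232fa444c19eb3ef22c5728310f6b1d881003164f12fc1be406731caa0e450f7709920ac22d90190814be1c7a1b5910740959144c0674134c069d0d3606e2037c03ac0a100996044d02e700710592029c02760142016a00b8007200280002)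 i1))) (nat_lit 0) (nat_lit 175) List.nil) : List ℤ)
    = ?xq9021 → (List ℤ)) ?hq9021; (case hq9021 => (set_option maxRecDepth 1000000 in conv => lhs; reduce)); intro _; exact ?xq9021 : List ℤ)

/-- the values at 6C -/
noncomputable def col21 : List ℤ :=
  (by
  refine (?fq9022 : ((pk61l (fun i1 => (pk61z (pk61d (nat_lit 14) 
    (nat_lit 0x27f00000002bc0117000000003bc26c2c8c0a037008041000000000084f00006c00fc8ec30000000000000033752bf26cc0001a7039600008fb503c1c118785bf2fa8cde200c3170000000403a0004e788164da4ccf194c1cb15000240091fc00a9c1c222e08840a282c62cb98b94e741b00028f7f2490000686043813648bf4e744ff087cec40b406bf0a9ccdd6e891ed180c71027008a021bc2397f281b01afc84b07046bf1afc4da23f0da12dfc9304e7939d2ad1ce870816505940b2e00005b4344c184067539d130073007042051d8847f008c0a63b0d3320b80c3c17246352c50abc35b85e8168479f3b806402d008041ebc2b44168e8e051cbfe0d941b01c200c52cb8576008c5b2065052c08902ae0c2855e045c32c07b024e08c80bc04781e6070011201d80d2014003e0070002) i1))) (nat_lit 0) (nat_lit 175) List.nil) : List ℤ)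
    = ?xq9022 → (List ℤ)) ?hq9022; (case hq9022 => (set_option maxRecDepth 1000000 in conv => lhs; reduce)); intro _; exact ?xq9022 : List ℤ)

/-- the values at 6D -/
noncomputable def col22 : List ℤ :=
  (by
  refine (?fq9023 : ((pk61l (fun i1 => (pk61z (pk61d (nat_lit 12) 
    (nat_lit 0x7c00000000af4100003cc0d31cb6d04a73e00009804003ff6000000004850001e57974003ff000a800005b108f0007974bb7972870001373280000004140000007bb0000009d818f11f1e546e2401e632965f3cb14347f43c4f1361000b3f0000005f910072b00070774f48b3c00009ff23f0004aa00046e0000000000de960d603170007a40170000002cf1442bf34000037d2bb90022d0000005a411a18b2565c600079804400061f1e50002ff5e01e629f44a4ec28723a0000003481563a73180e326f2dd14f1924d41d30a635a00011a37f35a2093ba1f51af00019e0b400023f0a113205f0c20500d908e15715d1360450840c200c07101f08d01103402601600600d002) i1))) (nat_lit 0) (nat_lit 175) List.nil) : List ℤ)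
    = ?xq9023 → (List ℤ)) ?hq9023; (case hq9023 => (set_option maxRecDepth 1000000 in conv => lhs; reduce)); intro _; exact ?xq9023 : List ℤ)

/-- the values at 6E -/
noncomputable def col23 : List ℤ :=
  (by
  refine (?fq9024 : ((pk61l (fun i1 => (pk61z (pk61d (nat_lit 12) 
    (nat_lit 0x22f43800000020826b32b1680004a33ff0000009300006c018521b00000000000003613f6530005340a100030b34710e6f65602760354a415c0000000590000a12113f11400000782c02f42f32a00f010d2630db38d19917a05a0a21af3a12000db0003bf16729623f0a210006021c2f86bf2930361e583a1f402f3ff87f5101990111af6bf4a310e44044046d03c0452ff1eb0a20a129355014f3a04cf17a0001543cc15c1e60a13bf00f10d22d06e1972f43de21b32a31f0e319205a2931342720971f13540d72430104a32242cc2ca0051373521621af16810117a1192f40c60530d40d303d0290e20630ec0cf0f60b20470b103205c03603d04a027012008002) i1))) (nat_lit 0) (nat_lit 175) List.nil) : List ℤ)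
    = ?xq9024 → (List ℤ)) ?hq9024; (case hq9024 => (set_option maxRecDepth 1000000 in conv => lhs; reduce)); intro _; exact ?xq9024 : List ℤ)

/-- the values at 6F -/
noncomputable def col24 : List ℤ :=
  (by
  refine (?fq9025 : ((pk61l (fun i1 => (pk61z (pk61d (nat_lit 12) 
    (nat_lit 0x22f34800000011715432c3470004a400040040015f0001af0452f30000003ff3ff03630f2f40000531790000640002761791c09060354a30fc00000027600046e41930100000011830f0b40b31c011727524b08b0451e917a27546d1af15e15f08b7ff4874380b604f46d0002bf2f43701b02bb0362bd0352bc1600001bf35f0462911af1b00542764701b04da17c3021600fb46d46e2bb00015007006f17a00017b4a410b1c146e31061f27512a38e2ff0b40462f361d00024c3721c206413331d4a80610c41bf2934284a436416c4421252c70d22751af14f37117a1190b407e19416c12402a06124d0c410c0a715e0ed0800de03501c09900d07201001a00f002) i1))) (nat_lit 0) (nat_lit 175) List.nil) : List ℤ)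
    = ?xq9025 → (List ℤ)) ?hq9025; (case hq9025 => (set_option maxRecDepth 1000000 in conv => lhs; reduce)); intro _; exact ?xq9025 : List ℤ)

/-- the values at 6G -/
noncomputable def col25 : List ℤ :=
  (by
  refine (?fq9026 : ((pk61l (fun i1 => (pk61z (pk61d (nat_lit 12) 
    (nat_lit 0x27f0000008bf32000021c12c10455020843f0004ff00000014000000082a0005b200000000000077f0005463ef00028835b3bf7070002a71170000000b40000002933ff0004382082a832a1717801c11c143035b38316701406e0090003470000000a92803cb00050000021c28000040014000049200003100000000015e27f0c03480004740c80000005a038400000000003201427f3650000002440453830d10d100028815300031f1c200028013f1c113f05a3841671a20000001e710e2571e006407805a2d01d53340640461c20000950081721790320520780000590b400007805910d0cf00a0500210310f00aa06e01d04408206304600002503101c01e00900900a002) i1))) (nat_lit 0) (nat_lit 175) List.nil) : List ℤ)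
    = ?xq9026 → (List ℤ)) ?hq9026; (case hq9026 => (set_option maxRecDepth 1000000 in conv => lhs; reduce)); intro _; exact ?xq9026 : List ℤ)

/-- the values at 6H -/
noncomputable def col26 : List ℤ :=
  (by
  refine (?fq9027 : ((pk61l (fun i1 => (pk61z (pk61d (nat_lit 11) 
    (nat_lit 0x11fc000000e035c0000002004c9e11f780091ff8000003c0002403e498c00000000000cecc00d80007e0360003ee2819e1426fcaa99e04665c0000056200050876f2c03d5624b67e86d0da3f0f0675d38447aa1e5175f914423ca50801b60021c1f84cc300511000c099027a3f0f06760146d0b8b401f9a035eae47a88f47eaaccf03f07e5e87e63e2fe23c508a225685c3022f45e8b8003345e60903e8a217e5c0cf06584477d0e0064c69480fc4366cca85a29c522b5c509e02fe5006f8240a04d0bd0715702f91d08f1ae9151703643804865833176538150611903b01996e16438c108391000482483201e07801802) i1))) (nat_lit 0) (nat_lit 175) List.nil) : List ℤ)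
    = ?xq9027 → (List ℤ)) ?hq9027; (case hq9027 => (set_option maxRecDepth 1000000 in conv => lhs; reduce)); intro _; exact ?xq9027 : List ℤ)

/-- the values at 6I -/
noncomputable def col27 : List ℤ :=
  (by
  refine (?fq9028 : ((pk61l (fun i1 => (pk61z (pk61d (nat_lit 11) 
    (nat_lit 0x1400000014302619117968900001ff800000efc000002940005150f0000000037f000ca4480005100ec784380006e0b40000004ac000004380000011818e09d952eea004388702f348870b40db2e2664001680000004b27f51600077d9f11800000100780000410001a200000000102f00400c800022e1b8000000010da7f4fe0015901430025400000348b15498be17c001442bc00077c868002feffc8700008a4ac6c132000000038410ee240958c826b5420d11431639836800155160fe866744275a40004eca500052806d249083da3200b977040274085090e44c4870eb1402d44385606e0ac0d80d002) i1))) (nat_lit 0) (nat_lit 175) List.nil) : List ℤ)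
    = ?xq9028 → (List ℤ)) ?hq9028; (case hq9028 => (set_option maxRecDepth 1000000 in conv => lhs; reduce)); intro _; exact ?xq9028 : List ℤ)

/-- the values at 6J -/
noncomputable def col28 : List ℤ :=
  (by
  refine (?fq9029 : ((pk61l (fun i1 => (pk61z (pk61d (nat_lit 10) 
    (nat_lit 0x2400000013c8f0006c04c942bc4717c00200000000000000168000d4d8000000007f000a123c0035c9b060470006835c000000b0000002c0000007280501690e0fc36164c02d023241b3144310008f00000018ff350001dc9006cbf001002fc000940043800000000f85f080570011b05c00000900903f0fc00109040001d000002102526ca605800360940005f0d400000200d85f2a83c11c8a000003a00611c480309f2484f108b40f03915400068500a8292542517c000445400030044120002d04076044070c826054240880c0842000811010090240600802) i1))) (nat_lit 0) (nat_lit 175) List.nil) : List ℤ)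
    = ?xq9029 → (List ℤ)) ?hq9029; (case hq9029 => (set_option maxRecDepth 1000000 in conv => lhs; reduce)); intro _; exact ?xq9029 : List ℤ)

/-- the values at 6K -/
noncomputable def col29 : List ℤ :=
  (by
  refine (?fq9030 : ((pk61l (fun i1 => (pk61z (pk61d (nat_lit 9) 
    (nat_lit 0xe017c01435e0d1007700000007f3f8fc0000490006a0040200003f00284c0000007000470004150000009000001200000a733da06a2e1f964221031bec3043134b8004800001323f21c0080003d90000003f801640037000000047100000f000d010000017d66800000004d420048000061a8876c12b001b0c40027cb400201fcb240428f0902500000001e2412038370287c7a132e37804002a8a07a290d228900003090002f2c8487e0d0f8185c1f128040a2c0a8500c00050240806008240402) i1))) (nat_lit 0) (nat_lit 175) List.nil) : List ℤ)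
    = ?xq9030 → (List ℤ)) ?hq9030; (case hq9030 => (set_option maxRecDepth 1000000 in conv => lhs; reduce)); intro _; exact ?xq9030 : List ℤ)

/-- the values at 7A -/
noncomputable def col30 : List ℤ :=
  (by
  refine (?fq9031 : ((pk61l (fun i1 => (pk61z (pk61d (nat_lit 9) 
    (nat_lit 0x46000b40000120000009c000045914e07f3f961f8570023000b440201000037acc01177d918008c37bec004612bf0000013800b200001640117000cc6600000c40000000002a8b2c91400c8003fc274a38480000011a088c4600050286e000d1f60049800000263801b6572b8e5f20063800006c4080000000009c009f36914026b00000de4745874b6001004c0000139148c4700114000000114004a360004c0027000e092513191846232d1b4fc64002305c38009f8822d1b900b246208b4461a0982802) i1))) (nat_lit 0) (nat_lit 175) List.nil) : List ℤ)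
    = ?xq9031 → (List ℤ)) ?hq9031; (case hq9031 => (set_option maxRecDepth 1000000 in conv => lhs; reduce)); intro _; exact ?xq9031 : List ℤ)

/-- the values at 8A -/
noncomputable def col31 : List ℤ :=
  (by
  refine (?fq9032 : ((pk61l (fun i1 => (pk61z (pk61d (nat_lit 14) 
    (nat_lit 0x236daff1bfc32c17a0053022c28338000370001200000000000000006a4c000125d5291e3150000000003efc0000dc918d38009d70001d4002303ef0fbc0003efd08503180fb40f8761444000014cc267126068016f4531000063b2dec0005e8071a3598c3f3608d2d325853f18bdf385ba400030fc00006203ff284000003f000000012003728438248495a35281c110a000000000000000c4e3efc0350000dff0fbc0000000f0b1174ad3000070e13acad455800382f0801b4d6d23510688c024912005c54fbf000000059e570f0114c2611fc1178bc85e700010d83f0038c6bd086c41643ff2c9c95a13e850a1261571634d1800b203a9593863b6a154e15f2d6da3f004c41ff8d81480116437fc1263c2453f1a0406428b0630048c32a102c5210f502f5069815c030c06e00a4002) i1))) (nat_lit 0) (nat_lit 175) List.nil) : List ℤ)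
    = ?xq9032 → (List ℤ)) ?hq9032; (case hq9032 => (set_option maxRecDepth 1000000 in conv => lhs; reduce)); intro _; exact ?xq9032 : List ℤ)

/-- the values at 8B -/
noncomputable def col32 : List ℤ :=
  (by
  refine (?fq9033 : ((pk61l (fun i1 => (pk61z (pk61d (nat_lit 11) 
    (nat_lit 0x32a000000cccb40b357604c7f91700040000000000ffcc61ff36e0590e000000001402003d49d47f8e80004fc59a2f45e001401ca2b24ecbce6645e000299b818ea02668314008ecd5800b406b50f140334bb4fca7f2a08e1773ff27e0008b800020800d18000003fce12c76524aa81346feeffc00000800344bf8e24003fd17a00400910190137fe3840597413e59e2eb3b677169b913f1a83fc4697f3ff0008f1f008a3c47fa7749a39c0037870040c45acc58c000bc0c51d41691c3910e63fd14239302690b51390c82143f83440c3a4800841fe4845b180142490698b00661c8258090561280085c04601807002) i1))) (nat_lit 0) (nat_lit 175) List.nil) : List ℤ)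
    = ?xq9033 → (List ℤ)) ?hq9033; (case hq9033 => (set_option maxRecDepth 1000000 in conv => lhs; reduce)); intro _; exact ?xq9033 : List ℤ)

/-- the values at 8C -/
noncomputable def col33 : List ℤ :=
  (by
  refine (?fq9034 : ((pk61l (fun i1 => (pk61z (pk61d (nat_lit 11) 
    (nat_lit 0x275800000cccb40b320854c7f96800040000000001001799ff1900590e0000000003fa0026aca87fc170004fc598500a00013f9f564c8114c8c60a0000299b868ea0086b8e4008ec6a0001405c9ff1404748489ca8065e91c873ff27e0008b8008de8016e0000003fc912c776c1a88e8265ef000000007fe345c06824003fc28200400aee66bac7feb7865a4b8c0f9c511c46762691693f3563fca91803feffcc0a701f41448027749a19c001872fe5f23a2cc6f2000bc20572a668238ee598402540f9402190b52594365154003414c124800841fe2f84497f13c290361300660b41a0a91281d40f05c04609808802) i1))) (nat_lit 0) (nat_lit 175) List.nil) : List ℤ)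
    = ?xq9034 → (List ℤ)) ?hq9034; (case hq9034 => (set_option maxRecDepth 1000000 in conv => lhs; reduce)); intro _; exact ?xq9034 : List ℤ)

/-- the values at 8D -/
noncomputable def col34 : List ℤ :=
  (by
  refine (?fq9035 : ((pk61l (fun i1 => (pk61z (pk61d (nat_lit 10) 
    (nat_lit 0x692ff400d305c5302c037fd37002000000000000a4c0065cd6632ff000006fc002c9327fc2800140630efc4000900fa718841f8de04000f306719d7f3094e0013b1ec0068125a983f1092dba4c0b41c74a4000fc00623ff3bc003f000002003d5c7384da228810a000000000004e6fe75002003bc000010b68bac00271a505427cc7708e4690b516b3f76e008aa40000008e40f4e9e61fce8bcae7001277008c7d16c89bffc9dda0148a6618eab27f0ddd62c4445ea5e4d25a7033b2f9c180064800665d8c03f8646b13048c9502d1e1508a1985c0f02e05802) i1))) (nat_lit 0) (nat_lit 175) List.nil) : List ℤ)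
    = ?xq9035 → (List ℤ)) ?hq9035; (case hq9035 => (set_option maxRecDepth 1000000 in conv => lhs; reduce)); intro _; exact ?xq9035 : List ℤ)

/-- the values at 8E -/
noncomputable def col35 : List ℤ :=
  (by
  refine (?fq9036 : ((pk61l (fun i1 => (pk61z (pk61d (nat_lit 11) 
    (nat_lit 0x5a0000007318b8b31b62cc802a80003fc0000000000179a000eea590e000000000801ff3ca168801970004fc798ef1de00000015332b91049561de001498c70f0a01769ae3fe210358006400756714062a848cc8001de01d80c0027e000b400045e7fcd1800000401c6a38972328268890ee00000000000344801723fe400779ff3fe0ec190b38003f83586b3c0a9c510fb1f69e97113f0d64005100040000038a305b4b840000806429c001872000f0259f30b2000bc11a254614c392e2a6000740e617ce108a8761b6394800342ac1647f8442000380b000002490198f00660741a0190680541881c03805800802) i1))) (nat_lit 0) (nat_lit 175) List.nil) : List ℤ)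
    = ?xq9036 → (List ℤ)) ?hq9036; (case hq9036 => (set_option maxRecDepth 1000000 in conv => lhs; reduce)); intro _; exact ?xq9036 : List ℤ)

/-- the values at 8F -/
noncomputable def col36 : List ℤ :=
  (by
  refine (?fq9037 : ((pk61l (fun i1 => (pk61z (pk61d (nat_lit 10) 
    (nat_lit 0x992ff400535a0d30d1bc001c800000000000000014c0005da913100000002fc002b512000d7000bf130ef3bc002fcc531884079c104000030982617f1f4ce001841100017cc52e5c0489ad0a43f0bd382d8000fc00220007bc000f000000003a9383f91a0a8de15c0000000001312fc2a000003bc00000b438853000311ac54a7d47309245908a3e8c026c00428bf00000064f071446600e81c81800027300cc12cd3364001605a515b519c7134c7f320163c4c40e8411d05a300040845e0005b000790243f004a40b030070350d0410ac0a0181c00c0e02402) i1))) (nat_lit 0) (nat_lit 175) List.nil) : List ℤ)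
    = ?xq9037 → (List ℤ)) ?hq9037; (case hq9037 => (set_option maxRecDepth 1000000 in conv => lhs; reduce)); intro _; exact ?xq9037 : List ℤ)

/-- the values at 8G -/
noncomputable def col37 : List ℤ :=
  (by
  refine (?fq9038 : ((pk61l (fun i1 => (pk61z (pk61d (nat_lit 10) 
    (nat_lit 0x86c00000b335ccc0503c001680000000000000001b0003227638c000000030000435fd000770014004d8f0c0004fd851648b0462e13c004b0271e0000741e00064050000800a165401b46d259403c047118004fc003200013c000f000000002a96707925254d10a00000000002114fc5a000005c0000003b1b503001712103b27c27989040ed4a169401ac00114c000000118ef4d4e61fc57434a70011850043050b35240009c153280a6e10e18c800a0c9204142550e1900a2fc8b2f86e0008400046164bf1386418c500cc3a0d01e06c250243c0700102402) i1))) (nat_lit 0) (nat_lit 175) List.nil) : List ℤ)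
    = ?xq9038 → (List ℤ)) ?hq9038; (case hq9038 => (set_option maxRecDepth 1000000 in conv => lhs; reduce)); intro _; exact ?xq9038 : List ℤ)

/-- the values at 8H -/
noncomputable def col38 : List ℤ :=
  (by
  refine (?fq9039 : ((pk61l (fun i1 => (pk61z (pk61d (nat_lit 9) 
    (nat_lit 0x208ff7f94cd0d32a17000080000000000000026002b95866ff000007e000e8f4005700100672f17801809a3c9925c7168002e6986c200446e000100800100a852c0168b4124077c1c4c00600001000280010600000018a47873e8746e540000000000c47eda00001a000000d03a33001bae8b40f9e07a5b4d8546a3f2d801cac0000006c4f7282500170689c002720030962c1c800b0057d2a8b0314620110f61886c8a4e258e8800407038005b000582c4010990180f0e068160e05854121c018040c02) i1))) (nat_lit 0) (nat_lit 175) List.nil) : List ℤ)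
    = ?xq9039 → (List ℤ)) ?hq9039; (case hq9039 => (set_option maxRecDepth 1000000 in conv => lhs; reduce)); intro _; exact ?xq9039 : List ℤ)

/-- the values at 8I -/
noncomputable def col39 : List ℤ :=
  (by
  refine (?fq9040 : ((pk61l (fun i1 => (pk61z (pk61d (nat_lit 9) 
    (nat_lit 0x168000043150f3320cc001700000000000000d800040a40600000000000029e8001700300d82f1780000952c8ec522917800183823a00da0e0006c68002f9f4a2bf3a948cc001791c42001f8002e00480007800000019a471c8d424365b8000000000440072000005e0000090a46c000f8160b3009d44a432015043f05800440000000dc8f229f800083906000070018cd66c1c80070051a91470112600050191086c6a360201400540b064001b0014412001081026300987428060a0281c03018240202) i1))) (nat_lit 0) (nat_lit 175) List.nil) : List ℤ)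
    = ?xq9040 → (List ℤ)) ?hq9040; (case hq9040 => (set_option maxRecDepth 1000000 in conv => lhs; reduce)); intro _; exact ?xq9040 : List ℤ)

/-- the values at 8J -/
noncomputable def col40 : List ℤ :=
  (by
  refine (?fq9041 : ((pk61l (fun i1 => (pk61z (pk61d (nat_lit 8) 
    (nat_lit 0x54000053172c1b130077000000000000530057360c00000000002a9a004800400c8f30000035062b36294f006c4718002d0100040400203d1e405552060030786100400017000f003c0000000218762a1d2937000000000e001200007000000b021c00213b3b1f380204045a4d3f24005d000000612f153100084d180007000c4b0c090038151a252711230008190e1405290b0a008419660044000146000e043c105c625436443a2e1c1c160e02) i1))) (nat_lit 0) (nat_lit 175) List.nil) : List ℤ)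
    = ?xq9041 → (List ℤ)) ?hq9041; (case hq9041 => (set_option maxRecDepth 1000000 in conv => lhs; reduce)); intro _; exact ?xq9041 : List ℤ)

/-- the values at 8K -/
noncomputable def col41 : List ℤ :=
  (by
  refine (?fq9042 : ((pk61l (fun i1 => (pk61z (pk61d (nat_lit 8) 
    (nat_lit 0x8400000c170c0b5c00170000000000000c0008363c0000003f001d1200080040330f4f003f25590b1e4130004c270700022100444b0020251640225249400f4756003f0037004f005c00000045182e45253e17000000002e3f3500000f0000640d030011044460181d24245535400b000a3f000009104a097f574d580067401c0b533600672a152a3871238028161e2b0a1e4475402b2e1e002400091940310423502c352b0e241a191c030e0602) i1))) (nat_lit 0) (nat_lit 175) List.nil) : List ℤ)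
    = ?xq9042 → (List ℤ)) ?hq9042; (case hq9042 => (set_option maxRecDepth 1000000 in conv => lhs; reduce)); intro _; exact ?xq9042 : List ℤ)

/-- the values at 8L -/
noncomputable def col42 : List ℤ :=
  (by
  refine (?fq9043 : ((pk61l (fun i1 => (pk61z (pk61d (nat_lit 8) 
    (nat_lit 0x8b00003c773c141300280000000000003c7f27396400000000800a1d00083f0063000040003a46133e0100003c2728001d09801b5c00004501001d1d46000007090000002700007f3c0000001d08093a0201270000400031000a7f0000807f030a14001e0c0c00273d0b344502000c00250080001e001d01004732083f4700143b130e00273d120a483e3b004809093c12011332000c161e000b001e0100160b1b001b0a0b091c02090c0c010102) i1))) (nat_lit 0) (nat_lit 175) List.nil) : List ℤ)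
    = ?xq9043 → (List ℤ)) ?hq9043; (case hq9043 => (set_option maxRecDepth 1000000 in conv => lhs; reduce)); intro _; exact ?xq9043 : List ℤ)

/-- the values at 8M -/
noncomputable def col43 : List ℤ :=
  (by
  refine (?fq9044 : ((pk61l (fun i1 => (pk61z (pk61d (nat_lit 7) 
    (nat_lit 0x2580004eb9308cc008000000000026002e2498000000000a28037010098f9e000150cac3066000638300193e006cd8040348c03448c80601c7008000b801e01180000069832d59061000000013801d000078000ad11c0005dbb3e1c124361413f8800900000172f2a040081a6000700b0a1312003aa0ae9391380040623512862828024122401b00383001c90190064858608140830618082) i1))) (nat_lit 0) (nat_lit 175) List.nil) : List ℤ)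
    = ?xq9044 → (List ℤ)) ?hq9044; (case hq9044 => (set_option maxRecDepth 1000000 in conv => lhs; reduce)); intro _; exact ?xq9044 : List ℤ)

/-- the values at 8N -/
noncomputable def col44 : List ℤ :=
  (by
  refine (?fq9045 : ((pk61l (fun i1 => (pk61z (pk61d (nat_lit 7) 
    (nat_lit 0x58000f0b8356b0017000000000006000e1820000000000a08017800060000fc0050c4cf1100006182e001160050e00001488004083000060b000000c00000060000001172c149110e0003f00380050000000008ca94000460c001ce843614900180050000007000444007245e00700ac5a31c0039d245441e36004162c7091126340132c3800400380801210200081420606083030604082) i1))) (nat_lit 0) (nat_lit 175) List.nil) : List ℤ)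
    = ?xq9045 → (List ℤ)) ?hq9045; (case hq9045 => (set_option maxRecDepth 1000000 in conv => lhs; reduce)); intro _; exact ?xq9045 : List ℤ)

/-- the values at 9A -/
noncomputable def col45 : List ℤ :=
  (by
  refine (?fq9046 : ((pk61l (fun i1 => (pk61z (pk61d (nat_lit 7) 
    (nat_lit 0x800005180000765c32f52005b060000000000000408002300000000000000005178000000006a7c0214260000480000000000425504000000000b24400002400013000118000000005440e92008c000000000b160000b00d80001e3800c180000600bc0000010000480000000013006c000242e4400000d088024740002018000000001200000023c0c7860a1458018006840a006040400282) i1))) (nat_lit 0) (nat_lit 175) List.nil) : List ℤ)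
    = ?xq9046 → (List ℤ)) ?hq9046; (case hq9046 => (set_option maxRecDepth 1000000 in conv => lhs; reduce)); intro _; exact ?xq9046 : List ℤ)

/-- the values at 9B -/
noncomputable def col46 : List ℤ :=
  (by
  refine (?fq9047 : ((pk61l (fun i1 => (pk61z (pk61d (nat_lit 6) 
    (nat_lit 0x2700011800030c6183002d75d20004800009e70120000000110000262c00000000280020aa012440011440005a9d0000009064904800110108c044044000062561100048000001860049d48000050300514000b01d0004440114800110005000004405d145145000044b4404cb000000000000494303986305a923125a87a4796512302) i1))) (nat_lit 0) (nat_lit 175) List.nil) : List ℤ)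
    = ?xq9047 → (List ℤ)) ?hq9047; (case hq9047 => (set_option maxRecDepth 1000000 in conv => lhs; reduce)); intro _; exact ?xq9047 : List ℤ)

/-- the values at 10A -/
noncomputable def col47 : List ℤ :=
  (by
  refine (?fq9048 : ((pk61l (fun i1 => (pk61z (pk61d (nat_lit 9) 
    (nat_lit 0x11e000000118000022cc0803f8a0908e002d40000401fc88b52f801162a23801c0002418001091389cfc7e00000a6000000000008522514a7000016a00000004e0053988008b00000000014154a8703830c00b6001745229000a0c0df30001162c2522c00352a98000000e230fa350000054b515230fa003ea311247071bc9028000a4c0463f9f46e6145801c02c700dd164577000520d138dd146f13800aa62400a118b51514c880246000546000958ac702494c3260150b8382a0d0681c02) i1))) (nat_lit 0) (nat_lit 175) List.nil) : List ℤ)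
    = ?xq9048 → (List ℤ)) ?hq9048; (case hq9048 => (set_option maxRecDepth 1000000 in conv => lhs; reduce)); intro _; exact ?xq9048 : List ℤ)

/-- the values at 10B -/
noncomputable def col48 : List ℤ :=
  (by
  refine (?fq9049 : ((pk61l (fun i1 => (pk61z (pk61d (nat_lit 7) 
    (nat_lit 0x238000009800052000018cbbd013400000013ce280018af00098060a0031c990ec201fd380000000062c99100000480000318008840140000000c8795b04e30009008709d0191fa8d6009a74c90009129c000785048a0000e891250f00044d9132bb0c63002a63e01193be2600a2850209bd4400f09c6b1908c600eb2018dc0a32a0e1e263054c52984a44c408942c8821e0c38502) i1))) (nat_lit 0) (nat_lit 175) List.nil) : List ℤ)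
    = ?xq9049 → (List ℤ)) ?hq9049; (case hq9049 => (set_option maxRecDepth 1000000 in conv => lhs; reduce)); intro _; exact ?xq9049 : List ℤ)

/-- the values at 10C -/
noncomputable def col49 : List ℤ :=
  (by
  refine (?fq9050 : ((pk61l (fun i1 => (pk61z (pk61d (nat_lit 7) 
    (nat_lit 0x24000000a00004c01f3e4c02200340004080f8e060058200012001e4000e2851ab50000b8000000001c48910000130000009801604013010000028d85804f2c0260059f15005000f8800a374230006423c000284c3050000aa6024ec80445090c1a7001300091913ec400128011b81ee0a2a0400b4626309272601aa23e4c8256c6021e28501231c050a4424130302545961c18282) i1))) (nat_lit 0) (nat_lit 175) List.nil) : List ℤ)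
    = ?xq9050 → (List ℤ)) ?hq9050; (case hq9050 => (set_option maxRecDepth 1000000 in conv => lhs; reduce)); intro _; exact ?xq9050 : List ℤ)

/-- the values at 10D -/
noncomputable def col50 : List ℤ :=
  (by
  refine (?fq9051 : ((pk61l (fun i1 => (pk61z (pk61d (nat_lit 7) 
    (nat_lit 0x5bb00000004e02f80000213000bd8800000f300001c00260000024000000000f06008000000000000000003b400000000000046180002600000000121f00bc000005d7800001c005e000006180e8000000000000f0000000000000980220001e60c2f8000003160078a0c007400000c00120a00000006401500500000000300300041d0080006242c010241888004142000c14002) i1))) (nat_lit 0) (nat_lit 175) List.nil) : List ℤ)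
    = ?xq9051 → (List ℤ)) ?hq9051; (case hq9051 => (set_option maxRecDepth 1000000 in conv => lhs; reduce)); intro _; exact ?xq9051 : List ℤ)

/-- the values at 10E -/
noncomputable def col51 : List ℤ :=
  (by
  refine (?fq9052 : ((pk61l (fun i1 => (pk61z (pk61d (nat_lit 7) 
    (nat_lit 0x180000009800051000009cc3100d40000001a350000a0a3000000100000950a089e00009800000000142452700005000001400114801400000004e28d8f1e8c0090034c89009d0001e00a132a5000a1400000064d90a000050a144ce80044c4a8227cc2700247860048ba1280001300dca1a3c004825060510500050d009ce0a344cd82267c50f3c184a02c4c480340498a0a28082) i1))) (nat_lit 0) (nat_lit 175) List.nil) : List ℤ)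
    = ?xq9052 → (List ℤ)) ?hq9052; (case hq9052 => (set_option maxRecDepth 1000000 in conv => lhs; reduce)); intro _; exact ?xq9052 : List ℤ)

/-- the values at 10F -/
noncomputable def col52 : List ℤ :=
  (by
  refine (?fq9053 : ((pk61l (fun i1 => (pk61z (pk61d (nat_lit 6) 
    (nat_lit 0x2d40000009c080000014001726800045000000010000048000000045e0000000000000000147400000000002d10004c000000030f6180000176000001c0600000c007400000004007800000000004c044001e8086000003860290eb00a00001801a28002f00e01a014017000a404001c2008019283007a9e78069250038a202) i1))) (nat_lit 0) (nat_lit 175) List.nil) : List ℤ)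
    = ?xq9053 → (List ℤ)) ?hq9053; (case hq9053 => (set_option maxRecDepth 1000000 in conv => lhs; reduce)); intro _; exact ?xq9053 : List ℤ)

/-- the values at 11A -/
noncomputable def col53 : List ℤ :=
  (by
  refine (?fq9054 : ((pk61l (fun i1 => (pk61z (pk61d (nat_lit 5) 
    (nat_lit 0x98000000e0020e840007000004200038000000004800c5000002ce00014038000000000000a10121000000012902c09000020010140040104010a80a004e20018002d8a030091000a00000588203a400080e000102024000012b08000004e010002001001010c5298852902) i1))) (nat_lit 0) (nat_lit 175) List.nil) : List ℤ)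
    = ?xq9054 → (List ℤ)) ?hq9054; (case hq9054 => (set_option maxRecDepth 1000000 in conv => lhs; reduce)); intro _; exact ?xq9054 : List ℤ)

/-- the values at 12A -/
noncomputable def col54 : List ℤ :=
  (by
  refine (?fq9055 : ((pk61l (fun i1 => (pk61z (pk61d (nat_lit 11) 
    (nat_lit 0x1000000001a001c000000100507a0a840050c00000000c3c0000038a510000000000001b07f5e600095abe000e2c5381106c3809b03528838c000002320005080e01c500003070fe2d0598df55e048a18a4024398bd11a1446bd0f07f1480006f99802c1fc510ff5c050cd38000660d8bd17a0564410007f35e264289af000ff0088001fe43401a5a0fe7ac510a10e6640d806019e5e8002ab0d840c630a10fe13c091720dc1205a0c12880d43009c1a42e8860ab19a1a0788eb01000c879431b66302a805110048fe9af3ee7f8bd066168465061f43660892489d1860b0e811609a2605892d1b83244106a08e0c80b802) i1))) (nat_lit 0) (nat_lit 175) List.nil) : List ℤ)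
    = ?xq9055 → (List ℤ)) ?hq9055; (case hq9055 => (set_option maxRecDepth 1000000 in conv => lhs; reduce)); intro _; exact ?xq9055 : List ℤ)

/-- the values at 12B -/
noncomputable def col55 : List ℤ :=
  (by
  refine (?fq9056 : ((pk61l (fun i1 => (pk61z (pk61d (nat_lit 9) 
    (nat_lit 0x1fc000027b7c006c5e29080771f8000000003800000528006ad700000007f000d85e006c070f047002630e00005700000ae00000201062144493f9f98c40462d1b10b74a0400ef00001fc7f858012e30261fc00ff50000c40034800000054a7c7e58002f010000017df8007f8026a2c3f9080000c9b28d841d300000fb0013cfa003f900fc406d2d0903a0000030293c0bc68cf1eac07a1355a784a002ea3d3a29053a86000088f0005f3f2e81e5d37a44122801218642c0286c4c1f068380801088380a02) i1))) (nat_lit 0) (nat_lit 175) List.nil) : List ℤ)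
    = ?xq9056 → (List ℤ)) ?hq9056; (case hq9056 => (set_option maxRecDepth 1000000 in conv => lhs; reduce)); intro _; exact ?xq9056 : List ℤ)

/-- the values at 12C -/
noncomputable def col56 : List ℤ :=
  (by
  refine (?fq9057 : ((pk61l (fun i1 => (pk61z (pk61d (nat_lit 9) 
    (nat_lit 0x2831c00003b85156280017000000033c00807d36c0000000001200098006861002d0f10e3b07c120a2d87000002c801426e870000078002d16620c7c34b8db19164f45a511bc3c7f3200000271480144ff4fb718e7f09825cafa45b40008008398a26f3f8721c7f4014a07853f9ad44a109bbc9e20181e80014a6070b2a18003e1a52373a168e16db54c01c0916826345915c9cab740f1de5c0d8cc1445243483a6f140f8f4265a0e4a66b360f42c1d319b060362681c1c320e024040a0c0481002) i1))) (nat_lit 0) (nat_lit 175) List.nil) : List ℤ)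
    = ?xq9057 → (List ℤ)) ?hq9057; (case hq9057 => (set_option maxRecDepth 1000000 in conv => lhs; reduce)); intro _; exact ?xq9057 : List ℤ)

/-- the values at 12D -/
noncomputable def col57 : List ℤ :=
  (by
  refine (?fq9058 : ((pk61l (fun i1 => (pk61z (pk61d (nat_lit 9) 
    (nat_lit 0x1fc000027a200000283b0e7801f9ac0000001400000769b0000000000fa7f1180198590019180113f0fd947e361dc0000688014239649bcd8343f89048405b848907b628e4226651240947f3d80111983c9fd44ff501adc000641f424125603c7ea047a18ea90000ec22007fbaa38513f8c142a2c20a0002f28044006b7e0ac24a23fb40220a0123c4616361f4c09c14ae8b62c172dd7ca028500206b379ad9471039f9149023994222911875480325804345e1c0b0063e268b042160f8c82c22000381802) i1))) (nat_lit 0) (nat_lit 175) List.nil) : List ℤ)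
    = ?xq9058 → (List ℤ)) ?hq9058; (case hq9058 => (set_option maxRecDepth 1000000 in conv => lhs; reduce)); intro _; exact ?xq9058 : List ℤ)

/-- the values at 12E -/
noncomputable def col58 : List ℤ :=
  (by
  refine (?fq9059 : ((pk61l (fun i1 => (pk61z (pk61d (nat_lit 8) 
    (nat_lit 0x4f7800004f130b00000c0000007f0030323b000000001d5024006b1100141896111f5a1e0b4700001e001131a950b314503b3b1fa095301482464e96122f952014004f7866101200003c272fa01d5a7db47f00200059752f2f0c966f2f1213f91fbf11123c788f6f704e003b6bbc5a124f00960232a83c6e3b5a0083891d7c6ba1088e20e700180c1f6b321e476e422f002a4e293c2a031b83290231005c4446121b0141201d161a17160b02) i1))) (nat_lit 0) (nat_lit 175) List.nil) : List ℤ)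
    = ?xq9059 → (List ℤ)) ?hq9059; (case hq9059 => (set_option maxRecDepth 1000000 in conv => lhs; reduce)); intro _; exact ?xq9059 : List ℤ)

/-- the values at 12F -/
noncomputable def col59 : List ℤ :=
  (by
  refine (?fq9060 : ((pk61l (fun i1 => (pk61z (pk61d (nat_lit 8) 
    (nat_lit 0x23133b50777f000000000000005a00a2000000000000593000473b007800777700003b00008c00002828785a1e001e1e303b3c77143146007800005900440000006300000000001d001e00000031008027003b770000003b0000001d3b000a00003b0a3c1e1e00476300001d0000001e005a3b1812000057ae28603b785a4f5a543b59820045571d661d027800593b0028061d301a4f1e1e500a2e1d241d3c0900251e0c1e09060a02) i1))) (nat_lit 0) (nat_lit 175) List.nil) : List ℤ)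
    = ?xq9060 → (List ℤ)) ?hq9060; (case hq9060 => (set_option maxRecDepth 1000000 in conv => lhs; reduce)); intro _; exact ?xq9060 : List ℤ)

/-- the values at 12G -/
noncomputable def col60 : List ℤ :=
  (by
  refine (?fq9061 : ((pk61l (fun i1 => (pk61z (pk61d (nat_lit 8) 
    (nat_lit 0x8000000f570000502c3c1f3f240000000f00001223000000001d0053000336005b4f1e1e402a1e2308000031004109494f6c0b003b3b3f581d271b3566114642302a0044005847190042001f241000271d4212232f3f202f461530002b1e00000523210050414214172010101100140c1b1d42000f1e251d403c062312602356150b1c1128011f1f3f00242f2b1a4e07212530081a11093c120b0c04311501280c130e0d1c0106000d091210010302) i1))) (nat_lit 0) (nat_lit 175) List.nil) : List ℤ)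
    = ?xq9061 → (List ℤ)) ?hq9061; (case hq9061 => (set_option maxRecDepth 1000000 in conv => lhs; reduce)); intro _; exact ?xq9061 : List ℤ)

/-- the values at 12H -/
noncomputable def col61 : List ℤ :=
  (by
  refine (?fq9062 : ((pk61l (fun i1 => (pk61z (pk61d (nat_lit 7) 
    (nat_lit 0x205c00050ad1c7002c000010002f34f0000000148f48011b60111786b30332a18f0000520089602800271e2c6400e15dcb15242aa24c0f202801418533c90000ed03056a4935190003f001a8b0609030f60d61ad3eec91116017d02014024d710891200029a1cbc589784800c24495bc3a2009b1e3238b083190530c82b000442861644d83161470d16b042e243c08506186820028002) i1))) (nat_lit 0) (nat_lit 175) List.nil) : List ℤ)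
    = ?xq9062 → (List ℤ)) ?hq9062; (case hq9062 => (set_option maxRecDepth 1000000 in conv => lhs; reduce)); intro _; exact ?xq9062 : List ℤ)

/-- the values at 12I -/
noncomputable def col62 : List ℤ :=
  (by
  refine (?fq9063 : ((pk61l (fun i1 => (pk61z (pk61d (nat_lit 7) 
    (nat_lit 0x206000010ad217003000000400000a2c00000014807800211012e401527cb2a160c0000c020c15c7c00700509a00008604046428584c0080480278712021004030b8006a5a85363c000609873000300800074e0a002e141784183f1e1401446ccb4100bc11d221ca2e1614fbc24d41bb1a2188b4e7100c0831d1a2e489300e042862858e043834cbd18b0f861a20702062411a1008382) i1))) (nat_lit 0) (nat_lit 175) List.nil) : List ℤ)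
    = ?xq9063 → (List ℤ)) ?hq9063; (case hq9063 => (set_option maxRecDepth 1000000 in conv => lhs; reduce)); intro _; exact ?xq9063 : List ℤ)

/-- the values at 12J -/
noncomputable def col63 : List ℤ :=
  (by
  refine (?fq9064 : ((pk61l (fun i1 => (pk61z (pk61d (nat_lit 7) 
    (nat_lit 0x5e600002030daf808c000000000024900000000900480121100ecc062200291485c0007c008812c0298b002c580601579444588a9240028088018171200900008cc005e49a920801fa0001828000303000049186007c89218a18306044014488c2920000312246061148d50239248624221cf0030014231e5091130389000014899181461b3818e8e2070586249071120483051018202) i1))) (nat_lit 0) (nat_lit 175) List.nil) : List ℤ)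
    = ?xq9064 → (List ℤ)) ?hq9064; (case hq9064 => (set_option maxRecDepth 1000000 in conv => lhs; reduce)); intro _; exact ?xq9064 : List ℤ)

/-- the values at 12K -/
noncomputable def col64 : List ℤ :=
  (by
  refine (?fq9065 : ((pk61l (fun i1 => (pk61z (pk61d (nat_lit 7) 
    (nat_lit 0x3ec002326118470000000007c0000401a80000002000d8000006d7980040c000030000180001f503c9094044f10083181b02040180000f206600800187c0000000a802c000000c7c00f003040000bc5bf00005033e480001674626320000b003c9003e008a02a2cc15000001e2ec02170afd114281a1001a60aa90a68b806c300000c14782007849f0a38104240c0802a1820e0c04282) i1))) (nat_lit 0) (nat_lit 175) List.nil) : List ℤ)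
    = ?xq9065 → (List ℤ)) ?hq9065; (case hq9065 => (set_option maxRecDepth 1000000 in conv => lhs; reduce)); intro _; exact ?xq9065 : List ℤ)

/-- the values at 12L -/
noncomputable def col65 : List ℤ :=
  (by
  refine (?fq9066 : ((pk61l (fun i1 => (pk61z (pk61d (nat_lit 7) 
    (nat_lit 0x1e9c0001e4e220000c000007c00f5a5000000001102800da1002c4191c7c281089c000020089e123c614201021f1e6902b2418709243caa016000180cbc9007e4c4101e08a820880020406450f200ccaf20086093e0089226e08101e38024084ca921e7cc8d241c18128280232c349a43ca089f2e00403402c11e0eb890f20287090614994261868e1e70596242c08e000848a0e18202) i1))) (nat_lit 0) (nat_lit 175) List.nil) : List ℤ)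
    = ?xq9066 → (List ℤ)) ?hq9066; (case hq9066 => (set_option maxRecDepth 1000000 in conv => lhs; reduce)); intro _; exact ?xq9066 : List ℤ)

/-- the values at 12M -/
noncomputable def col66 : List ℤ :=
  (by
  refine (?fq9067 : ((pk61l (fun i1 => (pk61z (pk61d (nat_lit 7) 
    (nat_lit 0xfc000403c03cc650007400000000800000a00900000000000787802e4c818001cc00000c000680003f0e40929001888f26907830c180280000880360080008000003e0050012000005201008004c4000040600000028300680000614d960201803003c280008031f6a70b920000c1110206070a4051c3838e80241cd061a08380120c0080c140052058490147850314100800a041860204102) i1))) (nat_lit 0) (nat_lit 175) List.nil) : List ℤ)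
    = ?xq9067 → (List ℤ)) ?hq9067; (case hq9067 => (set_option maxRecDepth 1000000 in conv => lhs; reduce)); intro _; exact ?xq9067 : List ℤ)

/-- the values at 12N -/
noncomputable def col67 : List ℤ :=
  (by
  refine (?fq9068 : ((pk61l (fun i1 => (pk61z (pk61d (nat_lit 6) 
    (nat_lit 0x5d70244cc2187c000000000048046300000001260000c30001700000c0003c000710b1510124983232cfb8a00c0001800c02ef20000000018044000058082002300002f8c000016400100032200514002700044000048048001100022a1cc5cb44718b011c400947861892c048c0134925c91d245458a18c14c080046005246042) i1))) (nat_lit 0) (nat_lit 175) List.nil) : List ℤ)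
    = ?xq9068 → (List ℤ)) ?hq9068; (case hq9068 => (set_option maxRecDepth 1000000 in conv => lhs; reduce)); intro _; exact ?xq9068 : List ℤ)

/-- the values at 12O -/
noncomputable def col68 : List ℤ :=
  (by
  refine (?fq9069 : ((pk61l (fun i1 => (pk61z (pk61d (nat_lit 6) 
    (nat_lit 0x40000c0c401700000001f0001401580000000064006035c70071c000300030000040775600e5a03145c426e0000000402c01d00c000080048024000026001800320000070000029301200030a8ce24001400f34000038014420a0001c66006c034f34c6c154088034914500005c02f3a540d40158748988c95b26008e50e38e282) i1))) (nat_lit 0) (nat_lit 175) List.nil) : List ℤ)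
    = ?xq9069 → (List ℤ)) ?hq9069; (case hq9069 => (set_option maxRecDepth 1000000 in conv => lhs; reduce)); intro _; exact ?xq9069 : List ℤ)

/-- the values at 12P -/
noncomputable def col69 : List ℤ :=
  (by
  refine (?fq9070 : ((pk61l (fun i1 => (pk61z (pk61d (nat_lit 6) 
    (nat_lit 0xc170005d40c800b00000000054c0000001802c070601b40619f18530300024078939000700b3205c550428914a74078050021718074000b7c010648530000002644000b1800058cd00b75e50f40f3c50242cb45e0001453a02e63127c308d2c34870443d320b5034951e254000e1562ce1131050421031ce340045306082005002) i1))) (nat_lit 0) (nat_lit 175) List.nil) : List ℤ)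
    = ?xq9070 → (List ℤ)) ?hq9070; (case hq9070 => (set_option maxRecDepth 1000000 in conv => lhs; reduce)); intro _; exact ?xq9070 : List ℤ)

/-- the values at 12Q -/
noncomputable def col70 : List ℤ :=
  (by
  refine (?fq9071 : ((pk61l (fun i1 => (pk61z (pk61d (nat_lit 6) 
    (nat_lit 0x2331b3c80000000000005404800000000364005d47d80075c001b0000c000820714101178f2cc20404900700018050080030000000088004000044001701b5c00002c000074400500051a4e138060c0004800004406946020001ce2102e715028451608068876634d9c019b00718240a41104f28e35434c5801510ce186142) i1))) (nat_lit 0) (nat_lit 175) List.nil) : List ℤ)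
    = ?xq9071 → (List ℤ)) ?hq9071; (case hq9071 => (set_option maxRecDepth 1000000 in conv => lhs; reduce)); intro _; exact ?xq9071 : List ℤ)

/-- the values at 12R -/
noncomputable def col71 : List ℤ :=
  (by
  refine (?fq9072 : ((pk61l (fun i1 => (pk61z (pk61d (nat_lit 5) 
    (nat_lit 0x31ac080000000000100a0000000040078c070010002c002000839ca1019d019103304080012060000200000004008000080000110000180001a4008001b4913010b000a0000c028d0a0020142068281ac184402a1a95150032c003080201820284ac52d205196609842) i1))) (nat_lit 0) (nat_lit 175) List.nil) : List ℤ)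
    = ?xq9072 → (List ℤ)) ?hq9072; (case hq9072 => (set_option maxRecDepth 1000000 in conv => lhs; reduce)); intro _; exact ?xq9072 : List ℤ)

/-- the values at 12S -/
noncomputable def col72 : List ℤ :=
  (by
  refine (?fq9073 : ((pk61l (fun i1 => (pk61z (pk61d (nat_lit 5) 
    (nat_lit 0xc600b60d080000000000100cb00000014e000c8001c0000c00400081cca1014a86306708804000c0180600000000020080003000000c0000180000a401800188e210000000c0000a012009000e24100331c244052010cc90846028c04288e139423088235314031902318c2) i1))) (nat_lit 0) (nat_lit 175) List.nil) : List ℤ)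
    = ?xq9073 → (List ℤ)) ?hq9073; (case hq9073 => (set_option maxRecDepth 1000000 in conv => lhs; reduce)); intro _; exact ?xq9073 : List ℤ)

/-- the values at 12T -/
noncomputable def col73 : List ℤ :=
  (by
  refine (?fq9074 : ((pk61l (fun i1 => (pk61z (pk61d (nat_lit 5) 
    (nat_lit 0x3c0c20c080000f80000300c083c0001400600e002c0000c0000007400a1014c0000002940000020000e000000000a0080003000b010000000000044018000180150000000c0000a0280010018101008100c03884010041084e030c043140101420104c0300202880210422) i1))) (nat_lit 0) (nat_lit 175) List.nil) : List ℤ)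
    = ?xq9074 → (List ℤ)) ?hq9074; (case hq9074 => (set_option maxRecDepth 1000000 in conv => lhs; reduce)); intro _; exact ?xq9074 : List ℤ)

/-- the values at 13A -/
noncomputable def col74 : List ℤ :=
  (by
  refine (?fq9075 : ((pk61l (fun i1 => (pk61z (pk61d (nat_lit 4) 
    (nat_lit 0xb00b00700000066006105022012001000000005000000000006000050000230100040001000006000450003201500220000066010002001460530000006200000000200000100001045531500030102000020206644662) i1))) (nat_lit 0) (nat_lit 175) List.nil) : List ℤ)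
    = ?xq9075 → (List ℤ)) ?hq9075; (case hq9075 => (set_option maxRecDepth 1000000 in conv => lhs; reduce)); intro _; exact ?xq9075 : List ℤ)

/-- the values at 14A -/
noncomputable def col75 : List ℤ :=
  (by
  refine (?fq9076 : ((pk61l (fun i1 => (pk61z (pk61d (nat_lit 9) 
    (nat_lit 0x45c00b4000011e00000a0000045914de7f40161f8570023000b33fa010000382d001187d918008c383ec004612bf0000013800b200001640118000d26800000c4000000001da8b2c91400c7000002845379bc000045a088c460030c2646000cdf6004a00000021b8011857543b88c0064000006b4080000000009c00a0229156c6c00000e06f45914b600378500000139148c48001140000001140045358004c005b000de4576bb91846232cdb4fc638022e5b37809f88206918feb5461f4b446198982602) i1))) (nat_lit 0) (nat_lit 175) List.nil) : List ℤ)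
    = ?xq9076 → (List ℤ)) ?hq9076; (case hq9076 => (set_option maxRecDepth 1000000 in conv => lhs; reduce)); intro _; exact ?xq9076 : List ℤ)

/-- the values at 14B -/
noncomputable def col76 : List ℤ :=
  (by
  refine (?fq9077 : ((pk61l (fun i1 => (pk61z (pk61d (nat_lit 6) 
    (nat_lit 0xc00060000f00000d00f40400300000b3d040000c00000e00000000e2400002c01400050000036c0006000000a8014e0030001cd00000001234d01c20d0040002000027000036cd34010001744000000b01438d39800000000d1c00070002ce38b00e00000d00d5c028034000e38d00d34b5800c001400201234d3ce00e18e10a202) i1))) (nat_lit 0) (nat_lit 175) List.nil) : List ℤ)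
    = ?xq9077 → (List ℤ)) ?hq9077; (case hq9077 => (set_option maxRecDepth 1000000 in conv => lhs; reduce)); intro _; exact ?xq9077 : List ℤ)

/-- the values at 14C -/
noncomputable def col77 : List ℤ :=
  (by
  refine (?fq9078 : ((pk61l (fun i1 => (pk61z (pk61d (nat_lit 6) 
    (nat_lit 0xc0005c001000000d00f3c400300000c41040000b00000e00000000e2400002c01400050000040c000600000014014e00402021500700021234d0131c20030001c00021006031026800c001844000000b01304d6570000100021c06080002ce38c00e00000d00a60028054002119d00d34c58010001300201214240901118e0ca1c2) i1))) (nat_lit 0) (nat_lit 175) List.nil) : List ℤ)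
    = ?xq9078 → (List ℤ)) ?hq9078; (case hq9078 => (set_option maxRecDepth 1000000 in conv => lhs; reduce)); intro _; exact ?xq9078 : List ℤ)

/-- the values at 14D -/
noncomputable def col78 : List ℤ :=
  (by
  refine (?fq9079 : ((pk61l (fun i1 => (pk61z (pk61d (nat_lit 5) 
    (nat_lit 0x1c0b0020001c00595e001c68030040000080c082180c8100628c00380c00180800c6003800000ab314080006a78000608c601081010801800238168424c0380030800001c0011624002085c88000c00394c7014000140a180c0081e212586310a3400ec7886250402608a621882) i1))) (nat_lit 0) (nat_lit 175) List.nil) : List ℤ)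
    = ?xq9079 → (List ℤ)) ?hq9079; (case hq9079 => (set_option maxRecDepth 1000000 in conv => lhs; reduce)); intro _; exact ?xq9079 : List ℤ)

/-- the values at 14E -/
noncomputable def col79 : List ℤ :=
  (by
  refine (?fq9080 : ((pk61l (fun i1 => (pk61z (pk61d (nat_lit 5) 
    (nat_lit 0x200b001e0020005960001c680300300000790072180c7900628c00380c00180701080038000004b314070008583c00208c60306900c802000240068404c0400040800001c00514c3001e05a88079000394c80140001405200c03020a6858630ca33810b8086212405608a619862) i1))) (nat_lit 0) (nat_lit 175) List.nil) : List ℤ)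
    = ?xq9080 → (List ℤ)) ?hq9080; (case hq9080 => (set_option maxRecDepth 1000000 in conv => lhs; reduce)); intro _; exact ?xq9080 : List ℤ)

/-- the values at 15A -/
noncomputable def col80 : List ℤ :=
  (by
  refine (?fq9081 : ((pk61l (fun i1 => (pk61z (pk61d (nat_lit 5) 
    (nat_lit 0x12002a873a80101c00bdc8820341000800b8034a40001ca0000001b18900040001403340a040004c0c7a200201087026668012d138052b4004a8a6000e212800aa58665c0a005643d2924806e3092e7010a5158b501ed3a9415996a48434448a7124c408cc8008c2) i1))) (nat_lit 0) (nat_lit 175) List.nil) : List ℤ)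
    = ?xq9081 → (List ℤ)) ?hq9081; (case hq9081 => (set_option maxRecDepth 1000000 in conv => lhs; reduce)); intro _; exact ?xq9081 : List ℤ)

/-- the values at 15B -/
noncomputable def col81 : List ℤ :=
  (by
  refine (?fq9082 : ((pk61l (fun i1 => (pk61z (pk61d (nat_lit 3) 
    (nat_lit 0x300042000001300301020000000000000000500000000020000400000000800000000060000000800090001e01410000360008208000080b1036c1000410922) i1))) (nat_lit 0) (nat_lit 175) List.nil) : List ℤ)
    = ?xq9082 → (List ℤ)) ?hq9082; (case hq9082 => (set_option maxRecDepth 1000000 in conv => lhs; reduce)); intro _; exact ?xq9082 : List ℤ)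

/-- the values at 16A -/
noncomputable def col82 : List ℤ :=
  (by
  refine (?fq9083 : ((pk61l (fun i1 => (pk61z (pk61d (nat_lit 6) 
    (nat_lit 0xec000c60c51c0180000000002c01c68c00008001520080002cf40080a19446940050820034e00c2c000a04008259f418640000600400100000d584553496000000017d20003c000475c0016c401774c30a7402c009f00039055e00874701881330b58020516a61130021645b6a92ca7c479900c00e5a044c4d00d20c92ca0542c1182) i1))) (nat_lit 0) (nat_lit 175) List.nil) : List ℤ)
    = ?xq9083 → (List ℤ)) ?hq9083; (case hq9083 => (set_option maxRecDepth 1000000 in conv => lhs; reduce)); intro _; exact ?xq9083 : List ℤ)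

/-- the values at 16B -/
noncomputable def col83 : List ℤ :=
  (by
  refine (?fq9084 : ((pk61l (fun i1 => (pk61z (pk61d (nat_lit 6) 
    (nat_lit 0x90000c60c2c30180000000002c01c68c00007c0a9d0080002cf4007d518b78640050820049100c2c0025440b4226041824000060040010000015884a8a660000000181d0003c000474301e11b01774c3154802c03600000502910087470187d330b24022514a611b002094446862d580444900c00125f38c3100c20d95153942ce242) i1))) (nat_lit 0) (nat_lit 175) List.nil) : List ℤ)
    = ?xq9084 → (List ℤ)) ?hq9084; (case hq9084 => (set_option maxRecDepth 1000000 in conv => lhs; reduce)); intro _; exact ?xq9084 : List ℤ)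

/-- the values at 16C -/
noncomputable def col84 : List ℤ :=
  (by
  refine (?fq9085 : ((pk61l (fun i1 => (pk61z (pk61d (nat_lit 5) 
    (nat_lit 0x80070e320c18000000016041960000005140800160000054b131000874004904c600082050920021c0002e000080001477144138000004050000000ca40046301c4362840600a000020104081200702c740810291501200f6330411880308403038203308059466188c4218c2) i1))) (nat_lit 0) (nat_lit 175) List.nil) : List ℤ)
    = ?xq9085 → (List ℤ)) ?hq9085; (case hq9085 => (set_option maxRecDepth 1000000 in conv => lhs; reduce)); intro _; exact ?xq9085 : List ℤ)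

/-- the values at 16D -/
noncomputable def col85 : List ℤ :=
  (by
  refine (?fq9086 : ((pk61l (fun i1 => (pk61z (pk61d (nat_lit 5) 
    (nat_lit 0x16000cfca4c070000000160418800000013408002800000a4b02900098b81a90318001520108c0020c0001000008000047328a6380000040d00000031440386301c43994a0180400012011808120070106b0810212901200e64b1a66080c324030182033080208611882420422) i1))) (nat_lit 0) (nat_lit 175) List.nil) : List ℤ)
    = ?xq9086 → (List ℤ)) ?hq9086; (case hq9086 => (set_option maxRecDepth 1000000 in conv => lhs; reduce)); intro _; exact ?xq9086 : List ℤ)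

/-- the values at 16E -/
noncomputable def col86 : List ℤ :=
  (by
  refine (?fq9087 : ((pk61l (fun i1 => (pk61z (pk61d (nat_lit 5) 
    (nat_lit 0x160030ec2300700000000803986000000114080008f80005310c1800884004100d60034c0508c081dc0000e08016000047314a1380000040a001e0010530396b020431954058140001302a40811c07030643010a294ee1810672ca15940430403024c008c70195812152421822) i1))) (nat_lit 0) (nat_lit 175) List.nil) : List ℤ)
    = ?xq9087 → (List ℤ)) ?hq9087; (case hq9087 => (set_option maxRecDepth 1000000 in conv => lhs; reduce)); intro _; exact ?xq9087 : List ℤ)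

/-- the values at 16G -/
noncomputable def col87 : List ℤ :=
  (by
  refine (?fq9088 : ((pk61l (fun i1 => (pk61z (pk61d (nat_lit 4) 
    (nat_lit 0x300383340000000040014000001100003000021425004000210440012012100020000000400010221500000101000003230133002332604010002025002000034410022201400113224203250305101430464542234222) i1))) (nat_lit 0) (nat_lit 175) List.nil) : List ℤ)
    = ?xq9088 → (List ℤ)) ?hq9088; (case hq9088 => (set_option maxRecDepth 1000000 in conv => lhs; reduce)); intro _; exact ?xq9088 : List ℤ)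

/-- the values at 16H -/
noncomputable def col88 : List ℤ :=
  (by
  refine (?fq9089 : ((pk61l (fun i1 => (pk61z (pk61d (nat_lit 3) 
    (nat_lit 0x180fb700000018060000c400200023120180110e00682880100000180084b20000460000d305b0148888300284804000db2024818012d58834840882d885a8ac692) i1))) (nat_lit 0) (nat_lit 175) List.nil) : List ℤ)
    = ?xq9089 → (List ℤ)) ?hq9089; (case hq9089 => (set_option maxRecDepth 1000000 in conv => lhs; reduce)); intro _; exact ?xq9089 : List ℤ)

/-- the values at 17A -/
noncomputable def col89 : List ℤ :=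
  (by
  refine (?fq9090 : ((pk61l (fun i1 => (pk61z (pk61d (nat_lit 3) 
    (nat_lit 0x236041000c12100044800000020110000000080000000000000c30000000000000020000000010000000020004000004000081040080000122006000090002120a2) i1))) (nat_lit 0) (nat_lit 175) List.nil) : List ℤ)
    = ?xq9090 → (List ℤ)) ?hq9090; (case hq9090 => (set_option maxRecDepth 1000000 in conv => lhs; reduce)); intro _; exact ?xq9090 : List ℤ)

/-- the values at 18A -/
noncomputable def col90 : List ℤ :=
  (by
  refine (?fq9091 : ((pk61l (fun i1 => (pk61z (pk61d (nat_lit 5) 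
    (nat_lit 0x400023c002508f4006741800280003a0060000001400014e0000000000649406280062800a284000000a280a061803000c0280006448502ca000004200c22800082c01700030040031c052800500160000cc218c531160290a00200000000000a3410213a846194a41002221882) i1))) (nat_lit 0) (nat_lit 175) List.nil) : List ℤ)
    = ?xq9091 → (List ℤ)) ?hq9091; (case hq9091 => (set_option maxRecDepth 1000000 in conv => lhs; reduce)); intro _; exact ?xq9091 : List ℤ)

/-- the values at 18C -/
noncomputable def col91 : List ℤ :=
  (by
  refine (?fq9092 : ((pk61l (fun i1 => (pk61z (pk61d (nat_lit 4) 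
    (nat_lit 0x8004800c377404002002000000500000100013000000805a2026001100222000041502001073060100082060020000000222000430550030a00140150010040001006111700631034000000002433163252421014163242) i1))) (nat_lit 0) (nat_lit 175) List.nil) : List ℤ)
    = ?xq9092 → (List ℤ)) ?hq9092; (case hq9092 => (set_option maxRecDepth 1000000 in conv => lhs; reduce)); intro _; exact ?xq9092 : List ℤ)

/-- the values at 18D -/
noncomputable def col92 : List ℤ :=
  (by
  refine (?fq9093 : ((pk61l (fun i1 => (pk61z (pk61d (nat_lit 4) 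
    (nat_lit 0x4000444000300600500000010000050002000000000112062006500221000002205036040010500036320450000330625000040110040600680520050040006331656340235007000000005374618226452320123632) i1))) (nat_lit 0) (nat_lit 175) List.nil) : List ℤ)
    = ?xq9093 → (List ℤ)) ?hq9093; (case hq9093 => (set_option maxRecDepth 1000000 in conv => lhs; reduce)); intro _; exact ?xq9093 : List ℤ)

/-- the values at 18E -/
noncomputable def col93 : List ℤ :=
  (by
  refine (?fq9094 : ((pk61l (fun i1 => (pk61z (pk61d (nat_lit 4) 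
    (nat_lit 0x7000471060300000000000040000000003000000500118003000000221000003200020040040000020220400000330030600010440010000030030000010600381000310220001000005000214012230402320432022) i1))) (nat_lit 0) (nat_lit 175) List.nil) : List ℤ)
    = ?xq9094 → (List ℤ)) ?hq9094; (case hq9094 => (set_option maxRecDepth 1000000 in conv => lhs; reduce)); intro _; exact ?xq9094 : List ℤ)

/-- the values at 18F -/
noncomputable def col94 : List ℤ :=
  (by
  refine (?fq9095 : ((pk61l (fun i1 => (pk61z (pk61d (nat_lit 3) 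
    (nat_lit 0x8007180048804006c200004004000000638140140148001a3c864080840084211000301220060140408030120100000c04941830860000001480986a6b02ce89a) i1))) (nat_lit 0) (nat_lit 175) List.nil) : List ℤ)
    = ?xq9095 → (List ℤ)) ?hq9095; (case hq9095 => (set_option maxRecDepth 1000000 in conv => lhs; reduce)); intro _; exact ?xq9095 : List ℤ)

/-- the values at 19A -/
noncomputable def col95 : List ℤ :=
  (by
  refine (?fq9096 : ((pk61l (fun i1 => (pk61z (pk61d (nat_lit 3) 
    (nat_lit 0x12081c000289200000240080080000000008000000000010000000008040000080000200000000000000000200000000010000010000010008000408000001001492) i1))) (nat_lit 0) (nat_lit 175) List.nil) : List ℤ)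
    = ?xq9096 → (List ℤ)) ?hq9096; (case hq9096 => (set_option maxRecDepth 1000000 in conv => lhs; reduce)); intro _; exact ?xq9096 : List ℤ)

/-- the values at 20A -/
noncomputable def col96 : List ℤ :=
  (by
  refine (?fq9097 : ((pk61l (fun i1 => (pk61z (pk61d (nat_lit 7) 
    (nat_lit 0xc000000980005000000500220074000000001e76019c59001e003ea001e264da92000140000000003c74ea000004800000a005864014000000026781902f4c00900d949d004c02866009a8136c0098c9c000065070a0000e898c50880044ce8494d001401145ae00384012601da750209a23400f0e2810e982800e8a005078a229d63e264e28b520631c12814bb5cd561e3258682) i1))) (nat_lit 0) (nat_lit 175) List.nil) : List ℤ)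
    = ?xq9097 → (List ℤ)) ?hq9097; (case hq9097 => (set_option maxRecDepth 1000000 in conv => lhs; reduce)); intro _; exact ?xq9097 : List ℤ)

/-- the values at 20B -/
noncomputable def col97 : List ℤ :=
  (by
  refine (?fq9098 : ((pk61l (fun i1 => (pk61z (pk61d (nat_lit 6) 
    (nat_lit 0x11300000000000000024f0132940007800002c01c00004800000001950000000000000000072400000000006050005000000005d090300000f2c00000002c000001f28000000040038000000000030044000e3cc4c000056100520800900001c00e34000f0050050140140003803003c201400104800b2420401861001420c2) i1))) (nat_lit 0) (nat_lit 175) List.nil) : List ℤ)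
    = ?xq9098 → (List ℤ)) ?hq9098; (case hq9098 => (set_option maxRecDepth 1000000 in conv => lhs; reduce)); intro _; exact ?xq9098 : List ℤ)

/-- the values at 20C -/
noncomputable def col98 : List ℤ :=
  (by
  refine (?fq9099 : ((pk61l (fun i1 => (pk61z (pk61d (nat_lit 5) 
    (nat_lit 0x1e000260050000000e028000026a0016a3800040009000c1002600000052547001400000079414000000287080c0901429000004029352c0a500001ccaa0014a54c4014d2f71c000250601501a0013022853012503d4f0014a0008a14c8298148085284b0206988a288c2) i1))) (nat_lit 0) (nat_lit 175) List.nil) : List ℤ)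
    = ?xq9099 → (List ℤ)) ?hq9099; (case hq9099 => (set_option maxRecDepth 1000000 in conv => lhs; reduce)); intro _; exact ?xq9099 : List ℤ)

/-- the values at 20D -/
noncomputable def col99 : List ℤ :=
  (by
  refine (?fq9100 : ((pk61l (fun i1 => (pk61z (pk61d (nat_lit 5) 
    (nat_lit 0x3000018002c000121d00800001e120185400600200118cb200100000000884000120000801a40b000001859043009018c200c08181884900931c00e2c2a0004932e201304ba91e40148e0050160087421825002122c47200450100a09e61630a44b8cc480c40946131842) i1))) (nat_lit 0) (nat_lit 175) List.nil) : List ℤ)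
    = ?xq9100 → (List ℤ)) ?hq9100; (case hq9100 => (set_option maxRecDepth 1000000 in conv => lhs; reduce)); intro _; exact ?xq9100 : List ℤ)

/-- the values at 20E -/
noncomputable def col100 : List ℤ :=
  (by
  refine (?fq9101 : ((pk61l (fun i1 => (pk61z (pk61d (nat_lit 4) 
    (nat_lit 0x4003000801050000c5803200708706776600300000565700a000707203000082400b09056108080033230a2700442a002a2450246760080106050130737732101278507022084a533247206e10131726322212) i1))) (nat_lit 0) (nat_lit 175) List.nil) : List ℤ)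
    = ?xq9101 → (List ℤ)) ?hq9101; (case hq9101 => (set_option maxRecDepth 1000000 in conv => lhs; reduce)); intro _; exact ?xq9101 : List ℤ)

/-- the values at 20F -/
noncomputable def col101 : List ℤ :=
  (by
  refine (?fq9102 : ((pk61l (fun i1 => (pk61z (pk61d (nat_lit 4) 
    (nat_lit 0x800040030004820200007130b200400001332a007000001220006000403603000036308406019503003047130610004315005613602424247402410601403807455061442840550475184144241613101362361122) i1))) (nat_lit 0) (nat_lit 175) List.nil) : List ℤ)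
    = ?xq9102 → (List ℤ)) ?hq9102; (case hq9102 => (set_option maxRecDepth 1000000 in conv => lhs; reduce)); intro _; exact ?xq9102 : List ℤ)

/-- the values at 20G -/
noncomputable def col102 : List ℤ :=
  (by
  refine (?fq9103 : ((pk61l (fun i1 => (pk61z (pk61d (nat_lit 4) 
    (nat_lit 0xb400008000005000900060007040005000006600000000000450000000b600400000c000000000007000000050000000600000004060060000001106340200000a5000090203000060807200065300566025306202) i1))) (nat_lit 0) (nat_lit 175) List.nil) : List ℤ)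
    = ?xq9103 → (List ℤ)) ?hq9103; (case hq9103 => (set_option maxRecDepth 1000000 in conv => lhs; reduce)); intro _; exact ?xq9103 : List ℤ)

/-- the values at 20H -/
noncomputable def col103 : List ℤ :=
  (by
  refine (?fq9104 : ((pk61l (fun i1 => (pk61z (pk61d (nat_lit 4) 
    (nat_lit 0x70000000078046050087053001303004060022004000005120002000000200000006400001061200040003600564000055001210105010504002018131003330016022002000627002240204105250532462411112) i1))) (nat_lit 0) (nat_lit 175) List.nil) : List ℤ)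
    = ?xq9104 → (List ℤ)) ?hq9104; (case hq9104 => (set_option maxRecDepth 1000000 in conv => lhs; reduce)); intro _; exact ?xq9104 : List ℤ)

/-- the values at 20I -/
noncomputable def col104 : List ℤ :=
  (by
  refine (?fq9105 : ((pk61l (fun i1 => (pk61z (pk61d (nat_lit 3) 
    (nat_lit 0x230000000081130080180004000320000000002000000808000007000180006000280000080000182011200110800401064000851030088020c1c033482604a2) i1))) (nat_lit 0) (nat_lit 175) List.nil) : List ℤ)
    = ?xq9105 → (List ℤ)) ?hq9105; (case hq9105 => (set_option maxRecDepth 1000000 in conv => lhs; reduce)); intro _; exact ?xq9105 : List ℤ)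

/-- the values at 20J -/
noncomputable def col105 : List ℤ :=
  (by
  refine (?fq9106 : ((pk61l (fun i1 => (pk61z (pk61d (nat_lit 3) 
    (nat_lit 0x2400000001000800800080040000900000000340000064080002000000000000001000000800002020100000905c0800024000421000080020014c0448498282) i1))) (nat_lit 0) (nat_lit 175) List.nil) : List ℤ)
    = ?xq9106 → (List ℤ)) ?hq9106; (case hq9106 => (set_option maxRecDepth 1000000 in conv => lhs; reduce)); intro _; exact ?xq9106 : List ℤ)

/-- the values at 21A -/
noncomputable def col106 : List ℤ :=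
  (by
  refine (?fq9107 : ((pk61l (fun i1 => (pk61z (pk61d (nat_lit 4) 
    (nat_lit 0x7000000030042411102030022203008010330011000300000080220040000340202031640000411022201003002103223201000300003021210003046103100321002000202002060420031102020724204022134011222) i1))) (nat_lit 0) (nat_lit 175) List.nil) : List ℤ)
    = ?xq9107 → (List ℤ)) ?hq9107; (case hq9107 => (set_option maxRecDepth 1000000 in conv => lhs; reduce)); intro _; exact ?xq9107 : List ℤ)

/-- the values at 22A -/
noncomputable def col107 : List ℤ :=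
  (by
  refine (?fq9108 : ((pk61l (fun i1 => (pk61z (pk61d (nat_lit 3) 
    (nat_lit 0x80002011c6030008c06000002004000200106000000014090000120010010198102814810a20000010024020000486402200190800084000a02020182182842a2) i1))) (nat_lit 0) (nat_lit 175) List.nil) : List ℤ)
    = ?xq9108 → (List ℤ)) ?hq9108; (case hq9108 => (set_option maxRecDepth 1000000 in conv => lhs; reduce)); intro _; exact ?xq9108 : List ℤ)

/-- the values at 22B -/
noncomputable def col108 : List ℤ :=
  (by
  refine (?fq9109 : ((pk61l (fun i1 => (pk61z (pk61d (nat_lit 3) 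
    (nat_lit 0x60000000000000000000000020340010001000000000240900000910100200101044128204201811a0c140200088804020000204000c200040402000403498482) i1))) (nat_lit 0) (nat_lit 175) List.nil) : List ℤ)
    = ?xq9109 → (List ℤ)) ?hq9109; (case hq9109 => (set_option maxRecDepth 1000000 in conv => lhs; reduce)); intro _; exact ?xq9109 : List ℤ)

/-- the values at 23AB -/
noncomputable def col109 : List ℤ :=
  (by
  refine (?fq9110 : ((pk61l (fun i1 => (pk61z (pk61d (nat_lit 3) 
    (nat_lit 0x4040200000000000000000001000009080000400000000000002000001200000008400000400000040000000010000000040000000000010080000001000040012) i1))) (nat_lit 0) (nat_lit 175) List.nil) : List ℤ)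
    = ?xq9110 → (List ℤ)) ?hq9110; (case hq9110 => (set_option maxRecDepth 1000000 in conv => lhs; reduce)); intro _; exact ?xq9110 : List ℤ)

/-- the values at 24A -/
noncomputable def col110 : List ℤ :=
  (by
  refine (?fq9111 : ((pk61l (fun i1 => (pk61z (pk61d (nat_lit 5) 
    (nat_lit 0x1c007b08800c000000828c00001476008601106880a922000880c189d843ad60414e31242629d502000009ca001107428a55800001947390c739466820c56400000404590a5400c268189194040c8643002038203431a9399477a821614632254639066130213882a38482) i1))) (nat_lit 0) (nat_lit 175) List.nil) : List ℤ)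
    = ?xq9111 → (List ℤ)) ?hq9111; (case hq9111 => (set_option maxRecDepth 1000000 in conv => lhs; reduce)); intro _; exact ?xq9111 : List ℤ)

/-- the values at 24B -/
noncomputable def col111 : List ℤ :=
  (by
  refine (?fq9112 : ((pk61l (fun i1 => (pk61z (pk61d (nat_lit 5) 
    (nat_lit 0x7a0003906702c000000093000000c05806603106300c562c00300c933c080316001483104a528120181e8480a002d0019a4518000018c0010c001485030a65be0f014035acc6000a5721896480428963120cb4300b2114a39440398a96056c215c519006101251844540802) i1))) (nat_lit 0) (nat_lit 175) List.nil) : List ℤ)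
    = ?xq9112 → (List ℤ)) ?hq9112; (case hq9112 => (set_option maxRecDepth 1000000 in conv => lhs; reduce)); intro _; exact ?xq9112 : List ℤ)

/-- the values at 24C -/
noncomputable def col112 : List ℤ :=
  (by
  refine (?fq9113 : ((pk61l (fun i1 => (pk61z (pk61d (nat_lit 5) 
    (nat_lit 0x200045060010000400711000000281806e01009481221b000480c931c0741060828632a54a29e2f201000a0a000de8184421c000799c740d284098d78ca62200f0280420dc63bd450a08123404289635002400c04191a242847005412048b1a8c51d0011202a224a200802) i1))) (nat_lit 0) (nat_lit 175) List.nil) : List ℤ)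
    = ?xq9113 → (List ℤ)) ?hq9113; (case hq9113 => (set_option maxRecDepth 1000000 in conv => lhs; reduce)); intro _; exact ?xq9113 : List ℤ)

/-- the values at 24D -/
noncomputable def col113 : List ℤ :=
  (by
  refine (?fq9114 : ((pk61l (fun i1 => (pk61z (pk61d (nat_lit 5) 
    (nat_lit 0x20007cc680100003c0751000001482006101001081491a000080c909d8441080009e3a982929caf201000a0a000c08029aa63c00818a740c28434617a0c5a02000040418c453c02a11c612080b7288348020000e438ca6398473a8211c88b184460108e12dc93882201862) i1))) (nat_lit 0) (nat_lit 175) List.nil) : List ℤ)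
    = ?xq9114 → (List ℤ)) ?hq9114; (case hq9114 => (set_option maxRecDepth 1000000 in conv => lhs; reduce)); intro _; exact ?xq9114 : List ℤ)

/-- the values at 24E -/
noncomputable def col114 : List ℤ :=
  (by
  refine (?fq9115 : ((pk61l (fun i1 => (pk61z (pk61d (nat_lit 5) 
    (nat_lit 0x1c0042c8f00c000000890c00000275808601111300c220c00300c131c073ad80448831254529c302000009ca001107a04b25800001827392273946580ca661c0002804610c6402420816919404514642802b3b0e31ad4239547405415986320825211061002d2254a3a8e2) i1))) (nat_lit 0) (nat_lit 175) List.nil) : List ℤ)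
    = ?xq9115 → (List ℤ)) ?hq9115; (case hq9115 => (set_option maxRecDepth 1000000 in conv => lhs; reduce)); intro _; exact ?xq9115 : List ℤ)

/-- the values at 24F -/
noncomputable def col115 : List ℤ :=
  (by
  refine (?fq9116 : ((pk61l (fun i1 => (pk61z (pk61d (nat_lit 5) 
    (nat_lit 0x43c0b211f00000000000280cc00000019e0000600000000000600035a0c2018a0000e31280b000401806fa0000000401000010000000000400000020018000088928168000a0000c010c090000a021634bcc0194c00cd41b186050003284068184b4a8a07012048506108a2) i1))) (nat_lit 0) (nat_lit 175) List.nil) : List ℤ)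
    = ?xq9116 → (List ℤ)) ?hq9116; (case hq9116 => (set_option maxRecDepth 1000000 in conv => lhs; reduce)); intro _; exact ?xq9116 : List ℤ)

/-- the values at 24G -/
noncomputable def col116 : List ℤ :=
  (by
  refine (?fq9117 : ((pk61l (fun i1 => (pk61z (pk61d (nat_lit 5) 
    (nat_lit 0x81c0000c8000c000000029000000402008100c06080a120000080c10806400c6041403284262804018108300a000c00408a2200000184000cc00088101cc519c000040320c45000c21008121404088640a1200000300d4e424a04082621464198464106112cc1014c200482) i1))) (nat_lit 0) (nat_lit 175) List.nil) : List ℤ)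
    = ?xq9117 → (List ℤ)) ?hq9117; (case hq9117 => (set_option maxRecDepth 1000000 in conv => lhs; reduce)); intro _; exact ?xq9117 : List ℤ)

/-- the values at 24H -/
noncomputable def col117 : List ℤ :=
  (by
  refine (?fq9118 : ((pk61l (fun i1 => (pk61z (pk61d (nat_lit 4) 
    (nat_lit 0xc3b0000000000205000000600037800700400400800560190340311080010408040000020600010000470003000a4020032496003002000102372000187305023412028a922001407120501605123241021361122) i1))) (nat_lit 0) (nat_lit 175) List.nil) : List ℤ)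
    = ?xq9118 → (List ℤ)) ?hq9118; (case hq9118 => (set_option maxRecDepth 1000000 in conv => lhs; reduce)); intro _; exact ?xq9118 : List ℤ)

/-- the values at 24I -/
noncomputable def col118 : List ℤ :=
  (by
  refine (?fq9119 : ((pk61l (fun i1 => (pk61z (pk61d (nat_lit 4) 
    (nat_lit 0x8b0000000000200000600005034260150400106260000430310311525010403010500030066570000110002006410356887805030026001693420604218050934430331282604151420001550432241631264132) i1))) (nat_lit 0) (nat_lit 175) List.nil) : List ℤ)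
    = ?xq9119 → (List ℤ)) ?hq9119; (case hq9119 => (set_option maxRecDepth 1000000 in conv => lhs; reduce)); intro _; exact ?xq9119 : List ℤ)

/-- the values at 24J -/
noncomputable def col119 : List ℤ :=
  (by
  refine (?fq9120 : ((pk61l (fun i1 => (pk61z (pk61d (nat_lit 3) 
    (nat_lit 0x37000000004280000401000001008000110487042400088006000102002000c0020014080899203010008502001018413650a11480d0034204846c4f0461252) i1))) (nat_lit 0) (nat_lit 175) List.nil) : List ℤ)
    = ?xq9120 → (List ℤ)) ?hq9120; (case hq9120 => (set_option maxRecDepth 1000000 in conv => lhs; reduce)); intro _; exact ?xq9120 : List ℤ)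

/-- the values at 24K -/
noncomputable def col120 : List ℤ :=
  (by
  refine (?fq9121 : ((pk61l (fun i1 => (pk61z (pk61d (nat_lit 4) 
    (nat_lit 0x70044b0000000000501400000100004000000000400330620120000422030020304030000050200020000000000000100100023120400020001024010002003410104510142111402004210101231220101011012222) i1))) (nat_lit 0) (nat_lit 175) List.nil) : List ℤ)
    = ?xq9121 → (List ℤ)) ?hq9121; (case hq9121 => (set_option maxRecDepth 1000000 in conv => lhs; reduce)); intro _; exact ?xq9121 : List ℤ)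

/-- the values at 24L -/
noncomputable def col121 : List ℤ :=
  (by
  refine (?fq9122 : ((pk61l (fun i1 => (pk61z (pk61d (nat_lit 3) 
    (nat_lit 0xc000000040001000211a211000c0a21b0d866424941062021001888a00005001006200a00004400a0114e2044240c086180c904868998008990240a089682) i1))) (nat_lit 0) (nat_lit 175) List.nil) : List ℤ)
    = ?xq9122 → (List ℤ)) ?hq9122; (case hq9122 => (set_option maxRecDepth 1000000 in conv => lhs; reduce)); intro _; exact ?xq9122 : List ℤ)

/-- the values at 24M -/
noncomputable def col122 : List ℤ :=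
  (by
  refine (?fq9123 : ((pk61l (fun i1 => (pk61z (pk61d (nat_lit 3) 
    (nat_lit 0x38c00000002080000808000c01000000110880004800080000000102002030c000001304004140000801040102110040809041124030428108844820848244a) i1))) (nat_lit 0) (nat_lit 175) List.nil) : List ℤ)
    = ?xq9123 → (List ℤ)) ?hq9123; (case hq9123 => (set_option maxRecDepth 1000000 in conv => lhs; reduce)); intro _; exact ?xq9123 : List ℤ)

/-- the values at 24N -/
noncomputable def col123 : List ℤ :=
  (by
  refine (?fq9124 : ((pk61l (fun i1 => (pk61z (pk61d (nat_lit 3) 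
    (nat_lit 0x1c38c00000004100000800000000000030ca0880184400106000000084004000000000080800822230080104020010c041009020948020024209044821045a48a) i1))) (nat_lit 0) (nat_lit 175) List.nil) : List ℤ)
    = ?xq9124 → (List ℤ)) ?hq9124; (case hq9124 => (set_option maxRecDepth 1000000 in conv => lhs; reduce)); intro _; exact ?xq9124 : List ℤ)

/-- the values at 25A -/
noncomputable def col124 : List ℤ :=
  (by
  refine (?fq9125 : ((pk61l (fun i1 => (pk61z (pk61d (nat_lit 3) 
    (nat_lit 0x20000000000000250000000000012040000002000000000080001000000000000000000008000000001000000001000000000002002010000081040080200212) i1))) (nat_lit 0) (nat_lit 175) List.nil) : List ℤ)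
    = ?xq9125 → (List ℤ)) ?hq9125; (case hq9125 => (set_option maxRecDepth 1000000 in conv => lhs; reduce)); intro _; exact ?xq9125 : List ℤ)

/-- the values at 26A -/
noncomputable def col125 : List ℤ :=
  (by
  refine (?fq9126 : ((pk61l (fun i1 => (pk61z (pk61d (nat_lit 3) 
    (nat_lit 0x20100e000012012104814010000004000000002000800130401000400010044006814024000090400803084c000028000001000020004449940060840008204c84a) i1))) (nat_lit 0) (nat_lit 175) List.nil) : List ℤ)
    = ?xq9126 → (List ℤ)) ?hq9126; (case hq9126 => (set_option maxRecDepth 1000000 in conv => lhs; reduce)); intro _; exact ?xq9126 : List ℤ)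

/-- the values at 26B -/
noncomputable def col126 : List ℤ :=
  (by
  refine (?fq9127 : ((pk61l (fun i1 => (pk61z (pk61d (nat_lit 3) 
    (nat_lit 0x18100000001402410282201000000400000000200040008080000040002000200081402200012080080208200000240000010000400040482200008200042048092) i1))) (nat_lit 0) (nat_lit 175) List.nil) : List ℤ)
    = ?xq9127 → (List ℤ)) ?hq9127; (case hq9127 => (set_option maxRecDepth 1000000 in conv => lhs; reduce)); intro _; exact ?xq9127 : List ℤ)

/-- the values at 27A -/
noncomputable def col127 : List ℤ :=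
  (by
  refine (?fq9128 : ((pk61l (fun i1 => (pk61z (pk61d (nat_lit 3) 
    (nat_lit 0xc0800000000000000480000000080000042400000000000000040001000000040000000000000480000000040000010000000040000200000002090000009001402) i1))) (nat_lit 0) (nat_lit 175) List.nil) : List ℤ)
    = ?xq9128 → (List ℤ)) ?hq9128; (case hq9128 => (set_option maxRecDepth 1000000 in conv => lhs; reduce)); intro _; exact ?xq9128 : List ℤ)

/-- the values at 28A -/
noncomputable def col128 : List ℤ :=
  (by
  refine (?fq9129 : ((pk61l (fun i1 => (pk61z (pk61d (nat_lit 4) 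
    (nat_lit 0x8040000070045000030030300000407460304062300001001070440010000541500003200003266034603403002004001600003100000085514000042300300056005000502301060052136632300840232560532263142) i1))) (nat_lit 0) (nat_lit 175) List.nil) : List ℤ)
    = ?xq9129 → (List ℤ)) ?hq9129; (case hq9129 => (set_option maxRecDepth 1000000 in conv => lhs; reduce)); intro _; exact ?xq9129 : List ℤ)

/-- the values at 28B -/
noncomputable def col129 : List ℤ :=
  (by
  refine (?fq9130 : ((pk61l (fun i1 => (pk61z (pk61d (nat_lit 4) 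
    (nat_lit 0x7040000080045000030030400000308460304062300001001080330010000241500004200004266043104404002003006900004100000072563000745300400056005000502401010022636642300730232210232264132) i1))) (nat_lit 0) (nat_lit 175) List.nil) : List ℤ)
    = ?xq9130 → (List ℤ)) ?hq9130; (case hq9130 => (set_option maxRecDepth 1000000 in conv => lhs; reduce)); intro _; exact ?xq9130 : List ℤ)

/-- the values at 28C -/
noncomputable def col130 : List ℤ :=
  (by
  refine (?fq9131 : ((pk61l (fun i1 => (pk61z (pk61d (nat_lit 4) 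
    (nat_lit 0x30080000002000304000400000300010000011000302002000340060000202104000500007222030204000002408432203000100003031260000005000000311301000205002020011202241040040202520101114202) i1))) (nat_lit 0) (nat_lit 175) List.nil) : List ℤ)
    = ?xq9131 → (List ℤ)) ?hq9131; (case hq9131 => (set_option maxRecDepth 1000000 in conv => lhs; reduce)); intro _; exact ?xq9131 : List ℤ)

/-- the values at 28D -/
noncomputable def col131 : List ℤ :=
  (by
  refine (?fq9132 : ((pk61l (fun i1 => (pk61z (pk61d (nat_lit 4) 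
    (nat_lit 0x30070000002000304000300000400010000011000302002000430060000202103000208000222030203000002300432504000100003041210000005008000311401000202002050016202231030030202220601113202) i1))) (nat_lit 0) (nat_lit 175) List.nil) : List ℤ)
    = ?xq9132 → (List ℤ)) ?hq9132; (case hq9132 => (set_option maxRecDepth 1000000 in conv => lhs; reduce)); intro _; exact ?xq9132 : List ℤ)

/-- the values at 28E -/
noncomputable def col132 : List ℤ :=
  (by
  refine (?fq9133 : ((pk61l (fun i1 => (pk61z (pk61d (nat_lit 3) 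
    (nat_lit 0x40000006800181000000008441014c000804000004000b2800020000890020200020000880002000002900036580000880800820084014a121300009a281891042) i1))) (nat_lit 0) (nat_lit 175) List.nil) : List ℤ)
    = ?xq9133 → (List ℤ)) ?hq9133; (case hq9133 => (set_option maxRecDepth 1000000 in conv => lhs; reduce)); intro _; exact ?xq9133 : List ℤ)

/-- the values at 30A -/
noncomputable def col133 : List ℤ :=
  (by
  refine (?fq9134 : ((pk61l (fun i1 => (pk61z (pk61d (nat_lit 5) 
    (nat_lit 0x120029883a80101c0041c67c0151001e0298044a400000c0000001b16500020001202b80a00000510a42200200d6b0298d6014e12806c98006a4a6001818a4002a58678c0a04987380ed501ee705425016a485634808e429216186249a2c3a744099b794ecc7b922) i1))) (nat_lit 0) (nat_lit 175) List.nil) : List ℤ)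
    = ?xq9134 → (List ℤ)) ?hq9134; (case hq9134 => (set_option maxRecDepth 1000000 in conv => lhs; reduce)); intro _; exact ?xq9134 : List ℤ)

/-- the values at 30B -/
noncomputable def col134 : List ℤ :=
  (by
  refine (?fq9135 : ((pk61l (fun i1 => (pk61z (pk61d (nat_lit 4) 
    (nat_lit 0x2001034101040034340015003066042200006000003005001000205201000014544302030001010012210516001265000152006205830106044041103221121001210320423121063225504224161054103222) i1))) (nat_lit 0) (nat_lit 175) List.nil) : List ℤ)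
    = ?xq9135 → (List ℤ)) ?hq9135; (case hq9135 => (set_option maxRecDepth 1000000 in conv => lhs; reduce)); intro _; exact ?xq9135 : List ℤ)

/-- the values at 30C -/
noncomputable def col135 : List ℤ :=
  (by
  refine (?fq9136 : ((pk61l (fun i1 => (pk61z (pk61d (nat_lit 4) 
    (nat_lit 0x2001044101040033433062000021032200005000003001002000106101070020603302048302023021250622002165003211001205470102004401200222262041150310014111064522203120212313643652) i1))) (nat_lit 0) (nat_lit 175) List.nil) : List ℤ)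
    = ?xq9136 → (List ℤ)) ?hq9136; (case hq9136 => (set_option maxRecDepth 1000000 in conv => lhs; reduce)); intro _; exact ?xq9136 : List ℤ)

/-- the values at 30D -/
noncomputable def col136 : List ℤ :=
  (by
  refine (?fq9137 : ((pk61l (fun i1 => (pk61z (pk61d (nat_lit 3) 
    (nat_lit 0x80980810000200110005832400080008e200800844200051360212309d611481380451021240459102098002401c52a1a3a422108965a24b19325050c04a) i1))) (nat_lit 0) (nat_lit 175) List.nil) : List ℤ)
    = ?xq9137 → (List ℤ)) ?hq9137; (case hq9137 => (set_option maxRecDepth 1000000 in conv => lhs; reduce)); intro _; exact ?xq9137 : List ℤ)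

/-- the values at 30E -/
noncomputable def col137 : List ℤ :=
  (by
  refine (?fq9138 : ((pk61l (fun i1 => (pk61z (pk61d (nat_lit 3) 
    (nat_lit 0x80a0081000018611020c442401d00008d90100102820002086020e005900a582480c9100248045960206311a21928920249b40209186538c09047330808a) i1))) (nat_lit 0) (nat_lit 175) List.nil) : List ℤ)
    = ?xq9138 → (List ℤ)) ?hq9138; (case hq9138 => (set_option maxRecDepth 1000000 in conv => lhs; reduce)); intro _; exact ?xq9138 : List ℤ)

/-- the values at 30F -/
noncomputable def col138 : List ℤ :=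
  (by
  refine (?fq9139 : ((pk61l (fun i1 => (pk61z (pk61d (nat_lit 3) 
    (nat_lit 0x30004180000140040282000000000000000020000000002000030000000080000000008000000080006c001e01410000380008208000080b0c48c100041071a) i1))) (nat_lit 0) (nat_lit 175) List.nil) : List ℤ)
    = ?xq9139 → (List ℤ)) ?hq9139; (case hq9139 => (set_option maxRecDepth 1000000 in conv => lhs; reduce)); intro _; exact ?xq9139 : List ℤ)

/-- the values at 30GH -/
noncomputable def col139 : List ℤ :=
  (by
  refine (?fq9140 : ((pk61l (fun i1 => (pk61z (pk61d (nat_lit 3) 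
    (nat_lit 0x4000000080000102000000000c00000020000000002000040000000100000000000000000080000000010100000000000420800000100c0001000408002) i1))) (nat_lit 0) (nat_lit 175) List.nil) : List ℤ)
    = ?xq9140 → (List ℤ)) ?hq9140; (case hq9140 => (set_option maxRecDepth 1000000 in conv => lhs; reduce)); intro _; exact ?xq9140 : List ℤ)

/-- the values at 31AB -/
noncomputable def col140 : List ℤ :=
  (by
  refine (?fq9141 : ((pk61l (fun i1 => (pk61z (pk61d (nat_lit 2) 
    (nat_lit 0x304001281000000000000200000010002202000000000000000000000000040000000000000080000000102) i1))) (nat_lit 0) (nat_lit 175) List.nil) : List ℤ)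
    = ?xq9141 → (List ℤ)) ?hq9141; (case hq9141 => (set_option maxRecDepth 1000000 in conv => lhs; reduce)); intro _; exact ?xq9141 : List ℤ)

/-- the values at 32AB -/
noncomputable def col141 : List ℤ :=
  (by
  refine (?fq9142 : ((pk61l (fun i1 => (pk61z (pk61d (nat_lit 3) 
    (nat_lit 0x1810490000000004000048000000220a00001200008848800800000000849200004100000804001009000800824040000040128100140a040480050400041050052) i1))) (nat_lit 0) (nat_lit 175) List.nil) : List ℤ)
    = ?xq9142 → (List ℤ)) ?hq9142; (case hq9142 => (set_option maxRecDepth 1000000 in conv => lhs; reduce)); intro _; exact ?xq9142 : List ℤ)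

/-- the values at 32CD -/
noncomputable def col142 : List ℤ :=
  (by
  refine (?fq9143 : ((pk61l (fun i1 => (pk61z (pk61d (nat_lit 3) 
    (nat_lit 0x201046c000000004000024000000221100001200005028801000000001028900004200000804001008801001028040000040128100140904024009040008204808a) i1))) (nat_lit 0) (nat_lit 175) List.nil) : List ℤ)
    = ?xq9143 → (List ℤ)) ?hq9143; (case hq9143 => (set_option maxRecDepth 1000000 in conv => lhs; reduce)); intro _; exact ?xq9143 : List ℤ)

/-- the values at 33A -/
noncomputable def col143 : List ℤ :=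
  (by
  refine (?fq9144 : ((pk61l (fun i1 => (pk61z (pk61d (nat_lit 3) 
    (nat_lit 0x80000808a40100048020000040020000800820000000141100001200200201141044124104a000001002401000088280208012080010200048402010410242252) i1))) (nat_lit 0) (nat_lit 175) List.nil) : List ℤ)
    = ?xq9144 → (List ℤ)) ?hq9144; (case hq9144 => (set_option maxRecDepth 1000000 in conv => lhs; reduce)); intro _; exact ?xq9144 : List ℤ)

/-- the values at 34AB -/
noncomputable def col144 : List ℤ :=
  (by
  refine (?fq9145 : ((pk61l (fun i1 => (pk61z (pk61d (nat_lit 3) 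
    (nat_lit 0x460310000220800044000000200a00000000800000000000000000000000000000100000000100000000200020000040000800001000000a200000012000209082) i1))) (nat_lit 0) (nat_lit 175) List.nil) : List ℤ)
    = ?xq9145 → (List ℤ)) ?hq9145; (case hq9145 => (set_option maxRecDepth 1000000 in conv => lhs; reduce)); intro _; exact ?xq9145 : List ℤ)

/-- the values at 34C -/
noncomputable def col145 : List ℤ :=
  (by
  refine (?fq9146 : ((pk61l (fun i1 => (pk61z (pk61d (nat_lit 3) 
    (nat_lit 0x1b6041001012100034800000020110000000080000000000001040000000000000020000000010000000020004000004000080c300800001220080000900021209a) i1))) (nat_lit 0) (nat_lit 175) List.nil) : List ℤ)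
    = ?xq9146 → (List ℤ)) ?hq9146; (case hq9146 => (set_option maxRecDepth 1000000 in conv => lhs; reduce)); intro _; exact ?xq9146 : List ℤ)

/-- the values at 35A -/
noncomputable def col146 : List ℤ :=
  (by
  refine (?fq9147 : ((pk61l (fun i1 => (pk61z (pk61d (nat_lit 3) 
    (nat_lit 0x2000001245200024820020024048000000004800000800010044080000008840200248000100000000a00900840000100000420821344000a002490009000442) i1))) (nat_lit 0) (nat_lit 175) List.nil) : List ℤ)
    = ?xq9147 → (List ℤ)) ?hq9147; (case hq9147 => (set_option maxRecDepth 1000000 in conv => lhs; reduce)); intro _; exact ?xq9147 : List ℤ)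

/-- the values at 36A -/
noncomputable def col147 : List ℤ :=
  (by
  refine (?fq9148 : ((pk61l (fun i1 => (pk61z (pk61d (nat_lit 3) 
    (nat_lit 0x1c09c06e06000804000010000400a0000002481201402c800194088438104008990d00006122009c640004030140100000b8894e04088000000137d16920942c9082) i1))) (nat_lit 0) (nat_lit 175) List.nil) : List ℤ)
    = ?xq9148 → (List ℤ)) ?hq9148; (case hq9148 => (set_option maxRecDepth 1000000 in conv => lhs; reduce)); intro _; exact ?xq9148 : List ℤ)

/-- the values at 36B -/
noncomputable def col148 : List ℤ :=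
  (by
  refine (?fq9149 : ((pk61l (fun i1 => (pk61z (pk61d (nat_lit 3) 
    (nat_lit 0x80090000004040000200008004000000128240120224000240804001020004201000300a20000220008020240200000808a4002100c000001301109108840a042) i1))) (nat_lit 0) (nat_lit 175) List.nil) : List ℤ)
    = ?xq9149 → (List ℤ)) ?hq9149; (case hq9149 => (set_option maxRecDepth 1000000 in conv => lhs; reduce)); intro _; exact ?xq9149 : List ℤ)

/-- the values at 36C -/
noncomputable def col149 : List ℤ :=
  (by
  refine (?fq9150 : ((pk61l (fun i1 => (pk61z (pk61d (nat_lit 3) 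
    (nat_lit 0x81020000000000000000000000040120000000224000040040000000021200000000004004000200000000001020004000848008000100220224001020040a) i1))) (nat_lit 0) (nat_lit 175) List.nil) : List ℤ)
    = ?xq9150 → (List ℤ)) ?hq9150; (case hq9150 => (set_option maxRecDepth 1000000 in conv => lhs; reduce)); intro _; exact ?xq9150 : List ℤ)

/-- the values at 38A -/
noncomputable def col150 : List ℤ :=
  (by
  refine (?fq9151 : ((pk61l (fun i1 => (pk61z (pk61d (nat_lit 3) 
    (nat_lit 0xe061b000291400000280040040000000010000000000010000000010040000080000200000000000000000200000000010000008000008008000410000001002252) i1))) (nat_lit 0) (nat_lit 175) List.nil) : List ℤ)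
    = ?xq9151 → (List ℤ)) ?hq9151; (case hq9151 => (set_option maxRecDepth 1000000 in conv => lhs; reduce)); intro _; exact ?xq9151 : List ℤ)

/-- the values at 39A -/
noncomputable def col151 : List ℤ :=
  (by
  refine (?fq9152 : ((pk61l (fun i1 => (pk61z (pk61d (nat_lit 3) 
    (nat_lit 0x800000000200481401000000000000000000000012040040040000001000481002400000040080240080000080000010000200041011000408400082001202) i1))) (nat_lit 0) (nat_lit 175) List.nil) : List ℤ)
    = ?xq9152 → (List ℤ)) ?hq9152; (case hq9152 => (set_option maxRecDepth 1000000 in conv => lhs; reduce)); intro _; exact ?xq9152 : List ℤ)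

/-- the values at 40A -/
noncomputable def col152 : List ℤ :=
  (by
  refine (?fq9153 : ((pk61l (fun i1 => (pk61z (pk61d (nat_lit 3) 
    (nat_lit 0x200c012108003a0220000016e90180004500100189830008b81011a910061b50240073201251050c2e405918160301a4096d0611102cda81334c310282a52) i1))) (nat_lit 0) (nat_lit 175) List.nil) : List ℤ)
    = ?xq9153 → (List ℤ)) ?hq9153; (case hq9153 => (set_option maxRecDepth 1000000 in conv => lhs; reduce)); intro _; exact ?xq9153 : List ℤ)

/-- the values at 40B -/
noncomputable def col153 : List ℤ :=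
  (by
  refine (?fq9154 : ((pk61l (fun i1 => (pk61z (pk61d (nat_lit 4) 
    (nat_lit 0x4003000331020000020042000000014421003000002120002000403103000032000401012103004033240220003412002224202413143301410101300300325016442040260372133240241213145065825652) i1))) (nat_lit 0) (nat_lit 175) List.nil) : List ℤ)
    = ?xq9154 → (List ℤ)) ?hq9154; (case hq9154 => (set_option maxRecDepth 1000000 in conv => lhs; reduce)); intro _; exact ?xq9154 : List ℤ)

/-- the values at 40C -/
noncomputable def col154 : List ℤ :=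
  (by
  refine (?fq9155 : ((pk61l (fun i1 => (pk61z (pk61d (nat_lit 4) 
    (nat_lit 0x80003004000042020000314032003000010012000000001220001000000204000001000301022200000030130110004422002114102320203002010201304000321012002000210032204134201210102421011212) i1))) (nat_lit 0) (nat_lit 175) List.nil) : List ℤ)
    = ?xq9155 → (List ℤ)) ?hq9155; (case hq9155 => (set_option maxRecDepth 1000000 in conv => lhs; reduce)); intro _; exact ?xq9155 : List ℤ)

/-- the values at 40D -/
noncomputable def col155 : List ℤ :=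
  (by
  refine (?fq9156 : ((pk61l (fun i1 => (pk61z (pk61d (nat_lit 3) 
    (nat_lit 0x20800010016001010110000002900080000800000800010510040004014c001200941041020004105900080121201000900240100845040828244a) i1))) (nat_lit 0) (nat_lit 175) List.nil) : List ℤ)
    = ?xq9156 → (List ℤ)) ?hq9156; (case hq9156 => (set_option maxRecDepth 1000000 in conv => lhs; reduce)); intro _; exact ?xq9156 : List ℤ)

/-- the values at 40E -/
noncomputable def col156 : List ℤ :=
  (by
  refine (?fq9157 : ((pk61l (fun i1 => (pk61z (pk61d (nat_lit 3) 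
    (nat_lit 0x240000000080100100000002000110000000004000000400000000000c0000000008000010000000402000012080080001400041000008002001200250480242) i1))) (nat_lit 0) (nat_lit 175) List.nil) : List ℤ)
    = ?xq9157 → (List ℤ)) ?hq9157; (case hq9157 => (set_option maxRecDepth 1000000 in conv => lhs; reduce)); intro _; exact ?xq9157 : List ℤ)

/-- the values at 42A -/
noncomputable def col157 : List ℤ :=
  (by
  refine (?fq9158 : ((pk61l (fun i1 => (pk61z (pk61d (nat_lit 4) 
    (nat_lit 0x8000000040042312102030012204007010340011000300000070120040000340201002233004411021102004002103264102000300003012220004342103200321002000202002020323431102010813204411130012212) i1))) (nat_lit 0) (nat_lit 175) List.nil) : List ℤ)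
    = ?xq9158 → (List ℤ)) ?hq9158; (case hq9158 => (set_option maxRecDepth 1000000 in conv => lhs; reduce)); intro _; exact ?xq9158 : List ℤ)

/-- the values at 42B -/
noncomputable def col158 : List ℤ :=
  (by
  refine (?fq9159 : ((pk61l (fun i1 => (pk61z (pk61d (nat_lit 3) 
    (nat_lit 0xc00422420004480000800024000000000900000000820090000090510406022025082000000024500000480400900800410082027012084020808520c2252) i1))) (nat_lit 0) (nat_lit 175) List.nil) : List ℤ)
    = ?xq9159 → (List ℤ)) ?hq9159; (case hq9159 => (set_option maxRecDepth 1000000 in conv => lhs; reduce)); intro _; exact ?xq9159 : List ℤ)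

/-- the values at 42C -/
noncomputable def col159 : List ℤ :=
  (by
  refine (?fq9160 : ((pk61l (fun i1 => (pk61z (pk61d (nat_lit 3) 
    (nat_lit 0x1000424420002480000800024000000000500000000810d210060904a0808022022d040000000124800408808009008004100840200120820108008a00244a) i1))) (nat_lit 0) (nat_lit 175) List.nil) : List ℤ)
    = ?xq9160 → (List ℤ)) ?hq9160; (case hq9160 => (set_option maxRecDepth 1000000 in conv => lhs; reduce)); intro _; exact ?xq9160 : List ℤ)

/-- the values at 44A -/
noncomputable def col160 : List ℤ :=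
  (by
  refine (?fq9161 : ((pk61l (fun i1 => (pk61z (pk61d (nat_lit 2) 
    (nat_lit 0xc0000000000000008040000400000289000502010108619222000201810014204001100880204200409092) i1))) (nat_lit 0) (nat_lit 175) List.nil) : List ℤ)
    = ?xq9161 → (List ℤ)) ?hq9161; (case hq9161 => (set_option maxRecDepth 1000000 in conv => lhs; reduce)); intro _; exact ?xq9161 : List ℤ)

/-- the values at 46AB -/
noncomputable def col161 : List ℤ :=
  (by
  refine (?fq9162 : ((pk61l (fun i1 => (pk61z (pk61d (nat_lit 3) 
    (nat_lit 0x408020000000000000000000100000a08000020000000000000100000240000000820000020000004000000001000000008000000000001004000000100008000a) i1))) (nat_lit 0) (nat_lit 175) List.nil) : List ℤ)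
    = ?xq9162 → (List ℤ)) ?hq9162; (case hq9162 => (set_option maxRecDepth 1000000 in conv => lhs; reduce)); intro _; exact ?xq9162 : List ℤ)

/-- the values at 47AB -/
noncomputable def col162 : List ℤ :=
  (by
  refine (?fq9163 : ((pk61l (fun i1 => (pk61z (pk61d (nat_lit 3) 
    (nat_lit 0x11b003640001280000000002400000000000000000000000000040000000000002400000080000000000000000000000000000000000000040000000010000000042) i1))) (nat_lit 0) (nat_lit 175) List.nil) : List ℤ)
    = ?xq9163 → (List ℤ)) ?hq9163; (case hq9163 => (set_option maxRecDepth 1000000 in conv => lhs; reduce)); intro _; exact ?xq9163 : List ℤ)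

/-- the values at 48A -/
noncomputable def col163 : List ℤ :=
  (by
  refine (?fq9164 : ((pk61l (fun i1 => (pk61z (pk61d (nat_lit 4) 
    (nat_lit 0x840000000000100000200002000210210300102220430000014022111010000010100000021200000110002001010421000001000021002120020100210010200000002102200111010002120041202201120102) i1))) (nat_lit 0) (nat_lit 175) List.nil) : List ℤ)
    = ?xq9164 → (List ℤ)) ?hq9164; (case hq9164 => (set_option maxRecDepth 1000000 in conv => lhs; reduce)); intro _; exact ?xq9164 : List ℤ)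

/-- the values at 48B -/
noncomputable def col164 : List ℤ :=
  (by
  refine (?fq9165 : ((pk61l (fun i1 => (pk61z (pk61d (nat_lit 3) 
    (nat_lit 0xc000000020000800200220a00021240000004049221000020800064a00005001004200a00008000a0092020402404141006120500910800516014d169209a) i1))) (nat_lit 0) (nat_lit 175) List.nil) : List ℤ)
    = ?xq9165 → (List ℤ)) ?hq9165; (case hq9165 => (set_option maxRecDepth 1000000 in conv => lhs; reduce)); intro _; exact ?xq9165 : List ℤ)

/-- the values at 52A -/
noncomputable def col165 : List ℤ :=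
  (by
  refine (?fq9166 : ((pk61l (fun i1 => (pk61z (pk61d (nat_lit 3) 
    (nat_lit 0x200c000000220140828220100000020000000040008000808000004000100040008120220000908008021040000044000001000040004024240000820004209004a) i1))) (nat_lit 0) (nat_lit 175) List.nil) : List ℤ)
    = ?xq9166 → (List ℤ)) ?hq9166; (case hq9166 => (set_option maxRecDepth 1000000 in conv => lhs; reduce)); intro _; exact ?xq9166 : List ℤ)

/-- the values at 55A -/
noncomputable def col166 : List ℤ :=
  (by
  refine (?fq9167 : ((pk61l (fun i1 => (pk61z (pk61d (nat_lit 2) 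
    (nat_lit 0x8194200508000020018008000008100001002054891401a081820800064804806000140188204860906) i1))) (nat_lit 0) (nat_lit 175) List.nil) : List ℤ)
    = ?xq9167 → (List ℤ)) ?hq9167; (case hq9167 => (set_option maxRecDepth 1000000 in conv => lhs; reduce)); intro _; exact ?xq9167 : List ℤ)

/-- the values at 56AB -/
noncomputable def col167 : List ℤ :=
  (by
  refine (?fq9168 : ((pk61l (fun i1 => (pk61z (pk61d (nat_lit 3) 
    (nat_lit 0x4000000080000000000000040001400008040000040010240001000092001000002000050000200000488004098000048040081008202242410000082442051042) i1))) (nat_lit 0) (nat_lit 175) List.nil) : List ℤ)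
    = ?xq9168 → (List ℤ)) ?hq9168; (case hq9168 => (set_option maxRecDepth 1000000 in conv => lhs; reduce)); intro _; exact ?xq9168 : List ℤ)

/-- the values at 60A -/
noncomputable def col168 : List ℤ :=
  (by
  refine (?fq9169 : ((pk61l (fun i1 => (pk61z (pk61d (nat_lit 3) 
    (nat_lit 0x80800810000000120002402400080000020100104420002140020000416094422804910022804417020840d920228940244040109109a25004c4a821084a) i1))) (nat_lit 0) (nat_lit 175) List.nil) : List ℤ)
    = ?xq9169 → (List ℤ)) ?hq9169; (case hq9169 => (set_option maxRecDepth 1000000 in conv => lhs; reduce)); intro _; exact ?xq9169 : List ℤ)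

/-- the values at 60B -/
noncomputable def col169 : List ℤ :=
  (by
  refine (?fq9170 : ((pk61l (fun i1 => (pk61z (pk61d (nat_lit 3) 
    (nat_lit 0x80800810000006120204402400100000010080082820004c800200408201248144025101944044100204000142225222228021a08909a25008828c41368a) i1))) (nat_lit 0) (nat_lit 175) List.nil) : List ℤ)
    = ?xq9170 → (List ℤ)) ?hq9170; (case hq9170 => (set_option maxRecDepth 1000000 in conv => lhs; reduce)); intro _; exact ?xq9170 : List ℤ)

/-- the values at 60C -/
noncomputable def col170 : List ℤ :=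
  (by
  refine (?fq9171 : ((pk61l (fun i1 => (pk61z (pk61d (nat_lit 3) 
    (nat_lit 0x40004000000100000082000000000000000010000000002000000000000080000000000000000080000000210140c000400008208000060b0000c60004100c2) i1))) (nat_lit 0) (nat_lit 175) List.nil) : List ℤ)
    = ?xq9171 → (List ℤ)) ?hq9171; (case hq9171 => (set_option maxRecDepth 1000000 in conv => lhs; reduce)); intro _; exact ?xq9171 : List ℤ)

/-- the values at 66A -/
noncomputable def col171 : List ℤ :=
  (by
  refine (?fq9172 : ((pk61l (fun i1 => (pk61z (pk61d (nat_lit 3) 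
    (nat_lit 0x80000805140200028040000020040000801040000000140900001200100101121028148108a00000100240200004844020801108000840008820201021028128a) i1))) (nat_lit 0) (nat_lit 175) List.nil) : List ℤ)
    = ?xq9172 → (List ℤ)) ?hq9172; (case hq9172 => (set_option maxRecDepth 1000000 in conv => lhs; reduce)); intro _; exact ?xq9172 : List ℤ)

/-- the values at 70A -/
noncomputable def col172 : List ℤ :=
  (by
  refine (?fq9173 : ((pk61l (fun i1 => (pk61z (pk61d (nat_lit 3) 
    (nat_lit 0x1800000a25200044840020044048000000008800001000000024000010004820280224000200000001101100820000200000040840844000a001290611100242) i1))) (nat_lit 0) (nat_lit 175) List.nil) : List ℤ)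
    = ?xq9173 → (List ℤ)) ?hq9173; (case hq9173 => (set_option maxRecDepth 1000000 in conv => lhs; reduce)); intro _; exact ?xq9173 : List ℤ)

/-- the values at 16F -/
noncomputable def col173 : List ℤ :=
  (by
  refine (?fq9174 : ((pk61l (fun i1 => (pk61z (pk61d (nat_lit 4) 
    (nat_lit 0x40037343070000004089400000a508004000056391004870290c3002e05d90071000800040005815218000010a00000354013308233a20c0500010d1072807043b10822581408663213203110301106340b53632644662) i1))) (nat_lit 0) (nat_lit 175) List.nil) : List ℤ)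
    = ?xq9174 → (List ℤ)) ?hq9174; (case hq9174 => (set_option maxRecDepth 1000000 in conv => lhs; reduce)); intro _; exact ?xq9174 : List ℤ)

/-- the values at 18B -/
noncomputable def col174 : List ℤ :=
  (by
  refine (?fq9175 : ((pk61l (fun i1 => (pk61z (pk61d (nat_lit 4) 
    (nat_lit 0x7004800437830843600500043060000050005400000000526056006600151000001606006030060600005460050000740626000700a90030100670560050000006046655400545003000000005387117126355420124642) i1))) (nat_lit 0) (nat_lit 175) List.nil) : List ℤ)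
    = ?xq9175 → (List ℤ)) ?hq9175; (case hq9175 => (set_option maxRecDepth 1000000 in conv => lhs; reduce)); intro _; exact ?xq9175 : List ℤ)

/-- the columns -/
noncomputable def cols : List (List ℤ) :=
  [col0, col1, col2, col3, col4, col5, col6, col7, col8, col9, col10, col11, col12, col13, col14, col15,
  col16, col17, col18, col19, col20, col21, col22, col23, col24, col25, col26, col27, col28, col29, col30,
  col31, col32, col33, col34, col35, col36, col37, col38, col39, col40, col41, col42, col43, col44, col45,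
  col46, col47, col48, col49, col50, col51, col52, col53, col54, col55, col56, col57, col58, col59, col60,
  col61, col62, col63, col64, col65, col66, col67, col68, col69, col70, col71, col72, col73, col74, col75,
  col76, col77, col78, col79, col80, col81, col82, col83, col84, col85, col86, col87, col88, col89, col90,
  col91, col92, col93, col94, col95, col96, col97, col98, col99, col100, col101, col102, col103, col104,
  col105, col106, col107, col108, col109, col110, col111, col112, col113, col114, col115, col116, col117,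
  col118, col119, col120, col121, col122, col123, col124, col125, col126, col127, col128, col129, col130,
  col131, col132, col133, col134, col135, col136, col137, col138, col139, col140, col141, col142, col143,
  col144, col145, col146, col147, col148, col149, col150, col151, col152, col153, col154, col155, col156,
  col157, col158, col159, col160, col161, col162, col163, col164, col165, col166, col167, col168, col169,
  col170, col171, col172, col173, col174]

/-- the norms -/
noncomputable def ms : List (ℕ × ℕ) :=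
  (by
  refine (?fq9176 : ((pk61l (fun i1 => (_root_.Prod.mk (pk61d (nat_lit 2) 
    (nat_lit 0x2aaaa55555555555555555555555555555555555555555555555555555555555555555555555555555555555) i1) (nat_lit 0))) (nat_lit 0) (nat_lit 175) List.nil) : List (ℕ × ℕ))
    = ?xq9176 → (List (ℕ × ℕ))) ?hq9176; (case hq9176 => (set_option maxRecDepth 1000000 in set_option simprocs false in conv => lhs; reduce; dsimp only)); intro _; exact ?xq9176 : List (ℕ × ℕ))

/-- twice the coefficients of the regular character -/
noncomputable def reg : List ℤ :=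
  (by
  refine (?fq9177 : ((pk61l (fun i1 => (pk61z (pk61d (nat_lit 56) (Nat.add 
    (nat_lit 0x66da80024e806d20d61d2105586ba72c7328e620632f51a52e2820628ae9fab2d0005f19d3b087dc805b299bfb95b7b45526dda77af78c4df2e214ce71884ab64977230bdc4ab64977230bdc4a3ca68db86c2049c74c8000000045ea04231c3458435cf5f2603c30435cf5f2603c3041fd05d34e990041a6eb97af3ec440f511bc015e9c3c66e4e19600003c21c459318ac83c21c459318ac83b993cd1c920003a33a564de694039d1b2f34d2cd436906b0e9082ac3426eff573cb803285b875c82d243285b875c82d24314c6560f6596c2b9b922bdd1d802a81fe6b5ceca029f67b285873702956228ee9994c27a1b8b9c4000026cd18ede99b80258e0000000000251e5346dc3610247434fa4c280022a4d64222dd201e2e5b71e600001b6805b7bf47b819af8282100000185371a3fe800017dd308422340015a705e955ca3414bb8cc90e5b7013c50565bda25c137b949bdfec74137b949bdfec741107c5ee4bcb1c0f8b9b37eed2d00ed18559ab40000dc298336400000c02129bd370000bdf98c47740000ba8b469f31e1c0b809815f550800b05079a310af40a374e224e00000a28aa5df0d400099f00b21c682009735d47de000009735d47de0000096bca16e31ea8094794d1b70d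84092f95e6de93d8087611442c000008446d4fc851dc0802d6592828a80602be541ac028057fc07c468cc0052e8912a4f0f004f5db2fde9784040ab298c85588040ab298c8558803b3c6dac290540336dde7b9331402ffdd5b0f358002ff51f0989a8802958b81a6b40002501165e45df4020018050d688001c13cde22000001b2addbacc00001af068591c56c01598a0293a4e001460f68141af4011d11dbb9ce6c00ab56dda47b000094ff180c76d0008ca349c06164008b834304793000806d8c8a5000005965db3aadb000514da640db800048902e9f015800460462e14928003f594d45bc18002f081e37a6cc00277c5093780000264e6e54b63000253fc6031db400253fc6031db400243a99c95854001db448faba30001aabeaee081c00185d6c7d48580018148a59ef0000165bc0eb6f9000165976ceab6c001198ce5a7b5c000feb1deb738800098c3c0772b40006f9c359d2dc0003fcab5a51a8000255333d04340002504a2a6780000201ab91d8c80001f34994ee5c000120733559dc00009219302400000064e85c238800004ae725e400000046a2a6e5ac00001988873fec00000c94a8698000000ba4a82b7c000008a633c8880000044e304358000003fb536b60000003ee74a0f8000002fe7462f40000014f7c35a800000054e3d59c00000052e273a80000000f25b7140000000246ecac000000024150f800000000458ab80000000005dffc0000000000444c00000000000004)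 (Nat.shiftLeft 
    (nat_lit 0xb08f65e0240000880c808bbf3d443d8ee865649f00004da87bde2300002b41afe98d6c001e7bff36d428000ee7f14b426c0000eb9c40e2540000549221bd1ceb28971641fc00ca16e1d720b490c728ebbf640000c61cb4c54a9400b966538c000000a8750000000000a8750000000000a1bde08678c0009066c5ecb7e79890035df41a00008be874f7656950886110431f772c87fd989a73fad887d3cd9645be0082e7000000000082e700000000007cb083e5991c807a40e5c896000077366984128dc476ae6f51b95c046fbf5209591c006f9a6daca9e1506e0c8f09fbf0006d) (nat_lit 8000))) i1))) (nat_lit 0) (nat_lit 175) List.nil) : List ℤ)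
    = ?xq9177 → (List ℤ)) ?hq9177; (case hq9177 => (set_option maxRecDepth 1000000 in set_option simprocs false in conv => lhs; reduce; dsimp only)); intro _; exact ?xq9177 : List ℤ)

/-- the degrees -/
noncomputable def degs : List ℕ :=
  (by
  refine (?fq9178 : ((pk61l (fun i1 => (pk61d (nat_lit 54) (Nat.add 
    (nat_lit 0x77366984128dc5dab9bd46e57016fbf5209591c01be69b6b2a78546e0c8f09fbf001b59b6a00093a06d20d61d210559ae9cb1cca3988632f51a52e28218a2ba7eacb4005f19d3b087dc816ca66fee56ded5526dda77af78d37cb885339c624ab64977230bdd2ad925dc8c2f74a3ca68db86c21271d32000000045ea04231c34590d73d7c980f0c435cf5f2603c3107f4174d3a64041a6eb97af3ec503d446f0057a73c66e4e1960000f0871164c62b23c21c459318ac8ee64f347248003a33a564de6940e746cbcd34b3536906b0e9082acd09bbfd5cf2e03285b875c82d24ca16e1d720b49314c6560f6596cae6e48af747602a81fe6b5ceca0a7d9eca161cdc2956228ee9994c9e86e2e71000026cd18ede99b809638000000000251e5346dc361091d0d3e930a0022a4d64222dd2078b96dc7980001b6805b7bf47b866be0a0840000185371a3fe80005f74c21088d0015a705e955ca34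52ee3324396dc13c50565bda25c4dee526f7fb1d137b949bdfec74441f17b92f2c70f8b9b37eed2d03b461566ad0000dc2983364000030084a6f4dc000bdf98c47740002ea2d1a7cc7870b809815f550802c141e68c42bd0a374e224e000028a2a977c3500099f00b21c682025cd751f7800009735d47de000025af285b8c7aa094794d1b70d8424be579b7a4f6087611442c00002111b53f214770802d6592828a8180af9506b00a057fc07c468cc014ba244a93c3c04f5db2fde9784102aca6321562040ab298c855880ecf1b6b0a4150336dde7b933140bff756c3cd6002ff51f0989a880a562e069ad0002501165e45df40800601435a2001c13cde22000006cab76eb300001af068591c56c0566280a4e93801460f68141af40474476ee739b00ab56dda47b000253fc6031db4008ca349c06164022e0d0c11e4c00806d8c8a50000165976ceab6c00514da640db80012240ba7c05600460462e1492800fd653516f06002f081e37a6cc009df1424de0000264e6e54b6300094ff180c76d00253fc6031db40090ea6725615001db448faba30006aafabb820700185d6c7d48580060522967bc000165bc0eb6f90005965db3aadb001198ce5a7b5c003fac77adce200098c3c0772b4001be70d674b70003fcab5a51a8000954ccf410d0002504a2a6780000806ae476320001f34994ee5c000481ccd567700009219302400000193a1708e200004ae725e40000011a8a9b96b00001988873fec00003252a1a6000000ba4a82b7c00002298cf2220000044e30435800000fed4dad8000003ee74a0f800000bf9d18bd0000014f7c35a8000001538f56700000052e273a80000003c96dc50000000246ecac000000090543e00000000458ab800000000177ff0000000000444c0000000000001)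 (Nat.shiftLeft 
    (nat_lit 0xb08f65e0240002c23d978090000880c808bbf3d462032022efcf513d8ee865649f00f63ba195927c0004da87bde23000136a1ef788c0002b41afe98d6c00ad06bfa635b001e7bff36d4280079effcdb50a000ee7f14b426c003b9fc52d09b0000eb9c40e2540003ae71038950000549221bd1c0001524886f47eb28971641fc03285b875c82d24c728ebbf6400031872d3152a500b966538c000002a1d4000000000a875000000000286f78219e30009066c5ecb7e79a400d77d0680008be874f76569522184410c7ddcb87fd989a73fada1f4f365916f8082e700000000020b9c0000000007cb083e5991c81e9039722580) (nat_lit 8000))) i1)) (nat_lit 0) (nat_lit 184) List.nil) : List ℕ)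
    = ?xq9178 → (List ℕ)) ?hq9178; (case hq9178 => (set_option maxRecDepth 1000000 in set_option simprocs false in conv => lhs; reduce; dsimp only)); intro _; exact ?xq9178 : List ℕ)

end Cfsg.Agent.TAB.B.Fin
end

-- part: TAB/B/Fin/Ref
section
set_option linter.all false
open scoped Cfsg.Agent.FastGrp

/-!
# The refinement of the types of the Baby Monster (helper51, TAB)

A permutation character `π` of rank at most ten with known sums over the 173 types is a function of the 175 types.
-/

set_option autoImplicit false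
set_option maxRecDepth 100000

namespace Cfsg.Agent.TAB.B.Fin

open Cfsg Cfsg.Agent.TAB.Eng Cfsg.Agent.Characters Cfsg.Agent.Characters.Core Cfsg.Agent.Characters.Brauer
open Cfsg.Agent.H447.CTab
open Finset

universe u

/-- the numbers of the elements of each type in the centralizer of an involution of type 2B -/
def nCL : List ℕ :=
  [1, 3647800, 269689951, 60622848000, 138114167400, 1114216857600, 23769959628800, 1454774432256,
  2724708800000, 46276800768000, 154685258956800, 121286733004800, 342659223244800, 1145948099788800,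
  2781581451264000, 4332075142348800, 2388846123417600, 4620880151838720, 14786816485883904, 202787468083200,
  730926258585600, 6800065481932800, 2376995962880000, 30003631541452800, 26955134219059200,
  6227729422745600, 41415440596992000, 1925366729932800, 21392963665920000, 17114370932736000,
  198037720793088000, 3723772428288000, 28369075411353600, 42809325885849600, 36044218957824000,
  71178401297203200, 86415873933312000, 32490563567616000, 96794803961856000, 84836471537664000,
  256314445922304000, 487358453514240000, 394218837953740800, 768943337766912000, 779773525622784000, 0,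
  821489804771328000, 277252809110323200, 512917696854097920, 924176030367744000, 384457228632981504,
  1386264045551616000, 369670412147097600, 4032768132513792000, 53036722421760000, 90325846589440000,
  178577764201267200, 106429994237952000, 347849589207859200, 77014669197312000, 187723256168448000,
  584027908079616000, 799027192922112000, 500595349782528000, 171143709327360000, 1212981039857664000,
  770146691973120000, 1026862255964160000, 539102684381184000, 1039698034163712000, 231044007591936000,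
  2310440075919360000, 1848352060735488000, 0, 0, 198037720793088000, 1584301766344704000,
  1584301766344704000, 5347018461413376000, 5347018461413376000, 1478681648588390400, 11829453188707123200,
  202163506642944000, 1588427552194560000, 2945811096797184000, 1906113062633472000, 2599245085409280000,
  4158792136654848000, 4158792136654848000, 0, 5750428633399296000, 5750428633399296000, 2464469414313984000,
  0, 4928938828627968000, 0, 286494569414000640, 2306743371797889024, 1219912360085422080,
  2079396068327424000, 2587692885029683200, 1663516854661939200, 4436044945765171200, 4436044945765171200,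
  4436044945765171200, 8872089891530342400, 0, 8065536265027584000, 12098304397541376000,
  15429721550487552000, 1078205368762368000, 1078205368762368000, 2926557429497856000, 1078205368762368000,
  2926557429497856000, 2053724511928320000, 1386264045551616000, 3696704121470976000, 1848352060735488000,
  3696704121470976000, 3696704121470976000, 5545056182206464000, 0, 7393408242941952000, 0, 0, 0, 0,
  2376452649517056000, 2376452649517056000, 7921508831723520000, 7921508831723520000, 9505810598068224000,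
  1478681648588390400, 2957363297176780800, 2957363297176780800, 4436044945765171200, 4436044945765171200,
  11829453188707123200, 23658906377414246400, 0, 5545056182206464000, 5545056182206464000, 0, 0, 0, 0,
  1642979609542656000, 4928938828627968000, 0, 0, 0, 3327033709323878400, 3327033709323878400,
  6654067418647756800, 4436044945765171200, 0, 0, 0, 0, 8065536265027584000, 15429721550487552000, 0,
  3696704121470976000, 3696704121470976000, 0, 0, 6337207065378816000, 2957363297176780800,
  2957363297176780800, 0, 0, 0]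

/-- the number of the elements of type `i` in the centralizer of an involution of type 2B -/
def nC (i : ℕ) : ℕ := nCL.getD i 0

/-- the values of `π` -/
def pN (i : ℕ) : ℕ := piN.getD i 0

/-- the smallest value of `π` on a type -/
def aN (i : ℕ) : ℕ := if i = 84 ∨ i = 90 then 3 else pN i

/-- the coarse type -/
def cF (i : ℕ) : ℕ := if i = 173 then 84 else if i = 174 then 90 else i

variable {G : Type u} [Group G] [Fintype G]

/-- the hypotheses -/
structure RefHyp (T : TD G dat) (π : G → ℕ) : Prop where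
  mass : T.Mass
  chr : IsCharacter G fun g => (π g : ℂ)
  sq : ∑ g, π g ^ 2 ≤ 10 * dat.N
  low : ∀ i < 173, 11707448673375 * nC i ≤ ∑ g, if T.ty g = i then π g else 0
  a16 : datF.cnt 84 ≤ Nat.card {g // T.ty g = 84 ∧ 11 ≤ π g}
  a18 : datF.cnt 90 ≤ Nat.card {g // T.ty g = 90 ∧ 15 ≤ π g}

omit [Group G] in
theorem card_eq_sum (P : G → Prop) [DecidablePred P] : Nat.card {g // P g} = ∑ g, if P g then 1 else 0 := by
  rw [Nat.card_eq_fintype_card, Fintype.card_subtype, card_filter]

private noncomputable def _root_.Cfsg.Agent.LsF.f604c96_0 : {f // @Cfsg.Agent.TAB.Eng.Dat.cnt = f} := ⟨_, by first | (delta Cfsg.Agent.TAB.Eng.Dat.cnt; rewrite [Cfsg.Agent.LsF.getD_eq]; exact rfl) | exact rfl⟩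
private noncomputable def _root_.Cfsg.Agent.LsF.f604c96_1 : {f // @Cfsg.Agent.TAB.B.Fin.pN = f} := ⟨_, by first | (delta Cfsg.Agent.TAB.B.Fin.pN; rewrite [Cfsg.Agent.LsF.getD_eq]; exact rfl) | exact rfl⟩
private noncomputable def _root_.Cfsg.Agent.LsF.f604c96_2 : {f // @Cfsg.Agent.TAB.B.Fin.aN = f} := ⟨_, by first | (delta Cfsg.Agent.TAB.B.Fin.aN; rewrite [Cfsg.Agent.LsF.f604c96_1.2, Cfsg.Agent.LsF.instDecEq_eq, Cfsg.Agent.LsF.dOr_eq, Cfsg.Agent.LsF.ite_eq]; exact rfl) | exact rfl⟩
private noncomputable def _root_.Cfsg.Agent.LsF.f604c96_3 : {f // @Cfsg.Agent.TAB.B.Fin.nC = f} := ⟨_, by first | (delta Cfsg.Agent.TAB.B.Fin.nC; rewrite [Cfsg.Agent.LsF.getD_eq]; exact rfl) | exact rfl⟩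
theorem num1 : 10 * dat.N + ∑ i ∈ range 173, dat.cnt i * aN i ^ 2 =
    2 * ∑ i ∈ range 173, aN i * (11707448673375 * nC i) + 64 * datF.cnt 84 + 144 * datF.cnt 90 := by (refine of_decide_eq_true ?_; (try (rewrite [Cfsg.Agent.LsF.f604c96_0.2, Cfsg.Agent.LsF.f604c96_2.2, Cfsg.Agent.LsF.f604c96_3.2, Cfsg.Agent.LsF.nadd_pat, Cfsg.Agent.LsF.nmul_pat, Cfsg.Agent.LsF.npow_pat, Cfsg.Agent.LsF.fsum_eq, Cfsg.Agent.LsF.frange_eq, Cfsg.Agent.LsF.nACM_eq, Cfsg.Agent.LsF.instDecEq_eq, Cfsg.Agent.LsF.decide_eq])); decide +kernel)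

private noncomputable def _root_.Cfsg.Agent.LsF.f604c96_4 : {f // @Cfsg.Agent.TAB.Eng.look = f} := ⟨_, by first | (delta Cfsg.Agent.TAB.Eng.look List.brecOn List.brecOn.go Cfsg.Agent.TAB.Eng.look._f; rewrite [Cfsg.Agent.LsF.instDecEq_eq, Cfsg.Agent.LsF.ite_eq]; (try delta Cfsg.Agent.TAB.Eng.look.match_1); (try delta List.casesOn); first | dsimp -zeta only | exact rfl) | exact rfl⟩
private noncomputable def _root_.Cfsg.Agent.LsF.f604c96_5 : {f // @Cfsg.Agent.TAB.Eng.Dat.pw = f} := ⟨_, by first | (delta Cfsg.Agent.TAB.Eng.Dat.pw; rewrite [Cfsg.Agent.LsF.getD_eq]; exact rfl) | exact rfl⟩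
private noncomputable def _root_.Cfsg.Agent.LsF.f604c96_6 : {f // @Cfsg.Agent.TAB.Eng.Dat.ord = f} := ⟨_, by first | (delta Cfsg.Agent.TAB.Eng.Dat.ord; rewrite [Cfsg.Agent.LsF.getD_eq]; exact rfl) | exact rfl⟩
private noncomputable def _root_.Cfsg.Agent.LsF.f604c96_7 : {f // @Cfsg.Agent.TAB.Eng.Dat.pwf = f} := ⟨_, by first | (delta Cfsg.Agent.TAB.Eng.Dat.pwf; rewrite [Cfsg.Agent.LsF.f604c96_4.2, Cfsg.Agent.LsF.f604c96_5.2, Cfsg.Agent.LsF.f604c96_6.2]; exact rfl) | exact rfl⟩
theorem num2 : ∑ i ∈ range 173, dat.cnt i * (if i = 142 then 11 else pN (dat.pwf i 2)) = 10 * dat.N := by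
  (refine of_decide_eq_true ?_; (try (rewrite [Cfsg.Agent.LsF.f604c96_0.2, Cfsg.Agent.LsF.f604c96_1.2, Cfsg.Agent.LsF.f604c96_7.2, Cfsg.Agent.LsF.nmul_pat, Cfsg.Agent.LsF.fsum_eq, Cfsg.Agent.LsF.frange_eq, Cfsg.Agent.LsF.nACM_eq, Cfsg.Agent.LsF.instDecEq_eq, Cfsg.Agent.LsF.ite_eq, Cfsg.Agent.LsF.decide_eq])); decide +kernel)

theorem num3 : ∀ i < 173, dat.pwf i 2 ≠ 90 ∧ (dat.pwf i 2 = 84 ↔ i = 142) := by (refine of_decide_eq_true ?_; (try (rewrite [Cfsg.Agent.LsF.f604c96_7.2, Cfsg.Agent.LsF.instDecEq_eq, Cfsg.Agent.LsF.dAnd_eq, Cfsg.Agent.LsF.dNot_eq, Cfsg.Agent.LsF.dBallLT_eq, Cfsg.Agent.LsF.dIffI_eq, Cfsg.Agent.LsF.decide_eq])); decide +kernel)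

private noncomputable def _root_.Cfsg.Agent.LsF.f604c96_8 : {f // @Cfsg.Agent.TAB.B.Fin.cF = f} := ⟨_, by first | (delta Cfsg.Agent.TAB.B.Fin.cF; rewrite [Cfsg.Agent.LsF.instDecEq_eq, Cfsg.Agent.LsF.ite_eq]; exact rfl) | exact rfl⟩
set_option synthInstance.maxSize 1000 in
theorem num4 : ∀ i < 175, datF.ord i = dat.ord (cF i) ∧ ∀ d < dat.ord (cF i) + 1, d ∣ dat.ord (cF i) →
    (d = 1 ∧ look (datF.pw i) d = i) ∨ (look (datF.pw i) d = look (dat.pw (cF i)) d ∧ look (dat.pw (cF i)) d ≠ 90 ∧
      (look (dat.pw (cF i)) d = 84 → cF i = 142 ∧ d = 2)) := by (refine of_decide_eq_true ?_; (try (rewrite [Cfsg.Agent.LsF.f604c96_6.2, Cfsg.Agent.LsF.f604c96_8.2, Cfsg.Agent.LsF.f604c96_4.2, Cfsg.Agent.LsF.f604c96_5.2, Cfsg.Agent.LsF.nadd_pat, Cfsg.Agent.LsF.instDecEq_eq, Cfsg.Agent.LsF.dAnd_eq, Cfsg.Agent.LsF.dOr_eq, Cfsg.Agent.LsF.dNot_eq, Cfsg.Agent.LsF.dBallLT_eq, Cfsg.Agent.LsF.dAllP_eq, Cfsg.Agent.LsF.dDvd_eq, Cfsg.Agent.LsF.decide_eq])); decide +kernel)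

theorem num5 : ∀ i < 173, i ≠ 84 → i ≠ 90 → datF.cnt i = dat.cnt i := by (refine of_decide_eq_true ?_; (try (rewrite [Cfsg.Agent.LsF.f604c96_0.2, Cfsg.Agent.LsF.instDecEq_eq, Cfsg.Agent.LsF.dNot_eq, Cfsg.Agent.LsF.dBallLT_eq, Cfsg.Agent.LsF.dAllP_eq, Cfsg.Agent.LsF.decide_eq])); decide +kernel)

namespace RefHyp

variable {T : TD G dat} {π : G → ℕ} (H : RefHyp T π)
include H

theorem main : (∀ g, (π g : ℤ) = aN (T.ty g) ∨ (T.ty g = 84 ∧ π g = 11) ∨ (T.ty g = 90 ∧ π g = 15)) ∧
    Nat.card {g // T.ty g = 84 ∧ 11 ≤ π g} = datF.cnt 84 ∧ Nat.card {g // T.ty g = 90 ∧ 15 ≤ π g} = datF.cnt 90 := by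
  classical
  let A : G → ℕ := fun g => if T.ty g = 84 ∧ 11 ≤ π g then 1 else 0
  let B : G → ℕ := fun g => if T.ty g = 90 ∧ 15 ≤ π g then 1 else 0
  have h1 : ∀ g, 2 * (aN (T.ty g) * π g) + 64 * A g + 144 * B g ≤ π g ^ 2 + aN (T.ty g) ^ 2 ∧
      (2 * (aN (T.ty g) * π g) + 64 * A g + 144 * B g = π g ^ 2 + aN (T.ty g) ^ 2 →
        (π g : ℤ) = aN (T.ty g) ∨ (T.ty g = 84 ∧ π g = 11) ∨ (T.ty g = 90 ∧ π g = 15)) := fun g => by
    simp only [A, B]
    split_ifs with h1 h2 h2
    · omega
    · rw [h1.1, show aN 84 = 3 from rfl]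
      exact ⟨by nlinarith [h1.2], fun h => Or.inr (Or.inl ⟨rfl, by nlinarith [h1.2]⟩)⟩
    · rw [h2.1, show aN 90 = 3 from rfl]
      exact ⟨by nlinarith [h2.2], fun h => Or.inr (Or.inr ⟨rfl, by nlinarith [h2.2]⟩)⟩
    · zify
      exact ⟨by nlinarith [sq_nonneg ((π g : ℤ) - aN (T.ty g))], fun h => Or.inl
        (sub_eq_zero.1 (pow_eq_zero_iff two_ne_zero |>.1 (by linear_combination -h)))⟩
  have h2 : ∑ i ∈ range 173, aN i * (11707448673375 * nC i) ≤ ∑ g, aN (T.ty g) * π g := by
    refine (sum_le_sum fun i hi => Nat.mul_le_mul_left _ (H.low i (mem_range.1 hi))).trans (le_of_eq ?_)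
    simp only [mul_sum, mul_ite, mul_zero]
    rw [sum_comm]
    exact sum_congr rfl fun g _ => by rw [sum_ite_eq, if_pos (mem_range.2 (show T.ty g < 173 from T.lt g))]
  have h3 : ∑ g, aN (T.ty g) ^ 2 = ∑ i ∈ range 173, dat.cnt i * aN i ^ 2 := sum_mass H.mass fun i => aN i ^ 2
  have h4 := H.a16
  have h5 := H.a18
  have h6 := H.sq
  have h7 := num1
  have h8 := sum_le_sum (s := univ) fun g _ => (h1 g).1
  have h9 := (sum_eq_sum_iff_of_le (s := univ) fun g _ => (h1 g).1).1
  simp only [sum_add_distrib, ← mul_sum] at h8 h9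
  rw [card_eq_sum] at h4 h5 ⊢
  rw [card_eq_sum]
  simp only [A, B] at h8 h9
  exact ⟨fun g => (h1 g).2 (h9 (by omega) g (mem_univ g)), by omega, by omega⟩

theorem val {g : G} (h1 : T.ty g ≠ 84) (h2 : T.ty g ≠ 90) : π g = pN (T.ty g) := by
  rcases H.main.1 g with h | h | h
  · rw [aN, if_neg (by omega)] at h
    exact_mod_cast h
  · exact absurd h.1 h1
  · exact absurd h.1 h2

theorem v16 {g : G} (h1 : T.ty g = 84) : π g = 3 ∨ π g = 11 := by
  have h := H.main.1 g
  rw [h1, show aN 84 = 3 from rfl] at h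
  omega

theorem v18 {g : G} (h1 : T.ty g = 90) : π g = 3 ∨ π g = 15 := by
  have h := H.main.1 g
  rw [h1, show aN 90 = 3 from rfl] at h
  omega

theorem conj (g h : G) : π (h * g * h⁻¹) = π g := by
  exact_mod_cast isCharacter_isClassFunction H.chr g h

theorem gal (g : G) {k : ℕ} (hk : k.Coprime (orderOf g)) : π (g ^ k) = π g := by
  have h := (Key.ofChar H.chr (fun g => (π g : ℚ)) fun _ => by simp).gal g k (π g) hk (by simp [Key.ofChar])
  exact_mod_cast (show (π (g ^ k) : ℚ) = ((π g : ℤ) : ℚ) from h)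

/-- the squares of the elements of type 32CD -/
theorem v32 {g : G} (h1 : T.ty g = 142) : π (g ^ 2) ≠ 3 := by
  classical
  have := finite_irr (G := G)
  have := Fintype.ofFinite (IrrCharacter G)
  let A : G → ℕ := fun g => if T.ty g = 142 ∧ π (g ^ 2) = 3 then 1 else 0
  have h2 : ∀ g, π (g ^ 2) + 8 * A g = if T.ty g = 142 then 11 else pN (dat.pwf (T.ty g) 2) := fun g => by
    have h3 := num3 _ (T.lt g)
    rw [← T.pow] at h3 ⊢
    simp only [A]
    by_cases h4 : T.ty g = 142
    · have := H.v16 (h3.2.2 h4)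
      split_ifs <;> omega
    · rw [if_neg fun h => h4 h.1, if_neg h4, H.val (fun h => h4 (h3.2.1 h)) h3.1]
      rfl
  have h3 : ∑ g, π (g ^ 2) + 8 * ∑ g, A g = 10 * dat.N := by
    rw [mul_sum, ← sum_add_distrib, sum_congr rfl fun g _ => h2 g, ← num2]
    exact sum_mass H.mass fun i => if i = 142 then 11 else pN (dat.pwf i 2)
  have h4 : ∑ g, A g ≤ dat.cnt 142 := by
    rw [← H.mass.2 142 (by decide), card_eq_sum]
    refine sum_le_sum fun g _ => ?_
    simp only [A]
    split_ifs <;> omega
  have h5 := inner_sum_mu (H139.Cusp.isGeneralizedCharacter_pow (isGeneralizedCharacter_of_isCharacter H.chr) 2)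
    (isGeneralizedCharacter_of_isCharacter (isCharacter_one (G := G)))
  rw [classInner_def, inv_mul_eq_iff_eq_mul₀ card_ne_zero_complex, H.mass.1] at h5
  simp only [Pi.one_apply, map_one, mul_one] at h5
  have h6 : (dat.N : ℤ) ∣ ((∑ g, π (g ^ 2) : ℕ) : ℤ) := ⟨_, by exact_mod_cast h5⟩
  have h7 : dat.N ∣ 8 * ∑ g, A g :=
    (Nat.dvd_add_right (Int.natCast_dvd_natCast.1 h6)).1 (h3 ▸ Dvd.intro_left _ rfl)
  have h8 : 8 * dat.cnt 142 < dat.N := by decide +kernel
  have h9 := Nat.eq_zero_of_dvd_of_lt h7 (by omega)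
  intro h10
  have h11 := single_le_sum (f := A) (fun _ _ => Nat.zero_le _) (mem_univ g)
  simp only [A, h1, h10, and_self, if_true] at h11 h9
  omega

end RefHyp

/-- the fine type -/
def tyF (T : TD G dat) (π : G → ℕ) (g : G) : ℕ :=
  if T.ty g = 84 ∧ π g = 3 then 173 else if T.ty g = 90 ∧ π g = 3 then 174 else T.ty g

omit [Fintype G] in
theorem cF_tyF (T : TD G dat) (π : G → ℕ) (g : G) : tyF T π g < 175 ∧ cF (tyF T π g) = T.ty g := by
  have h : T.ty g < 173 := T.lt g
  unfold tyF cF
  split_ifs <;> omega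

/-- the fine types -/
def RefHyp.td {T : TD G dat} {π : G → ℕ} (H : RefHyp T π) : TD G datF where
  ty := tyF T π
  lt g := (cF_tyF T π g).1
  conj g h := by simp only [tyF, T.conj, H.conj]
  ord g := by rw [(num4 _ (cF_tyF T π g).1).1, (cF_tyF T π g).2, T.ord]
  pow g k := by
    obtain ⟨h1, h2⟩ := num4 _ (cF_tyF T π g).1
    rw [(cF_tyF T π g).2] at h1 h2
    have h3 : 0 < dat.ord (T.ty g) := T.ord g ▸ orderOf_pos g
    rw [Dat.pwf, h1]
    rcases h2 _ (Nat.lt_succ_of_le (Nat.gcd_le_right k h3)) (Nat.gcd_dvd_right _ _) with ⟨h4, h5⟩ | ⟨h4, h5, h6⟩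
    · rw [h5]
      rw [← T.ord] at h4
      simp only [tyF, TD.pow_coprime h4, H.gal g h4]
    · have h7 : T.ty (g ^ k) = look (dat.pw (T.ty g)) (k.gcd (dat.ord (T.ty g))) := T.pow g k
      rw [h4]
      rw [← h7] at h5 h6 ⊢
      rw [tyF, if_neg, if_neg fun h => h5 h.1]
      rintro ⟨h8, h9⟩
      obtain ⟨h10, h11⟩ := h6 h8
      obtain ⟨m, rfl⟩ : 2 ∣ k := h11 ▸ Nat.gcd_dvd_left _ _
      rw [mul_comm, pow_mul] at h9
      refine H.v32 ((TD.pow_coprime ?_).trans h10) h9
      rw [T.ord, h10]
      rw [h10, show dat.ord 142 = 2 * 16 from rfl, Nat.gcd_mul_left] at h11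
      have h12 : m.Coprime 16 := by
        rw [Nat.Coprime]
        omega
      exact Nat.Coprime.pow_right 5 (h12.coprime_dvd_right (show 2 ∣ 16 by norm_num))

omit [Group G] in
theorem card_split (P Q : G → Prop) : Nat.card {g // P g} = Nat.card {g // P g ∧ Q g} + Nat.card {g // P g ∧ ¬ Q g} := by
  classical
  rw [card_eq_sum, card_eq_sum, card_eq_sum, ← sum_add_distrib]
  refine sum_congr rfl fun g _ => ?_
  by_cases h1 : P g <;> by_cases h2 : Q g <;> simp [h1, h2]

/-- **the refinement** -/
theorem RefHyp.refine {T : TD G dat} {π : G → ℕ} (H : RefHyp T π) : ∃ T' : TD G datF, T'.Mass ∧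
    (∀ g, cF (T'.ty g) = T.ty g) ∧ ∀ g, π g = pN (T'.ty g) := by
  refine ⟨H.td, ⟨H.mass.1, fun i hi => ?_⟩, fun g => (cF_tyF T π g).2, fun g => ?_⟩
  · have key : ∀ {P : G → Prop}, (∀ g, T.ty g < 173 → (T.ty g = 84 → π g = 3 ∨ π g = 11) →
        (T.ty g = 90 → π g = 3 ∨ π g = 15) → (tyF T π g = i ↔ P g)) →
        Nat.card {g // H.td.ty g = i} = Nat.card {g // P g} := fun h =>
      Nat.card_congr (Equiv.subtypeEquivRight fun g => h g (T.lt g) H.v16 H.v18)
    have h1 := card_split (fun g => T.ty g = 84) fun g => 11 ≤ π g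
    have h2 := card_split (fun g => T.ty g = 90) fun g => 15 ≤ π g
    rw [H.mass.2 _ (by decide), H.main.2.1] at h1
    rw [H.mass.2 _ (by decide), H.main.2.2] at h2
    have h3 : dat.cnt 84 = datF.cnt 84 + datF.cnt 173 ∧ dat.cnt 90 = datF.cnt 90 + datF.cnt 174 := by decide +kernel
    by_cases a1 : i = 84
    · rw [key (P := fun g => T.ty g = 84 ∧ 11 ≤ π g) fun g _ _ _ => by unfold tyF; split_ifs <;> omega, a1, H.main.2.1]
    by_cases a2 : i = 90
    · rw [key (P := fun g => T.ty g = 90 ∧ 15 ≤ π g) fun g _ _ _ => by unfold tyF; split_ifs <;> omega, a2, H.main.2.2]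
    by_cases a3 : i = 173
    · rw [key (P := fun g => T.ty g = 84 ∧ ¬ 11 ≤ π g) fun g _ _ _ => by unfold tyF; split_ifs <;> omega, a3]
      omega
    by_cases a4 : i = 174
    · rw [key (P := fun g => T.ty g = 90 ∧ ¬ 15 ≤ π g) fun g _ _ _ => by unfold tyF; split_ifs <;> omega, a4]
      omega
    have a5 : i < 173 := by
      change i < 175 at hi
      omega
    rw [key (P := fun g => T.ty g = i) fun g _ _ _ => by unfold tyF; split_ifs <;> omega, H.mass.2 i a5,
      num5 i a5 a1 a2]
  · show π g = pN (tyF T π g)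
    unfold tyF
    split_ifs with h1 h2
    · exact h1.2
    · exact h2.2
    by_cases a1 : T.ty g = 84
    · rw [a1, (H.v16 a1).resolve_left fun h => h1 ⟨a1, h⟩]
      rfl
    by_cases a2 : T.ty g = 90
    · rw [a2, (H.v18 a2).resolve_left fun h => h2 ⟨a2, h⟩]
      rfl
    exact H.val a1 a2

end Cfsg.Agent.TAB.B.Fin

private theorem dce_2e50ce7baed1 : _root_.True := by
  try have : _root_.True := by simp only [_root_.Cfsg.Agent.TAB.B.Fin.tyF.eq_1]
  try have : _root_.True := by simp only [_root_.Cfsg.Agent.TAB.B.Fin.aN.eq_1]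
  try have : _root_.True := by simp only [_root_.Cfsg.Agent.TAB.Eng.Key.ofChar.eq_1]
  try have : _root_.True := by simp only [_root_.Cfsg.Agent.TAB.Eng.Key.mk.congr_simp]
  exact _root_.True.intro
end

-- part: TAB/B/C3/Num
section
set_option linter.all false
open scoped Cfsg.Agent.FastGrp

/-!
# The affine space of dimension 8 over the field with three elements: numerical part (helper84, TAB)

Matrices are lists of nine columns (fields of six bits), points are numbers below 6561 (base three).
`row p` is the translate by `p` of the mask `Om` (1440 vectors), `tab cs` the table of an affine map.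
-/

set_option autoImplicit false
set_option exponentiation.threshold 7000

namespace Cfsg.Agent.TAB.B.C3

open Matrix Cfsg.Agent.BMx.Fast Cfsg.Agent.H123.Cls
open Cfsg.Agent.Lib.BitNetSimple (force force_eq tb tb_eq)

/-- vectors -/
abbrev Vc : Type := Fin 9 → ZMod 3

/-- matrices -/
abbrev Mt : Type := Matrix (Fin 9) (Fin 9) (ZMod 3)

/-- the digits in base `b` -/
def dg (b q : ℕ) : Vc := fun i => ((q / b ^ (i : ℕ) % b : ℕ) : ZMod 3)

/-- a linear combination of columns -/
noncomputable def lin (b : ℕ) (cs : List ℕ) : ℕ → ℕ :=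
  List.rec (motive := fun _ => ℕ → ℕ) (fun _ => 0)
    (fun c _ ih q => Nat.add (Nat.mul (Nat.mod q b) c) (ih (Nat.div q b))) cs

/-- reduction modulo three -/
noncomputable def out (b n : ℕ) : ℕ → ℕ :=
  Nat.rec (motive := fun _ => ℕ → ℕ) (fun _ => 0)
    (fun _ ih s => Nat.add (Nat.mod (Nat.mod s 64) 3) (Nat.mul b (ih (Nat.div s 64)))) n

theorem fld6 (s i : ℕ) : fld 6 s i = s / 64 ^ i % 64 := by
  unfold fld
  rw [pow_mul]
  rfl

theorem div_pow_succ (q b j : ℕ) : q / b ^ (j + 1) = q / b / b ^ j := by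
  rw [Nat.div_div_eq_div_mul, pow_succ']

theorem lin_spec (b : ℕ) (cs : List ℕ) (q : ℕ) (hc : ∀ c ∈ cs, ∀ i, fld 6 c i ≤ 2) (hq : ∀ j, q / b ^ j % b ≤ 2)
    (hl : cs.length ≤ 15) (i : ℕ) :
    fld 6 (lin b cs q) i = ∑ j ∈ Finset.range cs.length, (q / b ^ j % b) * fld 6 (cs.getD j 0) i ∧
      fld 6 (lin b cs q) i ≤ 4 * cs.length := by
  induction cs generalizing q i with
  | nil => exact ⟨fld_zero 6 i, (fld_zero 6 i).le⟩
  | cons c cs ih =>
    have h0 : q % b ≤ 2 := by simpa using hq 0
    have h1 := ih (q / b) (fun d hd => hc d (List.mem_cons_of_mem _ hd))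
      (fun j => by rw [← div_pow_succ]; exact hq _) (by rw [List.length_cons] at hl; omega)
    have h2 := hc c List.mem_cons_self
    have h3 : ∀ i, fld 6 c i * (q % b) ≤ 4 := fun i => Nat.mul_le_mul (h2 i) h0
    have h4 : ∀ i, fld 6 (q % b * c) i = fld 6 c i * (q % b) := fun i => by
      rw [Nat.mul_comm]
      exact fld_mul (by norm_num) c _ (fun j => by have := h3 j; omega) i
    have h5 : fld 6 (lin b (c :: cs) q) i = fld 6 c i * (q % b) + fld 6 (lin b cs (q / b)) i := by
      show fld 6 (q % b * c + lin b cs (q / b)) i = _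
      rw [fld_add (by norm_num) _ _ (fun j => by
        have := h3 j
        have := (h1 j).2
        rw [List.length_cons] at hl
        rw [h4]
        omega), h4]
    rw [h5, List.length_cons]
    refine ⟨?_, by have := h3 i; have := (h1 i).2; omega⟩
    rw [Finset.sum_range_succ', (h1 i).1, pow_zero, Nat.div_one, List.getD_cons_zero, Nat.mul_comm, Nat.add_comm]
    congr 1
    exact Finset.sum_congr rfl fun j _ => by rw [List.getD_cons_succ, div_pow_succ]

theorem out_spec {b : ℕ} (hb : 3 ≤ b) (n s i : ℕ) : out b n s / b ^ i % b = if i < n then fld 6 s i % 3 else 0 := by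
  induction n generalizing s i with
  | zero => show 0 / b ^ i % b = _; simp
  | succ n ih =>
    have h1 : out b (n + 1) s = s % 64 % 3 + b * out b n (s / 64) := rfl
    have h2 : s % 64 % 3 < b := lt_of_lt_of_le (Nat.mod_lt _ (by norm_num)) hb
    rw [h1]
    cases i with
    | zero =>
      rw [pow_zero, Nat.div_one, Nat.add_mul_mod_self_left, Nat.mod_eq_of_lt h2, if_pos (Nat.succ_pos n), fld6]
      simp
    | succ i =>
      rw [div_pow_succ, Nat.add_mul_div_left _ _ (by omega), Nat.div_eq_of_lt h2, Nat.zero_add, ih, fld6, fld6,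
        div_pow_succ]
      simp

theorem out_lt (n s : ℕ) : out 3 n s < 3 ^ n := by
  induction n generalizing s with
  | zero => exact Nat.one_pos
  | succ n ih =>
    have h1 : out 3 (n + 1) s = s % 64 % 3 + 3 * out 3 n (s / 64) := rfl
    have := ih (s / 64)
    rw [h1, pow_succ]
    omega

/-- the list `cs` represents the matrix `X` -/
def Rp (cs : List ℕ) (X : Mt) : Prop :=
  cs.length = 9 ∧ (∀ c ∈ cs, ∀ i, fld 6 c i ≤ 2) ∧ ∀ i j : Fin 9, ((fld 6 (cs.getD j 0) i : ℕ) : ZMod 3) = X i j

theorem Rp.unique {cs : List ℕ} {X Y : Mt} (hX : Rp cs X) (hY : Rp cs Y) : X = Y := by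
  ext i j
  rw [← hX.2.2, hY.2.2]

theorem fld_out (n s i : ℕ) : fld 6 (out 64 n s) i = if i < n then fld 6 s i % 3 else 0 := by
  rw [fld6, out_spec (by norm_num)]

theorem fld_out_le (n s i : ℕ) : fld 6 (out 64 n s) i ≤ 2 := by
  rw [fld_out]
  split_ifs <;> omega

theorem Rp.of_chk {cs : List ℕ} {X : Mt} (h1 : cs.length = 9) (h2 : ∀ c ∈ cs, out 64 9 c = c)
    (h3 : ∀ i j : Fin 9, ((fld 6 (cs.getD j 0) i : ℕ) : ZMod 3) = X i j) : Rp cs X :=
  ⟨h1, fun c hc i => by rw [← h2 c hc]; exact fld_out_le _ _ _, h3⟩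

theorem Rp.lin {cs : List ℕ} {X : Mt} (h : Rp cs X) (b q : ℕ) (hq : ∀ j, q / b ^ j % b ≤ 2) (i : Fin 9) :
    ((fld 6 (lin b cs q) i : ℕ) : ZMod 3) = (X *ᵥ dg b q) i := by
  rw [(lin_spec b cs q h.2.1 hq (by rw [h.1]; norm_num) i).1, h.1, Finset.sum_range, Nat.cast_sum]
  show _ = ∑ j, X i j * dg b q j
  refine Finset.sum_congr rfl fun j _ => ?_
  rw [Nat.cast_mul, h.2.2, mul_comm]
  rfl

/-- the product -/
noncomputable def mulC (cs ds : List ℕ) : List ℕ :=
  List.rec (motive := fun _ => List ℕ) [] (fun d _ ih => out 64 9 (lin 64 cs d) :: ih) ds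

theorem mulC_eq (cs ds : List ℕ) : mulC cs ds = ds.map fun d => out 64 9 (lin 64 cs d) := by
  induction ds with
  | nil => rfl
  | cons d ds ih => exact congrArg (List.cons _) ih

theorem Rp.mul {cs ds : List ℕ} {X Y : Mt} (hX : Rp cs X) (hY : Rp ds Y) : Rp (mulC cs ds) (X * Y) := by
  rw [mulC_eq]
  refine ⟨by rw [List.length_map, hY.1], fun c hc i => ?_, fun i j => ?_⟩
  · obtain ⟨d, -, rfl⟩ := List.mem_map.1 hc
    exact fld_out_le _ _ _
  · have hj : (j : ℕ) < ds.length := by rw [hY.1]; exact j.2
    rw [List.getD_eq_getElem _ _ (by rw [List.length_map]; exact hj), List.getElem_map, fld_out, if_pos i.2,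
      ZMod.natCast_mod, hX.lin 64 _ (fun k => by rw [← fld6]; exact hY.2.1 _ (List.getElem_mem hj) k), Matrix.mul_apply]
    show ∑ k, X i k * dg 64 ds[(j : ℕ)] k = _
    refine Finset.sum_congr rfl fun k _ => ?_
    rw [← hY.2.2, List.getD_eq_getElem _ _ hj, fld6]
    rfl

/-- the unit matrix -/
def oneC : List ℕ := [1, 64, 4096, 262144, 16777216, 1073741824, 68719476736, 4398046511104, 281474976710656]

theorem rp_one : Rp oneC 1 := Rp.of_chk rfl (by decide +kernel) (by
  have h : ∀ i j : Fin 9, ((fld 6 (oneC.getD j 0) i : ℕ) : ZMod 3) = if i = j then 1 else 0 := by decide +kernel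
  intro i j
  rw [h, Matrix.one_apply])

/-! ### Codes -/

/-- the code of the first eight coordinates -/
def cd (u : Vc) : ℕ := (u 0).val + 3 * (u 1).val + 9 * (u 2).val + 27 * (u 3).val + 81 * (u 4).val + 243 * (u 5).val +
  729 * (u 6).val + 2187 * (u 7).val

theorem val_lt (a : ZMod 3) : a.val < 3 := ZMod.val_lt a

theorem cd_lt (u : Vc) : cd u < 6561 := by
  unfold cd
  have := val_lt (u 0); have := val_lt (u 1); have := val_lt (u 2); have := val_lt (u 3)
  have := val_lt (u 4); have := val_lt (u 5); have := val_lt (u 6); have := val_lt (u 7)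
  omega

theorem cd_congr {u v : Vc} (h : ∀ i, i ≠ 8 → u i = v i) : cd u = cd v := by
  unfold cd
  rw [h 0 (by decide), h 1 (by decide), h 2 (by decide), h 3 (by decide), h 4 (by decide), h 5 (by decide),
    h 6 (by decide), h 7 (by decide)]

theorem dg_val (q : ℕ) (i : Fin 9) : (dg 3 q i).val = q / 3 ^ (i : ℕ) % 3 := by
  unfold dg
  rw [ZMod.val_natCast, Nat.mod_mod]

theorem cd_dg (q : ℕ) : cd (dg 3 q) = q % 6561 := by
  unfold cd
  simp only [dg_val]
  show q / 3 ^ 0 % 3 + 3 * (q / 3 ^ 1 % 3) + 9 * (q / 3 ^ 2 % 3) + 27 * (q / 3 ^ 3 % 3) + 81 * (q / 3 ^ 4 % 3) +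
    243 * (q / 3 ^ 5 % 3) + 729 * (q / 3 ^ 6 % 3) + 2187 * (q / 3 ^ 7 % 3) = _
  omega

theorem dg_cd (u : Vc) (e : ℕ) (i : Fin 9) : dg 3 (cd u + 6561 * e) i = if i = 8 then (e : ZMod 3) else u i := by
  apply ZMod.val_injective
  rw [dg_val]
  have h8 : ((e : ℕ) : ZMod 3).val = e % 3 := ZMod.val_natCast 3 e
  unfold cd
  have := val_lt (u 0); have := val_lt (u 1); have := val_lt (u 2); have := val_lt (u 3)
  have := val_lt (u 4); have := val_lt (u 5); have := val_lt (u 6); have := val_lt (u 7)
  match i with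
  | 0 => show _ / 3 ^ 0 % 3 = (u 0).val; omega
  | 1 => show _ / 3 ^ 1 % 3 = (u 1).val; omega
  | 2 => show _ / 3 ^ 2 % 3 = (u 2).val; omega
  | 3 => show _ / 3 ^ 3 % 3 = (u 3).val; omega
  | 4 => show _ / 3 ^ 4 % 3 = (u 4).val; omega
  | 5 => show _ / 3 ^ 5 % 3 = (u 5).val; omega
  | 6 => show _ / 3 ^ 6 % 3 = (u 6).val; omega
  | 7 => show _ / 3 ^ 7 % 3 = (u 7).val; omega
  | 8 => show _ / 3 ^ 8 % 3 = ((e : ℕ) : ZMod 3).val; omega

theorem dg3_le (q j : ℕ) : q / 3 ^ j % 3 ≤ 2 := by omega

/-- the image of a code -/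
theorem Rp.code {cs : List ℕ} {X : Mt} (h : Rp cs X) (q : ℕ) : out 3 8 (C3.lin 3 cs q) = cd (X *ᵥ dg 3 q) := by
  have h1 := out_lt 8 (C3.lin 3 cs q)
  rw [← Nat.mod_eq_of_lt h1, show 3 ^ 8 = 6561 from rfl, ← cd_dg]
  refine cd_congr fun i hi => ?_
  have h2 : (i : ℕ) < 8 := by
    have := i.2
    have : (i : ℕ) ≠ 8 := fun h3 => hi (Fin.ext h3)
    omega
  rw [← h.lin 3 q (dg3_le q)]
  unfold dg
  rw [out_spec le_rfl, if_pos h2, ZMod.natCast_mod]

/-! ### Tables -/

/-- the table of a function -/
noncomputable def tabF (f : ℕ → ℕ) (k : ℕ) : ℕ → ℕ :=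
  Nat.rec (motive := fun _ => ℕ → ℕ) (fun b => f b)
    (fun k ih b => force (Nat.add b (Nat.pow 2 k)) fun b' =>
      Nat.lor (ih b) (Nat.shiftLeft (ih b') (Nat.mul 13 (Nat.pow 2 k)))) k

theorem fld_tabF {f : ℕ → ℕ} (hf : ∀ p, f p < 8192) (k b i : ℕ) :
    fld 13 (tabF f k b) i = if i < 2 ^ k then f (b + i) else 0 := by
  induction k generalizing b i with
  | zero =>
    show fld 13 (f b) i = _
    have := hf b
    cases i with
    | zero => simpa [fld] using this
    | succ i =>
      rw [if_neg (by simp)]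
      exact fld_of_lt (n := 1) this (by omega)
  | succ k ih =>
    have h1 : tabF f (k + 1) b = force (b + 2 ^ k) fun b' => tabF f k b ||| (tabF f k b' <<< (13 * 2 ^ k)) := rfl
    rw [h1, force_eq, fld_or, fld_shiftLeft, ih, ih, pow_succ]
    by_cases h2 : i < 2 ^ k
    · rw [if_pos h2, if_neg (by omega), if_pos (by omega), Nat.or_zero]
    · rw [if_neg h2, if_pos (by omega), Nat.zero_or]
      by_cases h3 : i < 2 ^ k * 2
      · rw [if_pos (by omega), if_pos h3]
        congr 1
        omega
      · rw [if_neg (by omega), if_neg h3]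

/-- the table of the affine map with the columns `cs` -/
noncomputable def tab (cs : List ℕ) : ℕ :=
  tabF (fun p => force (Nat.add p 6561) fun q => force (lin 3 cs q) (out 3 8)) 13 0

theorem lk_tab {cs : List ℕ} {X : Mt} (h : Rp cs X) {p : ℕ} (hp : p < 6561) :
    lk 13 (tab cs) p = cd (X *ᵥ dg 3 (p + 6561)) := by
  have h1 : lk 13 (tab cs) p = fld 13 (tab cs) p := by
    show (tab cs >>> (13 * p)) &&& (2 ^ 13 - 1) = _
    rw [Nat.and_two_pow_sub_one_eq_mod, Nat.shiftRight_eq_div_pow]
    rfl
  rw [h1, tab, fld_tabF (fun p => by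
    rw [force_eq, force_eq]
    exact (out_lt 8 _).trans (by norm_num)), if_pos (by omega), force_eq, force_eq, Nat.zero_add]
  exact h.code _

/-! ### The graph -/

/-- the orbit of length 1440 -/
def Om : ℕ := 0x110500194110031209001504409110501200c06009200ca00312141108800541102444140480301803105001941100312090012401940062428221100081891102401a20a0500040c48881200d105028002010080402010080403ff504409110501200c0600c414006504400c48240040c48881200d10502800310500194110031209001504409110501200c060081891102401a20a05000490065001890a0884400248032800c48504422001008040201008040201ff81891102401a20a05000490065001890a08844002a08812220a0240180c012401940062428221100081891102401a20a0500054110244414048030180310500194110031209001882800ca088018904800804020100804020100ffd41102444140480301803105001941100312090010312220480344140a000c414006504400c48240054110244414048030180206244409006882814001240194006242822110009200ca003121411088004020100804020100807ff10500194110031209001504409110501200c06009200ca003121411088005411024441404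80301803105001941100312090012401940062428221100081891102401a20a0500040c48881200d105028002010080402010080403ff0312220480344140a0009200ca0031214110880054110244414048030180248032800c485044220010312220480344140a000a8220488828090060300620a0032822006241200310500194110031209001008040201008040201ff9200ca0031214110880040c48881200d105028003105001941100312090010312220480344140a0009200ca00312141108800620a00328220062412002a08812220a0240180c01504409110501200c0600804020100804020100ffc90065001890a0884400206244409006882814001882800ca08801890480081891102401a20a05000490065001890a0884400310500194110031209001504409110501200c0600a82204888280900603004020100804020100807fe010080402010080403ff008040201008040201ff804020100804020100ffc020100804020100807fe010080402010080403ff008040201008040201ff804020100804020100ffc020100804020100807fffffffffffffffffffffe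

/-- the codes with the digit `i` equal to zero -/
noncomputable def sB (i : ℕ) : ℕ :=
  Nat.mul (Nat.sub (Nat.pow 2 (Nat.pow 3 i)) 1)
    (Nat.div (Nat.sub (Nat.pow 2 6561) 1) (Nat.sub (Nat.pow 2 (Nat.pow 3 (Nat.succ i))) 1))

/-- the other codes -/
noncomputable def sA (i : ℕ) : ℕ := Nat.xor (Nat.sub (Nat.pow 2 6561) 1) (sB i)

/-- translation by a unit vector -/
noncomputable def sh (i M : ℕ) : ℕ :=
  Nat.lor (Nat.land (Nat.shiftLeft M (Nat.pow 3 i)) (sA i))
    (Nat.land (Nat.shiftRight M (Nat.mul 2 (Nat.pow 3 i))) (sB i))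

/-- translation by a multiple of a unit vector -/
noncomputable def st (i d M : ℕ) : ℕ := cnd (Nat.beq d 0) M (cnd (Nat.beq d 1) (sh i M) (sh i (sh i M)))

/-- translation by the digits of `q` -/
noncomputable def rwN (n : ℕ) : ℕ → ℕ → ℕ :=
  Nat.rec (motive := fun _ => ℕ → ℕ → ℕ) (fun _ _ => Om)
    (fun _ ih i q => force (Nat.div q 3) fun q' => st i (Nat.mod q 3) (ih (Nat.succ i) q')) n

/-- the rows of the graph -/
noncomputable def row (p : ℕ) : ℕ := rwN 8 0 p

theorem sB_chk : allN (fun i => Nat.beq (sB i)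
    (bld (fun q => band (Nat.blt q 6561) (Nat.beq (Nat.mod (Nat.div q (Nat.pow 3 i)) 3) 0)) 13 0)) 8 = true := by
  decide +kernel

theorem testBit_sB {i : ℕ} (hi : i < 8) (q : ℕ) : (sB i).testBit q = true ↔ q < 6561 ∧ q / 3 ^ i % 3 = 0 := by
  rw [Nat.eq_of_beq_eq_true ((allN_iff _ _).1 sB_chk i hi), testBit_bld, Bool.and_eq_true, band_eq, Nat.zero_add,
    decide_eq_true_iff, Nat.blt_eq, Nat.beq_eq]
  exact ⟨fun h => h.2, fun h => ⟨by omega, h⟩⟩

theorem testBit_sA {i : ℕ} (hi : i < 8) (q : ℕ) : (sA i).testBit q = true ↔ q < 6561 ∧ q / 3 ^ i % 3 ≠ 0 := by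
  show ((2 ^ 6561 - 1) ^^^ sB i).testBit q = true ↔ _
  rw [Nat.testBit_xor, Nat.testBit_two_pow_sub_one]
  have h := testBit_sB hi q
  cases h1 : (sB i).testBit q
  · rw [h1] at h
    simp only [Bool.false_eq_true, false_iff, not_and] at h
    simp only [Bool.xor_false, decide_eq_true_eq]
    exact ⟨fun h2 => ⟨h2, h h2⟩, fun h2 => h2.1⟩
  · have h2 := h.1 h1
    simp [h2.1, h2.2]

/-- the code of `q` minus a unit vector -/
noncomputable def prd (i q : ℕ) : ℕ := cnd (Nat.beq (Nat.mod (Nat.div q (Nat.pow 3 i)) 3) 0) (Nat.add q (Nat.mul 2 (Nat.pow 3 i)))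
  (Nat.sub q (Nat.pow 3 i))

theorem prd_chk : allN (fun i => allN (fun q => force (prd i q) fun r => band (Nat.blt r 6561)
    (allN (fun j => Nat.beq (Nat.mod (Nat.add (Nat.div r (Nat.pow 3 j)) (cnd (Nat.beq j i) 1 0)) 3)
      (Nat.mod (Nat.div q (Nat.pow 3 j)) 3)) 9)) 6561) 8 = true := by
  refine (allN_iff _ _).2 fun i hi => (allN_iff _ _).2 fun q hq => ?_
  rw [force_eq]
  have hP : 0 < 3 ^ i := Nat.pow_pos (by norm_num)
  have h : prd i q % 3 ^ i = q % 3 ^ i ∧ prd i q / 3 ^ i / 3 = q / 3 ^ i / 3 ∧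
      (prd i q / 3 ^ i + 1) % 3 = q / 3 ^ i % 3 := by
    show cnd (Nat.beq (q / 3 ^ i % 3) 0) (q + 2 * 3 ^ i) (q - 3 ^ i) % _ = _ ∧
      cnd (Nat.beq (q / 3 ^ i % 3) 0) (q + 2 * 3 ^ i) (q - 3 ^ i) / _ / 3 = _ ∧
      (cnd (Nat.beq (q / 3 ^ i % 3) 0) (q + 2 * 3 ^ i) (q - 3 ^ i) / _ + 1) % 3 = _
    generalize 3 ^ i = P at hP
    cases h1 : Nat.beq (q / P % 3) 0 with
    | true =>
      have h2 := Nat.eq_of_beq_eq_true h1
      show (q + 2 * P) % P = _ ∧ (q + 2 * P) / P / 3 = _ ∧ ((q + 2 * P) / P + 1) % 3 = _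
      rw [Nat.add_mul_mod_self_right, Nat.add_mul_div_right _ _ hP]
      omega
    | false =>
      have h2 := Nat.ne_of_beq_eq_false h1
      have h3 : P ≤ q := not_lt.1 fun h => h2 (by rw [Nat.div_eq_of_lt h])
      show (q - P) % P = _ ∧ (q - P) / P / 3 = _ ∧ ((q - P) / P + 1) % 3 = _
      rw [← Nat.mod_eq_sub_mod h3, Nat.div_eq_sub_div hP h3] at *
      omega
  generalize prd i q = r at h
  have g : ∀ j, i < j → r / 3 ^ j = q / 3 ^ j := fun j hj => by
    obtain ⟨k, rfl⟩ := Nat.exists_eq_add_of_lt hj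
    rw [Nat.add_right_comm, pow_add, pow_succ, ← Nat.div_div_eq_div_mul, ← Nat.div_div_eq_div_mul,
      ← Nat.div_div_eq_div_mul, ← Nat.div_div_eq_div_mul, h.2.1]
  refine band_eq.2 ⟨Nat.blt_eq.mpr ?_, (allN_iff _ _).2 fun j _ => Nat.beq_eq.mpr ?_⟩
  · have h1 := g 8 hi
    omega
  · show (r / 3 ^ j + cnd (Nat.beq j i) 1 0) % 3 = q / 3 ^ j % 3
    cases h1 : Nat.beq j i with
    | true => rw [Nat.eq_of_beq_eq_true h1]; exact h.2.2
    | false =>
      show r / 3 ^ j % 3 = _
      rcases lt_or_gt_of_ne (Nat.ne_of_beq_eq_false h1) with h2 | h2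
      · rw [← Nat.mod_mul_right_div_self, ← Nat.mod_mul_right_div_self, ← pow_succ,
          ← Nat.mod_mod_of_dvd r (pow_dvd_pow 3 h2), h.1, Nat.mod_mod_of_dvd q (pow_dvd_pow 3 h2)]
      · rw [g j h2]

theorem prd_spec {i : Fin 9} (hi : (i : ℕ) < 8) {q : ℕ} (hq : q < 6561) :
    prd i q < 6561 ∧ dg 3 (prd i q) = dg 3 q - Pi.single i 1 := by
  have h := (allN_iff _ _).1 ((allN_iff _ _).1 prd_chk i hi) q hq
  rw [force_eq, band_eq, Nat.blt_eq] at h
  refine ⟨h.1, funext fun j => ?_⟩
  have h1 : (prd i q / 3 ^ (j : ℕ) + cnd (Nat.beq j i) 1 0) % 3 = q / 3 ^ (j : ℕ) % 3 :=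
    Nat.eq_of_beq_eq_true ((allN_iff _ _).1 h.2 j j.2)
  rw [Pi.sub_apply, eq_sub_iff_add_eq]
  unfold dg
  rw [← h1, ZMod.natCast_mod, ZMod.natCast_mod, Nat.cast_add]
  congr 1
  by_cases h2 : j = i
  · rw [h2, Pi.single_eq_same, Nat.beq_refl]
    rfl
  · have h3 : Nat.beq j i = false := by
      rw [← Bool.not_eq_true, Nat.beq_eq]
      exact fun h4 => h2 (Fin.ext h4)
    rw [Pi.single_eq_of_ne h2, h3]
    rfl

/-- the mask `M` is given by the predicate `f` -/
def Mk (M : ℕ) (f : Vc → Prop) : Prop := ∀ q, M.testBit q = true ↔ q < 6561 ∧ f (dg 3 q)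

theorem Mk.sh {M : ℕ} {f : Vc → Prop} (h : Mk M f) {i : Fin 9} (hi : (i : ℕ) < 8) :
    Mk (sh i M) fun u => f (u - Pi.single i 1) := by
  intro q
  show (((M <<< (3 ^ (i : ℕ))) &&& sA i) ||| ((M >>> (2 * 3 ^ (i : ℕ))) &&& sB i)).testBit q = true ↔ _
  rw [Nat.testBit_or, Nat.testBit_and, Nat.testBit_and, Nat.testBit_shiftLeft, Nat.testBit_shiftRight,
    Bool.or_eq_true, Bool.and_eq_true, Bool.and_eq_true, Bool.and_eq_true, testBit_sA hi, testBit_sB hi, h, h,
    decide_eq_true_iff]
  by_cases hq : q < 6561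
  · obtain ⟨h1, h2⟩ := prd_spec hi hq
    beta_reduce
    rw [← h2]
    by_cases h3 : q / 3 ^ (i : ℕ) % 3 = 0
    · have h4 : prd i q = 2 * 3 ^ (i : ℕ) + q := by
        have h5 : Nat.beq (Nat.mod (Nat.div q (Nat.pow 3 i)) 3) 0 = true := by rw [Nat.beq_eq]; exact h3
        unfold prd
        rw [h5]
        exact Nat.add_comm _ _
      rw [h4] at h1 ⊢
      simp [h1, hq, h3]
    · have h4 : prd i q = q - 3 ^ (i : ℕ) := by
        have h5 : Nat.beq (Nat.mod (Nat.div q (Nat.pow 3 i)) 3) 0 = false := by
          rw [← Bool.not_eq_true, Nat.beq_eq]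
          exact h3
        unfold prd
        rw [h5]
        rfl
      have h6 : 3 ^ (i : ℕ) ≤ q := by
        by_contra h7
        rw [Nat.div_eq_of_lt (by omega)] at h3
        exact h3 rfl
      rw [h4] at h1 ⊢
      simp [h1, hq, h3, h6]
  · simp [hq]

theorem Mk.st {M : ℕ} {f : Vc → Prop} (h : Mk M f) {i : Fin 9} (hi : (i : ℕ) < 8) {d : ℕ} (hd : d < 3) :
    Mk (st i d M) fun u => f (u - Pi.single i (d : ZMod 3)) := by
  interval_cases d
  · show Mk M _
    simpa using h
  · show Mk (C3.sh i M) _
    simpa using h.sh hi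
  · show Mk (C3.sh i (C3.sh i M)) _
    have h1 := (h.sh hi).sh hi
    simp only [sub_sub, ← Pi.single_add] at h1
    exact h1

/-- the vector of the translation -/
def off (n i q : ℕ) : Vc := fun j => if i ≤ j ∧ (j : ℕ) < i + n then ((q / 3 ^ ((j : ℕ) - i) % 3 : ℕ) : ZMod 3) else 0

theorem Om_lt : Nat.blt Om (Nat.pow 2 6561) = true := by decide +kernel

theorem mk_rwN (n i q : ℕ) (h : i + n ≤ 8) : Mk (rwN n i q) fun u => Om.testBit (cd (u - off n i q)) = true := by
  induction n generalizing i q with
  | zero =>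
    intro p
    show Om.testBit p = true ↔ _
    have h1 : off 0 i q = 0 := funext fun j => if_neg (by omega)
    beta_reduce
    rw [h1, sub_zero, cd_dg]
    by_cases hp : p < 6561
    · rw [Nat.mod_eq_of_lt hp]
      simp [hp]
    · rw [Nat.testBit_lt_two_pow (lt_of_lt_of_le (Nat.blt_eq.mp Om_lt) (Nat.pow_le_pow_right (by norm_num) (by omega)))]
      simp [hp]
  | succ n ih =>
    have h1 : rwN (n + 1) i q = force (q / 3) fun q' => st i (q % 3) (rwN n (i + 1) q') := rfl
    rw [h1, force_eq]
    have h2 := (ih (i + 1) (q / 3) (by omega)).st (i := ⟨i, by omega⟩) (show i < 8 by omega) (Nat.mod_lt q (by norm_num))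
    have h3 : ∀ u : Vc, u - Pi.single (⟨i, by omega⟩ : Fin 9) ((q % 3 : ℕ) : ZMod 3) - off n (i + 1) (q / 3) =
        u - off (n + 1) i q := by
      intro u
      rw [sub_sub]
      congr 1
      funext j
      rw [Pi.add_apply]
      unfold off
      by_cases h4 : j = ⟨i, by omega⟩
      · rw [h4, Pi.single_eq_same, if_neg (by simp), if_pos (by simp)]
        simp
      · have h5 : (j : ℕ) ≠ i := fun h6 => h4 (Fin.ext h6)
        rw [Pi.single_eq_of_ne h4, zero_add]
        by_cases h6 : i + 1 ≤ j ∧ (j : ℕ) < i + 1 + n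
        · rw [if_pos h6, if_pos (by omega), ← div_pow_succ, show (j : ℕ) - (i + 1) + 1 = j - i by omega]
        · rw [if_neg h6, if_neg (by omega)]
    simp only [h3] at h2
    exact h2

/-- the points -/
def pt (p : ℕ) : Vc := dg 3 (p + 6561)

theorem pt_eq {p : ℕ} (hp : p < 6561) (i : Fin 9) : pt p i = if i = 8 then 1 else dg 3 p i := by
  have h1 := dg_cd (dg 3 p) 1 i
  rw [cd_dg, Nat.mod_eq_of_lt hp, Nat.mul_one, Nat.cast_one] at h1
  exact h1

theorem pt_cd {u : Vc} (hu : u 8 = 1) : pt (cd u) = u := by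
  funext i
  have h1 := dg_cd u 1 i
  rw [Nat.mul_one, Nat.cast_one] at h1
  refine h1.trans ?_
  split_ifs with h2
  · rw [h2, hu]
  · rfl

theorem cd_pt {p : ℕ} (hp : p < 6561) : cd (pt p) = p := by
  unfold pt
  rw [cd_dg]
  omega

theorem testBit_row {p q : ℕ} (hp : p < 6561) (hq : q < 6561) :
    (row p).testBit q = Om.testBit (cd (pt q - pt p)) := by
  rw [Bool.eq_iff_iff]
  refine (mk_rwN 8 0 p le_rfl q).trans ?_
  have h1 : cd (dg 3 q - off 8 0 p) = cd (pt q - pt p) := cd_congr fun i hi => by
    have h2 : (i : ℕ) < 8 := by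
      have := i.2
      have : (i : ℕ) ≠ 8 := fun h3 => hi (Fin.ext h3)
      omega
    rw [Pi.sub_apply, Pi.sub_apply, pt_eq hp, pt_eq hq, if_neg hi, if_neg hi]
    unfold off
    rw [if_pos (by omega)]
    rfl
  beta_reduce
  rw [h1]
  simp [hq]

/-- the mask is invariant -/
noncomputable def chkO (cs : List ℕ) : Bool :=
  allN (fun q => cnd (tb Om q) (force (lin 3 cs q) fun s => force (out 3 8 s) (tb Om)) true) 6561

theorem inv_of_chkO {cs : List ℕ} {X : Mt} (h : Rp cs X) (hc : chkO cs = true) {v : Vc} (hv : v 8 = 0)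
    (h1 : Om.testBit (cd v) = true) : Om.testBit (cd (X *ᵥ v)) = true := by
  have h2 := (allN_iff _ _).1 hc (cd v) (cd_lt v)
  rw [tb_eq, h1, cnd_true, force_eq, force_eq, tb_eq, h.code] at h2
  have h3 : dg 3 (cd v) = v := funext fun i => by
    have h4 := dg_cd v 0 i
    rw [Nat.mul_zero, Nat.add_zero, Nat.cast_zero] at h4
    refine h4.trans ?_
    split_ifs with h5
    · rw [h5, hv]
    · rfl
  rwa [h3] at h2

/-! ### The table, all entries at once (helper62) -/

namespace Qk

/-- digit `j` of `p + 6561` in the field `p < 8192` -/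
noncomputable def DG (j : ℕ) : ℕ :=
  Nat.mod (Nat.shiftRight (Nat.mul (Nat.mul (ones 13 (Nat.pow 3 j))
      (Nat.add (Nat.pow 2 (Nat.mul 13 (Nat.pow 3 j))) (Nat.pow 2 (Nat.succ (Nat.mul 26 (Nat.pow 3 j))))))
    (Nat.div (Nat.sub (Nat.pow 2 255879) 1) (Nat.sub (Nat.pow 2 (Nat.mul 39 (Nat.pow 3 j))) 1))) 85293)
    (Nat.pow 2 106496)

theorem DG_chk : allN (fun j => Nat.beq (DG j)
    (tabF (fun p => Nat.mod (Nat.div (Nat.add p 6561) (Nat.pow 3 j)) 3) 13 0)) 9 = true := by
  decide +kernel

theorem fld_DG {j : ℕ} (hj : j < 9) (p : ℕ) : fld 13 (DG j) p = if p < 8192 then (p + 6561) / 3 ^ j % 3 else 0 := by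
  rw [Nat.eq_of_beq_eq_true ((allN_iff _ _).1 DG_chk j hj), fld_tabF (fun p => by
    show _ % 3 < _
    omega), Nat.zero_add]
  rfl

/-- row `i` of the matrix applied to all points -/
noncomputable def SQ (i : ℕ) (cs : List ℕ) : ℕ → ℕ :=
  List.rec (motive := fun _ => ℕ → ℕ) (fun _ => 0)
    (fun c _ ih j => Nat.add (Nat.mul (DG j) (Nat.mod (Nat.div c (Nat.pow 64 i)) 64)) (ih (Nat.succ j))) cs

theorem fld_SQ (i : ℕ) (cs : List ℕ) (hc : ∀ c ∈ cs, ∀ i, fld 6 c i ≤ 2) (j : ℕ) (hl : j + cs.length ≤ 9) (p : ℕ) :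
    fld 13 (SQ i cs j) p = if p < 8192 then fld 6 (lin 3 cs ((p + 6561) / 3 ^ j)) i else 0 := by
  induction cs generalizing j p with
  | nil =>
    show fld 13 0 p = if p < 8192 then fld 6 0 i else 0
    rw [fld_zero, fld_zero, ite_self]
  | cons c cs ih =>
    rw [List.length_cons] at hl
    have hc' : ∀ c ∈ cs, ∀ i, fld 6 c i ≤ 2 := fun d hd => hc d (List.mem_cons_of_mem _ hd)
    have h1 := ih hc' (j + 1) (by omega)
    have h2 := hc c List.mem_cons_self i
    have h3 : ∀ p, fld 13 (DG j) p * fld 6 c i ≤ 4 := fun p => by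
      rw [fld_DG (by omega)]
      split_ifs
      · exact Nat.mul_le_mul (dg3_le _ _) h2
      · omega
    have h4 : ∀ p, fld 13 (DG j * fld 6 c i) p = fld 13 (DG j) p * fld 6 c i :=
      fld_mul (by decide) _ _ fun p => lt_of_le_of_lt (h3 p) (by decide)
    have h5 : ∀ q, fld 6 (lin 3 cs q) i ≤ 4 * cs.length := fun q =>
      (lin_spec 3 cs q hc' (dg3_le q) (by omega) i).2
    have e : SQ i (c :: cs) j = DG j * fld 6 c i + SQ i cs (j + 1) := by
      rw [fld6]
      rfl
    rw [e, fld_add (by decide) _ _ (fun p => by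
      have := h3 p
      have := h5 ((p + 6561) / 3 ^ (j + 1))
      rw [h4, h1]
      split_ifs <;> omega), h4, h1, fld_DG (by omega)]
    split_ifs
    · rw [(lin_spec 3 (c :: cs) _ hc (dg3_le _) (by rw [List.length_cons]; omega) i).1,
        (lin_spec 3 cs _ hc' (dg3_le _) (by omega) i).1, List.length_cons, Finset.sum_range_succ', pow_zero,
        Nat.div_one, List.getD_cons_zero, Nat.add_comm]
      congr 1
      refine Finset.sum_congr rfl fun t _ => ?_
      rw [List.getD_cons_succ, Nat.div_div_eq_div_mul, Nat.div_div_eq_div_mul, ← pow_add, ← pow_add, Nat.add_assoc,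
        Nat.add_comm 1]
    · rw [Nat.zero_mul]

/-- all fields modulo three -/
noncomputable def md3 (n X : ℕ) : ℕ :=
  Nat.sub X (Nat.mul (Nat.land (Nat.shiftRight (Nat.mul X 43) 7) (Nat.mul (ones 13 n) 63)) 3)

theorem fld_md3 {n X : ℕ} (h : ∀ p, fld 13 X p ≤ 36) (h0 : ∀ p, ¬ p < n → fld 13 X p = 0) (p : ℕ) :
    fld 13 (md3 n X) p = fld 13 X p % 3 := by
  have h1 : ∀ p, fld 13 (X * 43) p = fld 13 X p * 43 :=
    fld_mul (by decide) _ _ fun p => by have := h p; omega
  have h2 : ∀ p, fld 13 (ones 13 n * 63) p = (if p < n then 1 else 0) * 63 := fun p => by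
    rw [fld_mul (by decide) _ _ fun p => by rw [fld_ones (by decide)]; split_ifs <;> decide, fld_ones (by decide)]
  have h3 : ∀ p, fld 13 (((X * 43) >>> 7) &&& (ones 13 n * 63)) p = fld 13 X p / 3 := fun p => by
    rw [fld_and, h2]
    split_ifs with hp
    · have h4 : fld 13 X p / 3 = fld 13 (X * 43) p >>> 7 := by
        have := h p
        rw [h1, Nat.shiftRight_eq_div_pow]
        omega
      rw [h4]
      generalize X * 43 = Y
      apply Nat.eq_of_testBit_eq
      intro j
      rw [Nat.testBit_and, Nat.testBit_shiftRight, testBit_fld, testBit_fld, Nat.testBit_shiftRight,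
        show 1 * 63 = 2 ^ 6 - 1 from rfl, Nat.testBit_two_pow_sub_one,
        show 7 + (13 * p + j) = 13 * p + (7 + j) by omega]
      by_cases hj : j < 6
      · rw [decide_eq_true hj, decide_eq_true (by omega : j < 13), decide_eq_true (by omega : 7 + j < 13),
          Bool.and_true]
      · rw [decide_eq_false hj, decide_eq_false (by omega : ¬ 7 + j < 13), Bool.and_false, Bool.false_and]
    · rw [h0 p hp, Nat.zero_mul, Nat.and_zero]
  have h5 : ∀ p, fld 13 ((((X * 43) >>> 7) &&& (ones 13 n * 63)) * 3) p = fld 13 X p / 3 * 3 := fun p => by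
    rw [fld_mul (by decide) _ _ fun p => by have := h p; rw [h3]; omega, h3]
  have h6 := fld_add_sub (W := 13) (by decide) X 0 ((((X * 43) >>> 7) &&& (ones 13 n * 63)) * 3)
    (fun p => fld 13 X p % 3) (fun p => by omega) (fun p => by rw [fld_zero, h5]; omega) p
  rw [Nat.add_zero] at h6
  delta md3
  exact h6

/-- the codes -/
noncomputable def outQ (cs : List ℕ) (n : ℕ) : ℕ → ℕ :=
  Nat.rec (motive := fun _ => ℕ → ℕ) (fun _ => 0)
    (fun _ ih i => Nat.add (md3 8192 (SQ i cs 0)) (Nat.mul (ih (Nat.succ i)) 3)) n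

theorem fld_outQ (cs : List ℕ) (hc : ∀ c ∈ cs, ∀ i, fld 6 c i ≤ 2) (hl : cs.length ≤ 9) (n : ℕ) (hn : n ≤ 8)
    (i p : ℕ) : fld 13 (outQ cs n i) p = if p < 8192 then out 3 n (lin 3 cs (p + 6561) / 64 ^ i) else 0 := by
  induction n generalizing i p with
  | zero =>
    show fld 13 0 p = if p < 8192 then 0 else 0
    rw [fld_zero, ite_self]
  | succ n ih =>
    have h1 := ih (by omega) (i + 1)
    have h2 := fld_SQ i cs hc 0 (by omega)
    have h3 : ∀ p, fld 13 (md3 8192 (SQ i cs 0)) p = fld 13 (SQ i cs 0) p % 3 :=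
      fld_md3 (fun p => by
        have := (lin_spec 3 cs ((p + 6561) / 3 ^ 0) hc (dg3_le _) (by omega) i).2
        rw [h2]
        split_ifs <;> omega) fun p hp => by rw [h2, if_neg hp]
    have h4 : ∀ p, fld 13 (outQ cs n (i + 1)) p < 2187 := fun p => by
      have h5 := out_lt n (lin 3 cs (p + 6561) / 64 ^ (i + 1))
      have h6 : 3 ^ n ≤ 3 ^ 7 := Nat.pow_le_pow_right (by decide) (by omega)
      rw [h1]
      split_ifs <;> omega
    have h5 : ∀ p, fld 13 (outQ cs n (i + 1) * 3) p = fld 13 (outQ cs n (i + 1)) p * 3 :=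
      fld_mul (by decide) _ _ fun p => by have := h4 p; omega
    have e : outQ cs (n + 1) i = md3 8192 (SQ i cs 0) + outQ cs n (i + 1) * 3 := rfl
    rw [e, fld_add (by decide) _ _ (fun p => by have := h4 p; rw [h3, h5]; omega), h3, h5, h1, h2]
    split_ifs
    · rw [pow_zero, Nat.div_one, fld6, pow_succ, ← Nat.div_div_eq_div_mul, Nat.mul_comm]
      rfl
    · rfl

/-- the columns are reduced -/
noncomputable def okC (cs : List ℕ) : Bool :=
  band (Nat.ble cs.length 9) (cs.all fun c => band (Nat.blt c (Nat.pow 2 54))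
    (allN (fun i => Nat.ble (Nat.mod (Nat.div c (Nat.pow 64 i)) 64) 2) 9))

theorem tab_eq {cs : List ℕ} (h : okC cs = true) : tab cs = outQ cs 8 0 := by
  obtain ⟨h1, h2⟩ := band_eq.1 h
  have hc : ∀ c ∈ cs, ∀ i, fld 6 c i ≤ 2 := fun c hc i => by
    obtain ⟨h3, h4⟩ := band_eq.1 (List.all_eq_true.1 h2 c hc)
    by_cases hi : i < 9
    · rw [fld6]
      exact Nat.le_of_ble_eq_true ((allN_iff _ _).1 h4 i hi)
    · rw [fld_of_lt (n := 9) (Nat.blt_eq.mp h3) (by omega)]
      omega
  refine fld_ext (W := 13) (by decide) fun p => ?_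
  delta tab
  rw [fld_outQ cs hc (Nat.le_of_ble_eq_true h1) 8 le_rfl, fld_tabF (fun p => by
    rw [force_eq, force_eq]
    exact (out_lt 8 _).trans (by norm_num)), force_eq, force_eq, Nat.zero_add, pow_zero, Nat.div_one]
  rfl

theorem chkB_of {cs : List ℕ} {l : List (Bool × ℕ)} {L : List H123.Cls.Ins} {c : ℕ}
    (h : band (okC cs) (chkB 6561 13 row 13 (outQ cs 8 0) l L c) = true) :
    chkB 6561 13 row 13 (tab cs) l L c = true := by
  obtain ⟨h1, h2⟩ := band_eq.1 h
  rwa [tab_eq h1]

end Qk

end Cfsg.Agent.TAB.B.C3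

private theorem dce_29fe6dc6dcad : _root_.True := by
  try have : _root_.True := by simp only [_root_.Cfsg.Agent.TAB.B.C3.tab.eq_1]
  exact _root_.True.intro
end

-- part: TAB/B/D/Abs
section
prune_inst 0x2070054000000000040002c0007ec7d3000190006b8001cd040a040e8caf230000af20f48003131920aaac603900481000007900100000000006004119008008aaf28463f5a90426008681b885190c00000000000000000000000000000000004010000
set_option linter.all false
open scoped Cfsg.Agent.FastGrp

/-!
# Double covers and centralizers (helper14, TAB)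

`Cov q t` : `q` is onto with the kernel `{1, t}`; `Fr q t p a k` : `k` maps `C(a)` onto `C(k t)` with the kernel `⟨a⟩`.
-/

set_option autoImplicit false

namespace Cfsg.Agent.TAB.B.D

open Subgroup

/-- the order of a centralizer of two elements -/
noncomputable abbrev c2 {G : Type*} [Group G] (x y : G) : ℕ :=
  Nat.card ↥(centralizer ({x} : Set G) ⊓ centralizer ({y} : Set G))

/-- the order of a centralizer -/
noncomputable abbrev c1 {G : Type*} [Group G] (x : G) : ℕ := Nat.card ↥(centralizer ({x} : Set G))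

theorem card_ker_mul {A B : Type*} [Group A] [Group B] (φ : A →* B) :
    Nat.card φ.ker * Nat.card φ.range = Nat.card A := by
  rw [← index_ker]
  exact card_mul_index φ.ker

theorem c1_conj {G : Type*} [Group G] {x y : G} (h : IsConj x y) : c1 x = c1 y := by
  obtain ⟨c, rfl⟩ := isConj_iff.1 h
  refine Nat.card_congr ⟨fun z => ⟨c * z * c⁻¹, ?_⟩, fun z => ⟨c⁻¹ * z * c, ?_⟩, fun z => Subtype.ext (by simp [mul_assoc]),
    fun z => Subtype.ext (by simp [mul_assoc])⟩
  · have h1 := mem_centralizer_singleton_iff.1 z.2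
    rw [mem_centralizer_singleton_iff]
    calc c * z * c⁻¹ * (c * x * c⁻¹) = c * (z * x) * c⁻¹ := by group
      _ = c * (x * z) * c⁻¹ := by rw [h1]
      _ = _ := by group
  · have h1 := mem_centralizer_singleton_iff.1 z.2
    rw [mem_centralizer_singleton_iff]
    calc c⁻¹ * z * c * x = c⁻¹ * (z * (c * x * c⁻¹)) * c := by group
      _ = c⁻¹ * (c * x * c⁻¹ * z) * c := by rw [h1]
      _ = _ := by group

theorem c2_dvd_left {G : Type*} [Group G] (x y : G) : c2 x y ∣ c1 x := card_dvd_of_le inf_le_left

theorem c2_dvd_right {G : Type*} [Group G] (x y : G) : c2 x y ∣ c1 y := card_dvd_of_le inf_le_right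

theorem c2_one {G : Type*} [Group G] (x : G) : c2 x 1 = c1 x := by
  have h : centralizer ({x} : Set G) ⊓ centralizer ({1} : Set G) = centralizer ({x} : Set G) :=
    inf_eq_left.2 fun g _ => mem_centralizer_singleton_iff.2 (by rw [mul_one, one_mul])
  unfold c2 c1
  rw [h]

/-- both elements are powers -/
theorem c1_le_c2 {G : Type*} [Group G] [Finite G] {g x y : G} {i j : ℕ} (hx : g ^ i = x) (hy : g ^ j = y) :
    c1 g ≤ c2 x y := by
  refine card_le_of_le fun s hs => ?_
  have h : Commute s g := mem_centralizer_singleton_iff.1 hs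
  exact ⟨mem_centralizer_singleton_iff.2 (hx ▸ (h.pow_right i).eq),
    mem_centralizer_singleton_iff.2 (hy ▸ (h.pow_right j).eq)⟩

theorem c1_le_pow {G : Type*} [Group G] [Finite G] (g : G) (i : ℕ) : c1 g ≤ c1 (g ^ i) :=
  card_le_of_le fun _ hs => mem_centralizer_singleton_iff.2
    ((show Commute _ g from mem_centralizer_singleton_iff.1 hs).pow_right i).eq

theorem ord_dvd {G : Type*} [Group G] [Finite G] {H : Subgroup G} {b : G} (hb : b ∈ H) : orderOf b ∣ Nat.card H := by
  rw [← orderOf_mk b hb]
  exact orderOf_dvd_natCard _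

/-- two commuting elements of order three -/
theorem nine_dvd {G : Type*} [Group G] [Finite G] {H : Subgroup G} {r s : G} (hr : r ∈ H) (hs : s ∈ H)
    (h1 : orderOf r = 3) (h2 : s ^ 3 = 1) (hc : Commute r s) (n0 : s ≠ 1) (n1 : s ≠ r) (n2 : s ≠ r * r) :
    9 ∣ Nat.card H := by
  classical
  have : Fact (Nat.Prime 3) := ⟨Nat.prime_three⟩
  have h3 : r ^ 3 = 1 := by rw [← h1, pow_orderOf_eq_one]
  let P : Subgroup G :=
    { carrier := {g | ∃ i j : ℤ, g = r ^ i * s ^ j}
      one_mem' := ⟨0, 0, by simp⟩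
      mul_mem' := by
        rintro _ _ ⟨i, j, rfl⟩ ⟨k, l, rfl⟩
        exact ⟨i + k, j + l, by rw [zpow_add, zpow_add, (hc.zpow_zpow k j).symm.mul_mul_mul_comm]⟩
      inv_mem' := by
        rintro _ ⟨i, j, rfl⟩
        exact ⟨-i, -j, by rw [mul_inv_rev, ← zpow_neg, ← zpow_neg, (hc.zpow_zpow (-i) (-j)).eq]⟩ }
  have hP : IsPGroup 3 P := by
    rintro ⟨_, i, j, rfl⟩
    refine ⟨1, Subtype.ext ?_⟩
    show (r ^ i * s ^ j) ^ 3 ^ 1 = 1
    rw [pow_one, (hc.zpow_zpow i j).mul_pow, ← zpow_natCast, ← zpow_natCast, ← zpow_mul, ← zpow_mul, mul_comm i,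
      mul_comm j, zpow_mul, zpow_mul, zpow_natCast, zpow_natCast, h3, h2, one_zpow, one_zpow, one_mul]
  have hle : P ≤ H := by
    rintro _ ⟨i, j, rfl⟩
    exact H.mul_mem (H.zpow_mem hr i) (H.zpow_mem hs j)
  obtain ⟨n, hn⟩ := IsPGroup.iff_card.1 hP
  have hz : zpowers r ≤ P := by
    rintro _ ⟨i, rfl⟩
    exact ⟨i, 0, by simp⟩
  have hn2 : 2 ≤ n := by
    by_contra hlt
    have h4 : Nat.card P ≤ Nat.card (zpowers r) := by
      rw [hn, Nat.card_zpowers, h1]
      calc 3 ^ n ≤ 3 ^ 1 := Nat.pow_le_pow_right (by norm_num) (by omega)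
        _ = 3 := rfl
    have h5 : s ∈ zpowers r := by
      rw [eq_of_le_of_card_ge hz h4]
      exact ⟨0, 1, by simp⟩
    obtain ⟨i, hi, rfl⟩ := Finset.mem_image.1 ((mem_zpowers_iff_mem_range_orderOf (x := r) (y := s)).1 h5)
    rw [h1, Finset.mem_range] at hi
    interval_cases i
    · exact n0 (pow_zero r)
    · exact n1 (pow_one r)
    · exact n2 (pow_two r)
  exact ((pow_dvd_pow 3 hn2).trans (dvd_of_eq hn.symm)).trans (card_dvd_of_le hle)

variable {E B S : Type*} [Group E] [Group B] [Group S]

/-- a double cover -/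
structure Cov (q : E →* B) (t : E) : Prop where
  surj : Function.Surjective q
  t2 : t * t = 1
  t1 : t ≠ 1
  tc : ∀ e, e * t = t * e
  qt : q t = 1
  ker : ∀ e, q e = 1 → e = 1 ∨ e = t

/-- the lifts of `y` have the square `t` -/
def Sq (q : E →* B) (t : E) (y : B) : Prop := ∀ e, q e = y → e * e = t

variable {q : E →* B} {t : E}

theorem Cov.eq_or (h : Cov q t) {e e' : E} (he : q e = q e') : e = e' ∨ e = e' * t := by
  rcases h.ker (e'⁻¹ * e) (by rw [map_mul, map_inv, he, inv_mul_cancel]) with h1 | h1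
  · exact Or.inl (inv_mul_eq_one.1 h1).symm
  · exact Or.inr (by rw [← h1, mul_inv_cancel_left])

theorem Cov.sq_of (h : Cov q t) {e : E} (he : e * e = t) : Sq q t (q e) := by
  intro e' he'
  rcases h.eq_or he' with rfl | rfl
  · exact he
  · calc e * t * (e * t) = e * (t * e) * t := by group
      _ = e * e * (t * t) := by rw [← h.tc]; group
      _ = t := by rw [h.t2, he, mul_one]

theorem Cov.t_pow (h : Cov q t) {n : ℕ} (hn : Odd n) : t ^ n = t := by
  obtain ⟨m, rfl⟩ := hn
  rw [pow_succ, pow_mul, pow_two, h.t2, one_pow, one_mul]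

theorem Cov.no_swap (h : Cov q t) {c : E} {n : ℕ} (hn : Odd n) (hc : q c ^ n = 1) (d : E) : d * c * d⁻¹ ≠ c * t := by
  intro h1
  have h2 : (d * c * d⁻¹) ^ n = (c * t) ^ n := by rw [h1]
  rw [conj_pow, (show Commute c t from h.tc c).mul_pow, h.t_pow hn] at h2
  rcases h.ker (c ^ n) (by rw [map_pow, hc]) with h3 | h3
  · rw [h3, mul_one, mul_inv_cancel, one_mul] at h2
    exact h.t1 h2.symm
  · rw [h3, h.tc, mul_inv_cancel_right, h.t2] at h2
    exact h.t1 h2

theorem Cov.comm (h : Cov q t) {c d : E} {n : ℕ} (hn : Odd n) (hc : q c ^ n = 1) (hd : q d * q c = q c * q d) :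
    d * c = c * d := by
  rcases h.eq_or (e := d * c * d⁻¹) (e' := c) (by rw [map_mul, map_mul, map_inv, hd, mul_inv_cancel_right]) with h1 | h1
  · exact mul_inv_eq_iff_eq_mul.1 h1
  · exact absurd h1 (h.no_swap hn hc d)

/-- a lift whose `n`-th power is `t` -/
theorem Cov.exists_odd (h : Cov q t) {y : B} {n : ℕ} (hn : Odd n) (hy : y ^ n = 1) : ∃ c, q c = y ∧ c ^ n = t := by
  obtain ⟨c, rfl⟩ := h.surj y
  rcases h.ker (c ^ n) (by rw [map_pow, hy]) with h1 | h1
  · exact ⟨c * t, by rw [map_mul, h.qt, mul_one],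
      by rw [(show Commute c t from h.tc c).mul_pow, h1, one_mul, h.t_pow hn]⟩
  · exact ⟨c, rfl, h1⟩

theorem Cov.card_comap [Finite E] (h : Cov q t) (K : Subgroup B) : Nat.card (K.comap q) = 2 * Nat.card K := by
  have h1 := card_ker_mul (q.comp (K.comap q).subtype)
  have h2 : (q.comp (K.comap q).subtype).range = K := by
    ext y
    constructor
    · rintro ⟨e, rfl⟩
      exact e.2
    · intro hy
      obtain ⟨e, rfl⟩ := h.surj y
      exact ⟨⟨e, hy⟩, rfl⟩
  have h3 : Nat.card (q.comp (K.comap q).subtype).ker = 2 := by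
    rw [Nat.card_eq_two_iff]
    refine ⟨1, ⟨⟨t, by rw [mem_comap, h.qt]; exact K.one_mem⟩, h.qt⟩, fun h4 => h.t1 (congrArg (fun z => z.1.1) h4).symm, ?_⟩
    ext e
    simp only [Set.mem_insert_iff, Set.mem_singleton_iff, Set.mem_univ, iff_true]
    exact (h.ker e.1.1 e.2).imp (fun h5 => Subtype.ext (Subtype.ext h5)) fun h5 => Subtype.ext (Subtype.ext h5)
  rw [← h1, h2, h3]

/-- centralizers in the quotient -/
theorem Cov.c2_dvd [Finite E] (h : Cov q t) {a : E} {n : ℕ} (hn : Odd n) (ha : q a ^ n = 1) (c : E) :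
    c2 (q a) (q c) ∣ c2 a c ∧ ((∀ d, d * c * d⁻¹ ≠ c * t) → 2 * c2 (q a) (q c) = c2 a c) := by
  set P := (centralizer ({q a} : Set B) ⊓ centralizer ({q c} : Set B)).comap q with hP
  have hPc : Nat.card P = 2 * c2 (q a) (q c) := h.card_comap _
  have hle : centralizer ({a} : Set E) ⊓ centralizer ({c} : Set E) ≤ P := fun d hd =>
    ⟨mem_centralizer_singleton_iff.2 (by rw [← map_mul, mem_centralizer_singleton_iff.1 hd.1, map_mul]),
      mem_centralizer_singleton_iff.2 (by rw [← map_mul, mem_centralizer_singleton_iff.1 hd.2, map_mul])⟩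
  have hor : ∀ d ∈ P, d * a = a * d ∧ (d * c * d⁻¹ = c ∨ d * c * d⁻¹ = c * t) := fun d hd =>
    ⟨h.comm hn ha (mem_centralizer_singleton_iff.1 hd.1), h.eq_or (by
      rw [map_mul, map_mul, map_inv, mem_centralizer_singleton_iff.1 hd.2, mul_inv_cancel_right])⟩
  have heq : (∀ d ∈ P, d * c * d⁻¹ ≠ c * t) → 2 * c2 (q a) (q c) = c2 a c := fun h1 => by
    have h2 : P = centralizer ({a} : Set E) ⊓ centralizer ({c} : Set E) := le_antisymm (fun d hd =>
      ⟨mem_centralizer_singleton_iff.2 (hor d hd).1, mem_centralizer_singleton_iff.2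
        (mul_inv_eq_iff_eq_mul.1 ((hor d hd).2.resolve_right (h1 d hd)))⟩) hle
    rw [← hPc, h2]
  refine ⟨?_, fun h1 => heq fun d _ => h1 d⟩
  by_cases h1 : ∀ d ∈ P, d * c * d⁻¹ ≠ c * t
  · exact Dvd.intro_left 2 (heq h1)
  · push Not at h1
    obtain ⟨d, hd, hdc⟩ := h1
    have h2 : ((centralizer ({a} : Set E) ⊓ centralizer ({c} : Set E)).subgroupOf P).index = 2 := by
      rw [index_eq_two_iff]
      refine ⟨⟨d, hd⟩, fun b => ?_⟩
      have hb := hor b b.2
      have hbd := hor (b * d) (P.mul_mem b.2 hd)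
      have h3 : ∀ e : P, e ∈ (centralizer ({a} : Set E) ⊓ centralizer ({c} : Set E)).subgroupOf P ↔
          (e : E) * c * (e : E)⁻¹ = c := fun e =>
        ⟨fun he => mul_inv_eq_iff_eq_mul.2 (mem_centralizer_singleton_iff.1 he.2), fun he =>
          ⟨mem_centralizer_singleton_iff.2 (hor e e.2).1, mem_centralizer_singleton_iff.2 (mul_inv_eq_iff_eq_mul.1 he)⟩⟩
      have h4 : (b : E) * d * c * ((b : E) * d)⁻¹ = (b : E) * c * (b : E)⁻¹ * t := by
        calc (b : E) * d * c * ((b : E) * d)⁻¹ = b * (d * c * d⁻¹) * (b : E)⁻¹ := by group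
          _ = b * c * (t * (b : E)⁻¹) := by rw [hdc]; group
          _ = _ := by rw [← h.tc]; group
      rw [h3, h3]
      show Xor ((b : E) * d * c * ((b : E) * d)⁻¹ = c) _
      rw [h4]
      have h5 : c * t ≠ c := fun h6 => h.t1 (mul_eq_left.1 h6)
      rcases hb.2 with h6 | h6
      · rw [h6]
        exact Or.inr ⟨rfl, h5⟩
      · rw [h6, mul_assoc, h.t2, mul_one]
        exact Or.inl ⟨rfl, h5⟩
    have h3 := card_mul_index ((centralizer ({a} : Set E) ⊓ centralizer ({c} : Set E)).subgroupOf P)
    rw [h2, Nat.card_congr (subgroupOfEquivOfLe hle).toEquiv, hPc, mul_comm] at h3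
    exact dvd_of_eq (Nat.eq_of_mul_eq_mul_left (by norm_num) h3).symm

/-- the element as an element of the centralizer -/
def ce (a : E) {c : E} (h : c * a = a * c) : centralizer ({a} : Set E) := ⟨c, mem_centralizer_singleton_iff.2 h⟩

/-- a frame -/
structure Fr (q : E →* B) (t : E) (p : ℕ) (a : E) (k : centralizer ({a} : Set E) →* S) (τ : S) : Prop where
  cov : Cov q t
  prime : p.Prime
  odd : Odd p
  ord : orderOf a = p
  kt : k (ce a (cov.tc a).symm) = τ
  ker : ∀ d, k d = 1 → (d : E) ∈ zpowers a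
  rng : ∀ s : S, s * τ = τ * s → ∃ d, k d = s

variable {p : ℕ} {a : E} {k : centralizer ({a} : Set E) →* S} {τ : S}

theorem Fr.qa (F : Fr q t p a k τ) : q a ^ p = 1 := by rw [← map_pow, ← F.ord, pow_orderOf_eq_one, map_one]

theorem Fr.comm (F : Fr q t p a k τ) {c : E} (h : q c * q a = q a * q c) : c * a = a * c :=
  (F.cov.comm F.odd F.qa h)

theorem Fr.k_comm (F : Fr q t p a k τ) (d : centralizer ({a} : Set E)) : k d * τ = τ * k d := by
  rw [← F.kt, ← map_mul, ← map_mul]
  exact congrArg k (Subtype.ext (F.cov.tc d))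

theorem Fr.ker_pow (F : Fr q t p a k τ) {d : centralizer ({a} : Set E)} (h : k d = 1) : d ^ p = 1 := by
  obtain ⟨i, hi⟩ := mem_zpowers_iff.1 (F.ker d h)
  apply Subtype.ext
  rw [coe_pow, ← hi, ← zpow_natCast, ← zpow_mul, mul_comm, zpow_mul, zpow_natCast, ← F.ord, pow_orderOf_eq_one, one_zpow]
  rfl

theorem Fr.pow_eq_one (F : Fr q t p a k τ) {d : centralizer ({a} : Set E)} {n : ℕ} (hn : d ^ n = 1) (hp : ¬ p ∣ n)
    (h : k d = 1) : d = 1 := by
  have h1 := orderOf_dvd_of_pow_eq_one hn
  have h2 := orderOf_dvd_of_pow_eq_one (F.ker_pow h)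
  rcases (Nat.dvd_prime F.prime).1 h2 with h3 | h3
  · exact orderOf_eq_one_iff.1 h3
  · exact absurd (h3 ▸ h1) hp

theorem Fr.not_dvd_two (F : Fr q t p a k τ) : ¬ p ∣ 2 := fun h => by
  have h1 := (Nat.prime_dvd_prime_iff_eq F.prime Nat.prime_two).1 h
  have h2 := F.odd
  rw [h1] at h2
  exact absurd h2 (by decide)

theorem Fr.τ_sq (F : Fr q t p a k τ) : τ * τ = 1 := by
  rw [← F.kt, ← map_mul, ← map_one k]
  exact congrArg k (Subtype.ext F.cov.t2)

theorem Fr.τ_ne (F : Fr q t p a k τ) : τ ≠ 1 := fun h =>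
  F.cov.t1 (congrArg Subtype.val (F.pow_eq_one (d := ce a (F.cov.tc a).symm) (n := 2)
    (Subtype.ext ((pow_two t).trans F.cov.t2)) F.not_dvd_two (F.kt.trans h)))

theorem Fr.τ_ord (F : Fr q t p a k τ) : orderOf τ = 2 :=
  orderOf_eq_prime ((pow_two τ).trans F.τ_sq) F.τ_ne

/-- the orders -/
theorem Fr.ord_k (F : Fr q t p a k τ) {d : centralizer ({a} : Set E)} {n : ℕ} (hn : d ^ n = 1) (hp : ¬ p ∣ n) :
    orderOf (k d) = orderOf (d : E) := by
  rw [orderOf_coe]
  refine Nat.dvd_antisymm (orderOf_map_dvd k d) (orderOf_dvd_of_pow_eq_one ?_)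
  exact F.pow_eq_one (n := n) (by rw [← pow_mul, mul_comm, pow_mul, hn, one_pow]) hp
    (by rw [map_pow, pow_orderOf_eq_one])

theorem Fr.c2_dvd [Finite E] (F : Fr q t p a k τ) (d : centralizer ({a} : Set E)) : c2 a (d : E) ∣ p * c2 τ (k d) := by
  let φ : ↥(centralizer ({a} : Set E) ⊓ centralizer ({(d : E)} : Set E)) →* S := k.comp (inclusion inf_le_left)
  rw [c2, ← card_ker_mul φ]
  refine mul_dvd_mul ?_ (card_dvd_of_le ?_)
  · rw [← F.ord, ← Nat.card_zpowers,
      Nat.card_congr (φ.ker.equivMapOfInjective (Subgroup.subtype _) (subtype_injective _)).toEquiv]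
    refine card_dvd_of_le ?_
    rintro _ ⟨e, he, rfl⟩
    exact F.ker _ he
  · rintro _ ⟨e, rfl⟩
    refine ⟨mem_centralizer_singleton_iff.2 (F.k_comm _), mem_centralizer_singleton_iff.2 ?_⟩
    show k _ * k d = k d * k _
    rw [← map_mul, ← map_mul]
    exact congrArg k (Subtype.ext (mem_centralizer_singleton_iff.1 e.2.2))

/-- **the general bound** -/
theorem Fr.dvd [Finite E] (F : Fr q t p a k τ) (d : centralizer ({a} : Set E)) :
    c2 (q a) (q d) ∣ p * c2 τ (k d) :=
  (F.cov.c2_dvd F.odd F.qa d).1.trans (F.c2_dvd d)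

theorem Fr.top [Finite E] (F : Fr q t p a k τ) : 2 * c1 (q a) ∣ p * c1 τ := by
  have h1 := (F.cov.c2_dvd F.odd F.qa 1).2 (F.cov.no_swap (n := 1) odd_one (by simp))
  have h2 := F.c2_dvd 1
  rw [map_one, c2_one] at h2
  rw [map_one, c2_one] at h1
  rw [h1]
  exact h2

/-- **elements of odd order** -/
theorem Fr.odd_case [Finite E] (F : Fr q t p a k τ) {y : B} {n : ℕ} (hn : n.Prime) (ho : Odd n) (hp : p ≠ n)
    (hy : orderOf y = n) (hc : y * q a = q a * y) : ∃ s : S, orderOf s = 2 * n ∧ 2 * c2 (q a) y ∣ p * c1 s := by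
  have hy1 : y ^ n = 1 := by rw [← hy, pow_orderOf_eq_one]
  obtain ⟨c, rfl, hct⟩ := F.cov.exists_odd ho hy1
  have h1 : c ^ (2 * n) = 1 := by rw [mul_comm, pow_mul, hct, pow_two, F.cov.t2]
  have h2 : ¬ p ∣ 2 * n := fun h => ((Nat.Prime.dvd_mul F.prime).1 h).elim F.not_dvd_two fun h3 =>
    hp ((Nat.prime_dvd_prime_iff_eq F.prime hn).1 h3)
  refine ⟨k (ce a (F.comm hc)), ?_, ?_⟩
  · rw [F.ord_k (n := 2 * n) (Subtype.ext h1) h2]
    show orderOf c = _
    refine orderOf_eq_of_pow_and_pow_div_prime (Nat.mul_pos (by norm_num) hn.pos) h1 fun r hr hd => ?_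
    rcases (Nat.Prime.dvd_mul hr).1 hd with h3 | h3
    · rw [(Nat.prime_dvd_prime_iff_eq hr Nat.prime_two).1 h3, Nat.mul_div_cancel_left _ (by norm_num), hct]
      exact F.cov.t1
    · rw [(Nat.prime_dvd_prime_iff_eq hr hn).1 h3, Nat.mul_div_cancel _ hn.pos]
      intro h4
      have h5 : orderOf (q c) ∣ 2 := orderOf_dvd_of_pow_eq_one (by rw [← map_pow, h4, map_one])
      rw [hy, Nat.prime_dvd_prime_iff_eq hn Nat.prime_two] at h5
      rw [h5] at ho
      exact absurd ho (by decide)
  · rw [(F.cov.c2_dvd F.odd F.qa c).2 (F.cov.no_swap ho hy1)]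
    exact (F.c2_dvd (ce a (F.comm hc))).trans (mul_dvd_mul_left _ (c2_dvd_right _ _))

/-- **elements over an involution whose lifts have order four** -/
theorem Fr.sq_case [Finite E] (F : Fr q t p a k τ) {y : B} {m : ℕ} (hm : 0 < m) (hp : ¬ p ∣ m) (hy : orderOf y = 2 * m)
    (hs : Sq q t (y ^ m)) (hc : y * q a = q a * y) :
    ∃ s : S, orderOf s = 4 * m ∧ s ^ (2 * m) = τ ∧ c2 (q a) y ∣ p * c1 s := by
  obtain ⟨c, rfl⟩ := F.cov.surj y
  have h0 : c ^ (2 * m) = t := by rw [two_mul, pow_add]; exact hs _ (map_pow q c m)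
  have h1 : c ^ (4 * m) = 1 := by rw [show 4 * m = 2 * m + 2 * m by ring, pow_add, h0, F.cov.t2]
  have h2 : ¬ p ∣ 4 * m := fun h => ((Nat.Prime.dvd_mul F.prime).1 h).elim
    (fun h3 => F.not_dvd_two (F.prime.dvd_of_dvd_pow (show p ∣ 2 ^ 2 from h3))) hp
  refine ⟨k (ce a (F.comm hc)), ?_, ?_, (F.dvd (ce a (F.comm hc))).trans (mul_dvd_mul_left _ (c2_dvd_right _ _))⟩
  · rw [F.ord_k (n := 4 * m) (Subtype.ext h1) h2]
    show orderOf c = _
    have h3 : 2 * m ∣ orderOf c := hy ▸ orderOf_map_dvd q c
    obtain ⟨j, hj⟩ := h3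
    have h4 := orderOf_dvd_of_pow_eq_one h1
    rw [hj, show 4 * m = 2 * m * 2 by ring] at h4
    rcases (Nat.dvd_prime Nat.prime_two).1 (Nat.dvd_of_mul_dvd_mul_left (by omega) h4) with rfl | rfl
    · rw [mul_one] at hj
      rw [← hj, pow_orderOf_eq_one] at h0
      exact absurd h0.symm F.cov.t1
    · rw [hj]
      ring
  · rw [← map_pow]
    exact (congrArg k (Subtype.ext h0)).trans F.kt

/-- an involution which is central modulo `τ` -/
theorem Fr.central (F : Fr q t p a k τ) {v : S} (hv : v * v = 1) (h1 : v ≠ 1) (h2 : v ≠ τ) (h3 : v * τ = τ * v)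
    (h4 : ∀ s, s * τ = τ * s → s * v * s⁻¹ = v ∨ s * v * s⁻¹ = v * τ) :
    ∃ w : B, orderOf w = 2 ∧ ∀ y, y * q a = q a * y → y * w = w * y := by
  obtain ⟨d0, hd0⟩ := F.rng v h3
  have hvp : v ^ p = v := by
    obtain ⟨m, hm⟩ := F.odd
    rw [hm, pow_succ, pow_mul, pow_two, hv, one_pow, one_mul]
  obtain ⟨d, hd, hdd⟩ : ∃ d, k d = v ∧ d * d = 1 := ⟨d0 ^ p, by rw [map_pow, hd0, hvp], by
    rw [← (Commute.refl d0).mul_pow]
    exact F.ker_pow (by rw [map_mul, hd0, hv])⟩
  have hT : ∀ e : centralizer ({a} : Set E), e * ce a (F.cov.tc a).symm = ce a (F.cov.tc a).symm * e :=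
    fun e => Subtype.ext (F.cov.tc e)
  have key : ∀ e e' : centralizer ({a} : Set E), e * e = 1 → e' * e' = 1 → k e = k e' → e = e' := by
    intro e e' he he' hk
    have h5 : k (e'⁻¹ * e) = 1 := by rw [map_mul, map_inv, hk, inv_mul_cancel]
    obtain ⟨i, hi⟩ := mem_zpowers_iff.1 (F.ker _ h5)
    have h6 : (e'⁻¹ * e) * e' = e' * (e'⁻¹ * e) := by
      apply Subtype.ext
      show ((e'⁻¹ * e : centralizer ({a} : Set E)) : E) * e' = e' * ((e'⁻¹ * e : centralizer ({a} : Set E)) : E)
      rw [← hi]
      exact ((show Commute (e' : E) a from mem_centralizer_singleton_iff.1 e'.2).zpow_right i).symm.eq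
    have h7 : (e'⁻¹ * e) ^ 2 = 1 := by
      have h8 : e = e' * (e'⁻¹ * e) := by group
      generalize e'⁻¹ * e = z at h6 h8
      rw [h8, mul_assoc, ← mul_assoc z, h6, ← mul_assoc, ← mul_assoc, he', one_mul] at he
      rw [pow_two, he]
    exact (inv_mul_eq_one.1 (F.pow_eq_one h7 F.not_dvd_two h5)).symm
  refine ⟨q d, orderOf_eq_prime (by rw [pow_two, ← map_mul, ← coe_mul, hdd]; exact map_one q) fun h5 => ?_,
    fun y hy => ?_⟩
  · rcases F.cov.ker _ h5 with h6 | h6
    · exact h1 (by rw [← hd, show d = 1 from Subtype.ext h6, map_one])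
    · exact h2 (by rw [← hd, ← F.kt]; exact congrArg k (Subtype.ext h6))
  · obtain ⟨c, rfl⟩ := F.cov.surj y
    have h5 : ce a (F.comm hy) * d * (ce a (F.comm hy))⁻¹ * (ce a (F.comm hy) * d * (ce a (F.comm hy))⁻¹) = 1 := by
      calc _ = ce a (F.comm hy) * (d * d) * (ce a (F.comm hy))⁻¹ := by group
        _ = 1 := by rw [hdd, mul_one, mul_inv_cancel]
    rw [← mul_inv_eq_iff_eq_mul, ← map_inv, ← map_mul, ← map_mul]
    rcases h4 _ (F.k_comm (ce a (F.comm hy))) with h6 | h6
    · have h7 := key _ d h5 hdd (by rw [map_mul, map_mul, map_inv, hd, h6])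
      exact congrArg (fun z : centralizer ({a} : Set E) => q z) h7
    · have h7 := key _ (d * ce a (F.cov.tc a).symm) h5 (by
        rw [mul_assoc, ← mul_assoc _ d, ← hT d, ← mul_assoc, ← mul_assoc, hdd, one_mul]
        exact Subtype.ext F.cov.t2) (by rw [map_mul, map_mul, map_inv, hd, h6, map_mul, hd, F.kt])
      refine (congrArg (fun z : centralizer ({a} : Set E) => q z) h7).trans ?_
      show q (d * t) = q d
      rw [map_mul, F.cov.qt, mul_one]

end Cfsg.Agent.TAB.B.D

private theorem dce_f0461877fad5 : _root_.True := by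
  try have : _root_.True := by simp only [_root_.Cfsg.Agent.TAB.B.D.ce.congr_simp]
  try have : _root_.True := by simp only [_root_.Cfsg.Agent.TAB.B.D.c2.eq_1]
  exact _root_.True.intro
end

-- part: BMx/FrBaer
section
prune_inst 0x1000310574000000001c0002e0005ec3930000920008800024040204068d8c60a001a821f230011318300c4c6039004811000020020000000a000c00011900800880c000e3c90104260086811081190c00000000000000000000000000000000004010000
set_option linter.all false
open scoped Cfsg.Agent.FastGrp

/-!
# Baer coordinates on an extraspecial group of odd exponent (helper88, for S5527)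

`a 0, …, a (m-1)` are elements of order dividing `p` whose commutators are powers of the central element `y = a l`.
`bf u` is the product of the powers `a i ^ u i`, corrected by a power of `y` such that automorphisms become linear.
-/

set_option autoImplicit false
set_option linter.unusedSectionVars false

namespace Cfsg.Agent.BMx.Baer

open Matrix

variable {G : Type*} [Group G] {p : ℕ}

/-- powers with exponents modulo `p` -/
def pw (x : G) (c : ZMod p) : G := x ^ c.val

section pw

variable [NeZero p] [Fact (1 < p)]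

theorem pw_zero (x : G) : pw x (0 : ZMod p) = 1 := by rw [pw, ZMod.val_zero, pow_zero]

theorem pw_one (x : G) : pw x (1 : ZMod p) = x := by rw [pw, ZMod.val_one, pow_one]

theorem pw_add {x : G} (hx : x ^ p = 1) (c d : ZMod p) : pw x (c + d) = pw x c * pw x d := by
  rw [pw, pw, pw, ZMod.val_add, ← pow_eq_pow_mod _ hx, pow_add]

theorem pw_pw {x : G} (hx : x ^ p = 1) (c d : ZMod p) : pw (pw x c) d = pw x (c * d) := by
  rw [pw, pw, pw, ZMod.val_mul, ← pow_eq_pow_mod _ hx, pow_mul]

theorem pw_eq_one (hp : p.Prime) {x : G} (hx : x ^ p = 1) (h1 : x ≠ 1) {c : ZMod p} (h : pw x c = 1) : c = 0 := by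
  have := Fact.mk hp
  have h2 : orderOf x = p := orderOf_eq_prime hx h1
  have h3 := orderOf_dvd_of_pow_eq_one h
  rw [h2] at h3
  exact (ZMod.val_eq_zero c).1 (Nat.eq_zero_of_dvd_of_lt h3 (ZMod.val_lt c))

theorem conj_pw (s x : G) (c : ZMod p) : s⁻¹ * pw x c * s = pw (s⁻¹ * x * s) c := by
  have h := conj_pow (i := c.val) (a := s⁻¹) (b := x)
  rw [inv_inv] at h
  exact h.symm

theorem swap_pow {x z y : G} (hy : y ^ p = 1) (hx : x * y = y * x) {c : ZMod p} (h : x * z = pw y c * z * x) (n : ℕ) :
    x ^ n * z = pw y (c * (n : ZMod p)) * z * x ^ n := by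
  induction n with
  | zero => simp [pw_zero]
  | succ n ih =>
    have h1 : x * pw y (c * (n : ZMod p)) = pw y (c * (n : ZMod p)) * x := ((show Commute x y from hx).pow_right _).eq
    rw [pow_succ', mul_assoc, ih, ← mul_assoc, ← mul_assoc, h1, mul_assoc (pw y _), h, Nat.cast_succ, mul_add, mul_one,
      pw_add hy]
    simp only [mul_assoc]

theorem swap_pw {x z y : G} (hy : y ^ p = 1) (hx : x * y = y * x) {c : ZMod p} (h : x * z = pw y c * z * x)
    (u : ZMod p) : pw x u * z = pw y (c * u) * z * pw x u := by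
  have h1 := swap_pow hy hx h u.val
  rwa [ZMod.natCast_zmod_val] at h1

end pw

/-- ordered products of powers -/
def nf {m : ℕ} (a : Fin m → G) (u : Fin m → ZMod p) : G := (List.ofFn fun i => pw (a i) (u i)).prod

theorem nf_succ {m : ℕ} (a : Fin (m + 1) → G) (u : Fin (m + 1) → ZMod p) :
    nf a u = pw (a 0) (u 0) * nf (fun i => a i.succ) (fun i => u i.succ) := by
  rw [nf, List.ofFn_succ, List.prod_cons]; rfl

theorem nf_comm {m : ℕ} {a : Fin m → G} {y : G} (h : ∀ i, a i * y = y * a i) (u : Fin m → ZMod p) :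
    Commute (nf a u) y := by
  refine Commute.list_prod_left _ _ fun x hx => ?_
  obtain ⟨i, rfl⟩ := (List.mem_ofFn' _ _).1 hx
  exact (show Commute (a i) y from h i).pow_left _

/-- the strictly lower triangular part -/
def low {m : ℕ} (F : Matrix (Fin m) (Fin m) (ZMod p)) : Matrix (Fin m) (Fin m) (ZMod p) :=
  Matrix.of fun i j => if j < i then F i j else 0

section nf

variable [NeZero p] [Fact (1 < p)]

theorem nf_swap {y z : G} (hy : y ^ p = 1) : ∀ {m : ℕ} (a : Fin m → G) (c u : Fin m → ZMod p),
    (∀ i, a i * y = y * a i) → (∀ i, a i * z = pw y (c i) * z * a i) →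
      nf a u * z = pw y (∑ i, c i * u i) * z * nf a u := by
  intro m
  induction m with
  | zero => intro a c u _ _; simp [nf, pw_zero]
  | succ m ih =>
    intro a c u h1 h2
    have h3 := ih (fun i => a i.succ) (fun i => c i.succ) (fun i => u i.succ) (fun i => h1 _) (fun i => h2 _)
    have h4 := swap_pw hy (h1 0) (h2 0) (u 0)
    have h5 : ∀ d : ZMod p, pw (a 0) (u 0) * pw y d = pw y d * pw (a 0) (u 0) := fun d =>
      ((show Commute (a 0) y from h1 0).pow_pow _ _).eq
    rw [nf_succ, mul_assoc, h3, ← mul_assoc, ← mul_assoc, h5, mul_assoc (pw y _), h4, Fin.sum_univ_succ,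
      add_comm (c 0 * u 0), pw_add hy]
    simp only [mul_assoc]

theorem low_succ {m : ℕ} (F : Matrix (Fin (m + 1)) (Fin (m + 1)) (ZMod p)) (u v : Fin (m + 1) → ZMod p) :
    u ⬝ᵥ low F *ᵥ v = (∑ i : Fin m, F i.succ 0 * v 0 * u i.succ) +
      (fun i => u i.succ) ⬝ᵥ low (Matrix.of fun i j => F i.succ j.succ) *ᵥ (fun i => v i.succ) := by
  simp only [dotProduct, mulVec, low, Matrix.of_apply, Fin.sum_univ_succ, Fin.not_lt_zero, if_false, zero_mul,
    Finset.sum_const_zero, Fin.succ_pos, if_true, Fin.succ_lt_succ_iff, mul_add, Finset.sum_add_distrib,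
    zero_add, mul_zero]
  congr 1
  exact Finset.sum_congr rfl fun i _ => by ring

theorem nf_mul {y : G} (hy : y ^ p = 1) : ∀ {m : ℕ} (a : Fin m → G) (F : Matrix (Fin m) (Fin m) (ZMod p))
    (u v : Fin m → ZMod p), (∀ i, a i ^ p = 1) → (∀ i, a i * y = y * a i) →
    (∀ i j, j < i → a i * a j = pw y (F i j) * a j * a i) →
      nf a u * nf a v = pw y (u ⬝ᵥ low F *ᵥ v) * nf a (u + v) := by
  intro m
  induction m with
  | zero => intro a F u v _ _ _; simp [nf, pw_zero]
  | succ m ih =>
    intro a F u v h0 h1 h2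
    have h3 := ih (fun i => a i.succ) (Matrix.of fun i j => F i.succ j.succ) (fun i => u i.succ) (fun i => v i.succ)
      (fun i => h0 _) (fun i => h1 _) (fun i j hij => h2 _ _ (Fin.succ_lt_succ_iff.2 hij))
    have h4 := nf_swap (z := pw (a 0) (v 0)) hy (fun i => a i.succ) (fun i => F i.succ 0 * v 0) (fun i => u i.succ) (fun i => h1 _)
      (fun i => by
        have k1 := h2 i.succ 0 (Fin.succ_pos i)
        have k2 : a 0 * a i.succ = pw y (-F i.succ 0) * a i.succ * a 0 := by
          rw [mul_assoc, k1, ← mul_assoc, ← mul_assoc, ← pw_add hy, neg_add_cancel, pw_zero, one_mul]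
        have k3 := swap_pw hy (h1 0) k2 (v 0)
        rw [mul_assoc, k3, ← mul_assoc, ← mul_assoc, ← pw_add hy, neg_mul, add_neg_cancel, pw_zero, one_mul])
    have h5 : ∀ (c d : ZMod p), pw (a 0) c * pw y d = pw y d * pw (a 0) c := fun c d =>
      ((show Commute (a 0) y from h1 0).pow_pow _ _).eq
    rw [nf_succ, nf_succ, nf_succ, low_succ, pw_add hy, Pi.add_apply, pw_add (h0 0)]
    calc _ = pw (a 0) (u 0) * (nf (fun i => a i.succ) (fun i => u i.succ) * pw (a 0) (v 0)) *
          nf (fun i => a i.succ) (fun i => v i.succ) := by simp only [mul_assoc]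
      _ = pw y (∑ i : Fin m, F i.succ 0 * v 0 * u i.succ) * (pw (a 0) (u 0) * pw (a 0) (v 0)) *
          (nf (fun i => a i.succ) (fun i => u i.succ) * nf (fun i => a i.succ) (fun i => v i.succ)) := by
        rw [h4, ← mul_assoc, ← mul_assoc, h5]; simp only [mul_assoc]
      _ = _ := by
        rw [h3, ← pw_add (h0 0), ← mul_assoc, mul_assoc (pw y _), h5, pw_add (h0 0)]
        simp only [mul_assoc]
        rfl

theorem nf_single : ∀ {m : ℕ} (a : Fin m → G) (i : Fin m) (c : ZMod p), nf a (Pi.single i c) = pw (a i) c := by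
  intro m
  induction m with
  | zero => intro a i; exact i.elim0
  | succ m ih =>
    intro a i c
    have h0 : ∀ {k : ℕ} (b : Fin k → G), nf b (0 : Fin k → ZMod p) = 1 := by
      intro k b
      refine List.prod_eq_one fun x hx => ?_
      obtain ⟨j, rfl⟩ := (List.mem_ofFn' _ _).1 hx
      exact pw_zero _
    rw [nf_succ]
    refine Fin.cases ?_ (fun i => ?_) i
    · have e : (fun i : Fin m => (Pi.single 0 c : Fin (m + 1) → ZMod p) i.succ) = 0 := by
        funext j; simp
      rw [e, h0, mul_one, Pi.single_eq_same]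
    · have e : (fun j : Fin m => (Pi.single i.succ c : Fin (m + 1) → ZMod p) j.succ) = Pi.single i c := by
        funext j; simp [Pi.single_apply]
      rw [e, ih, Pi.single_eq_of_ne (Fin.succ_ne_zero i).symm, pw_zero, one_mul]

end nf

/-- the numerical data: commutator matrix `F`, linear shift `c`, `h = 1/2`, the index `l` of the centre, and a matrix
`R` inverting the form outside the centre -/
structure Num (p m : ℕ) where
  /-- commutators -/
  F : Matrix (Fin m) (Fin m) (ZMod p)
  /-- shift -/
  c : Fin m → ZMod p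
  /-- one half -/
  h : ZMod p
  /-- index of the centre -/
  l : Fin m
  /-- inverse of the form -/
  R : Matrix (Fin m) (Fin m) (ZMod p)

variable {m : ℕ}

/-- the alternating form -/
def Num.Bm (D : Num p m) : Matrix (Fin m) (Fin m) (ZMod p) := low D.F - (low D.F)ᵀ

/-- the exponent of the correction -/
def Num.q (D : Num p m) (u : Fin m → ZMod p) : ZMod p := D.c ⬝ᵥ u + D.h * (u ⬝ᵥ low D.F *ᵥ u)

/-- the numerical conditions -/
def Num.Ok (D : Num p m) : Prop :=
  D.h + D.h = 1 ∧ D.c D.l = 0 ∧ (∀ i, low D.F i D.l = 0 ∧ low D.F D.l i = 0) ∧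
    ∀ i j, (D.Bm * D.R) i j = if i = j ∧ i ≠ D.l then 1 else 0

/-- the relations -/
structure Rel (D : Num p m) (a : Fin m → G) : Prop where
  prime : p.Prime
  ok : D.Ok
  pow : ∀ i, a i ^ p = 1
  ne : a D.l ≠ 1
  cen : ∀ i, a i * a D.l = a D.l * a i
  com : ∀ i j, j < i → a i * a j = pw (a D.l) (D.F i j) * a j * a i

/-- Baer coordinates -/
def bf (D : Num p m) (a : Fin m → G) (u : Fin m → ZMod p) : G := nf a u * pw (a D.l) (D.q u)

/-- conjugation by `s` is the linear map `M` -/
def Act (D : Num p m) (a : Fin m → G) (s : G) (M : Matrix (Fin m) (Fin m) (ZMod p)) : Prop :=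
  ∀ u, s⁻¹ * bf D a u * s = bf D a (u ᵥ* M)

/-- the numerical condition on a matrix: similitude with multiplier `μ` -/
def Num.Sim (D : Num p m) (M : Matrix (Fin m) (Fin m) (ZMod p)) (μ : ZMod p) : Prop :=
  (∀ j, M D.l j = if j = D.l then μ else 0) ∧ ∀ i j, (M * D.Bm * Mᵀ) i j = μ * D.Bm i j

variable [NeZero p] [Fact (1 < p)] {D : Num p m} {a : Fin m → G}

theorem Num.Ok.low_l (h : D.Ok) (u : Fin m → ZMod p) (b : ZMod p) :
    u ⬝ᵥ low D.F *ᵥ Pi.single D.l b = 0 ∧ Pi.single D.l b ⬝ᵥ low D.F *ᵥ u = 0 := by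
  constructor
  · have e : low D.F *ᵥ Pi.single D.l b = 0 := by
      funext i
      rw [mulVec, dotProduct_single, (h.2.2.1 i).1, zero_mul]; rfl
    rw [e, dotProduct_zero]
  · rw [single_dotProduct, mulVec, dotProduct]
    rw [Finset.sum_eq_zero fun i _ => by rw [(h.2.2.1 i).2, zero_mul], mul_zero]

theorem Bm_eq (D : Num p m) (u v : Fin m → ZMod p) :
    u ⬝ᵥ D.Bm *ᵥ v = u ⬝ᵥ low D.F *ᵥ v - v ⬝ᵥ low D.F *ᵥ u := by
  rw [Num.Bm, sub_mulVec, dotProduct_sub, mulVec_transpose, dotProduct_comm u (v ᵥ* _), ← dotProduct_mulVec]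

theorem Bm_self (D : Num p m) (u : Fin m → ZMod p) : u ⬝ᵥ D.Bm *ᵥ u = 0 := by rw [Bm_eq, sub_self]

theorem Num.Ok.Bm_l (h : D.Ok) (u : Fin m → ZMod p) (b : ZMod p) :
    u ⬝ᵥ D.Bm *ᵥ Pi.single D.l b = 0 ∧ Pi.single D.l b ⬝ᵥ D.Bm *ᵥ u = 0 := by
  rw [Bm_eq, Bm_eq, (h.low_l u b).1, (h.low_l u b).2, sub_self]
  exact ⟨rfl, rfl⟩

theorem Rel.nf_y (H : Rel D a) (u : Fin m → ZMod p) (c : ZMod p) : nf a u * pw (a D.l) c = pw (a D.l) c * nf a u :=
  ((nf_comm H.cen u).pow_right _).eq

theorem Rel.nf_add_l (H : Rel D a) (u : Fin m → ZMod p) (b : ZMod p) :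
    nf a (u + Pi.single D.l b) = nf a u * pw (a D.l) b := by
  have h := nf_mul (H.pow D.l) a D.F u (Pi.single D.l b) H.pow H.cen H.com
  rw [(H.ok.low_l u b).1, pw_zero, one_mul, nf_single] at h
  exact h.symm

theorem Rel.bf_add_l (H : Rel D a) (u : Fin m → ZMod p) (b : ZMod p) :
    bf D a (u + Pi.single D.l b) = bf D a u * pw (a D.l) b := by
  have e : D.q (u + Pi.single D.l b) = D.q u := by
    rw [Num.q, Num.q, dotProduct_add, dotProduct_single, H.ok.2.1, zero_mul, add_zero, mulVec_add, dotProduct_add,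
      (H.ok.low_l _ b).1, add_zero, add_dotProduct, (H.ok.low_l _ b).2, add_zero]
  rw [bf, bf, e, H.nf_add_l, mul_assoc, mul_assoc, ← pw_add (H.pow _), ← pw_add (H.pow _), add_comm]

/-- **the multiplication law** -/
theorem Rel.bf_mul (H : Rel D a) (u v : Fin m → ZMod p) :
    bf D a u * bf D a v = bf D a (u + v + Pi.single D.l (D.h * (u ⬝ᵥ D.Bm *ᵥ v))) := by
  have h := nf_mul (H.pow D.l) a D.F u v H.pow H.cen H.com
  rw [H.bf_add_l, bf, bf, bf, mul_assoc, ← mul_assoc (pw _ _), ← H.nf_y, ← mul_assoc, ← mul_assoc, h, ← H.nf_y,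
    mul_assoc, mul_assoc, mul_assoc, ← pw_add (H.pow _), ← pw_add (H.pow _), ← pw_add (H.pow _)]
  congr 2
  rw [Num.q, Num.q, Num.q, Bm_eq, dotProduct_add, mulVec_add, dotProduct_add, add_dotProduct, add_dotProduct]
  linear_combination (-(u ⬝ᵥ low D.F *ᵥ v)) * H.ok.1

theorem bf_zero : bf D a 0 = 1 := by
  have h := nf_single a D.l (0 : ZMod p)
  rw [Pi.single_zero, pw_zero] at h
  rw [bf, h, Num.q, dotProduct_zero, zero_dotProduct, mul_zero, add_zero, pw_zero, one_mul]

theorem Rel.bf_l (H : Rel D a) (b : ZMod p) : bf D a (Pi.single D.l b) = pw (a D.l) b := by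
  have h := H.bf_add_l 0 b
  rwa [zero_add, bf_zero, one_mul] at h

theorem bf_single (i : Fin m) : bf D a (Pi.single i 1) = a i * pw (a D.l) (D.c i) := by
  have e : low D.F i i = 0 := by simp [low]
  rw [bf, nf_single, pw_one, Num.q, dotProduct_single, single_dotProduct, mulVec, dotProduct_single, e]
  simp

theorem Rel.bf_neg (H : Rel D a) (u : Fin m → ZMod p) : bf D a (-u) = (bf D a u)⁻¹ := by
  refine eq_inv_of_mul_eq_one_right ?_
  rw [H.bf_mul, mulVec_neg, dotProduct_neg, Bm_self, neg_zero, mul_zero, Pi.single_zero, add_zero, add_neg_cancel,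
    bf_zero]

theorem Rel.bf_conj (H : Rel D a) (u w : Fin m → ZMod p) :
    (bf D a w)⁻¹ * bf D a u * bf D a w = bf D a (u + Pi.single D.l (u ⬝ᵥ D.Bm *ᵥ w)) := by
  rw [mul_assoc, inv_mul_eq_iff_eq_mul, H.bf_mul, H.bf_mul]
  congr 1
  have e : w ⬝ᵥ D.Bm *ᵥ u = -(u ⬝ᵥ D.Bm *ᵥ w) := by rw [Bm_eq, Bm_eq, neg_sub]
  rw [mulVec_add, dotProduct_add, (H.ok.Bm_l _ _).1, add_zero, e, add_comm u w, add_assoc w, add_assoc w, add_assoc u,
    ← Pi.single_add]
  congr 3
  linear_combination (u ⬝ᵥ D.Bm *ᵥ w) * H.ok.1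

theorem Rel.eq_zero (H : Rel D a) {u : Fin m → ZMod p} (h : bf D a u = 1) : u = 0 := by
  have h1 : ∀ w, u ⬝ᵥ D.Bm *ᵥ w = 0 := by
    intro w
    have h2 := H.bf_conj u w
    rw [H.bf_add_l, h, mul_one, inv_mul_cancel, one_mul] at h2
    exact pw_eq_one H.prime (H.pow _) H.ne h2.symm
  have h2 : ∀ j, j ≠ D.l → u j = 0 := by
    intro j hj
    have h3 := h1 (D.R *ᵥ Pi.single j 1)
    rw [mulVec_mulVec, dotProduct, Finset.sum_eq_single j] at h3
    · rwa [mulVec, dotProduct_single, H.ok.2.2.2, if_pos ⟨rfl, hj⟩, mul_one, mul_one] at h3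
    · intro i _ hi
      rw [mulVec, dotProduct_single, H.ok.2.2.2, if_neg (fun e => hi e.1), zero_mul, mul_zero]
    · intro e; exact absurd (Finset.mem_univ _) e
  have h3 : u = Pi.single D.l (u D.l) := by
    funext j
    by_cases hj : j = D.l
    · rw [hj, Pi.single_eq_same]
    · rw [Pi.single_eq_of_ne hj, h2 j hj]
  rw [h3, H.bf_l] at h
  rw [h3, pw_eq_one H.prime (H.pow _) H.ne h, Pi.single_zero]

theorem Rel.bf_inj (H : Rel D a) : Function.Injective (bf D a) := by
  intro u v h
  have h1 : bf D a u * bf D a (-v) = 1 := by rw [H.bf_neg, h, mul_inv_cancel]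
  rw [H.bf_mul] at h1
  have h2 := H.eq_zero h1
  have h3 : u = v - Pi.single D.l (D.h * (u ⬝ᵥ D.Bm *ᵥ -v)) := by
    rw [eq_sub_iff_add_eq, ← sub_eq_zero, ← h2]; abel
  have h4 : u ⬝ᵥ D.Bm *ᵥ -v = 0 := by
    rw [h3, sub_dotProduct, (H.ok.Bm_l _ _).2, mulVec_neg, dotProduct_neg, Bm_self, neg_zero, sub_zero]
  rw [h3, h4, mul_zero, Pi.single_zero, sub_zero]

/-! ### Linear action -/

theorem Act.mul {s t : G} {M N : Matrix (Fin m) (Fin m) (ZMod p)} (h1 : Act D a s M) (h2 : Act D a t N) :
    Act D a (s * t) (M * N) := by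
  intro u
  rw [← vecMul_vecMul, ← h2, ← h1]; group

theorem act_one : Act D a 1 1 := by intro u; simp

theorem Act.unique (H : Rel D a) {s : G} {M N : Matrix (Fin m) (Fin m) (ZMod p)} (h1 : Act D a s M)
    (h2 : Act D a s N) : M = N :=
  Matrix.ext_iff_vecMul.2 fun u => H.bf_inj ((h1 u).symm.trans (h2 u))

/-- **linearity** -/
theorem Rel.act_of (H : Rel D a) {s : G} {M : Matrix (Fin m) (Fin m) (ZMod p)} {μ : ZMod p} (hM : D.Sim M μ)
    (h : ∀ i, s⁻¹ * bf D a (Pi.single i 1) * s = bf D a (M i)) : Act D a s M := by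
  have e1 : ∀ b, Pi.single D.l b ᵥ* M = Pi.single D.l (b * μ) := by
    intro b
    funext j
    rw [vecMul, single_dotProduct, hM.1, Pi.single_apply]
    split_ifs <;> simp
  have e2 : ∀ u v, (u ᵥ* M) ⬝ᵥ D.Bm *ᵥ (v ᵥ* M) = μ * (u ⬝ᵥ D.Bm *ᵥ v) := by
    intro u v
    have e3 : M * D.Bm * Mᵀ = μ • D.Bm := Matrix.ext hM.2
    rw [← dotProduct_mulVec, ← mulVec_transpose M v, mulVec_mulVec, mulVec_mulVec, e3, smul_mulVec, dotProduct_smul,
      smul_eq_mul]
  let S : (Fin m → ZMod p) → Prop := fun u => s⁻¹ * bf D a u * s = bf D a (u ᵥ* M)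
  have s1 : ∀ u v, S u → S v → S (u + v + Pi.single D.l (D.h * (u ⬝ᵥ D.Bm *ᵥ v))) := by
    intro u v hu hv
    show _ = _
    rw [← H.bf_mul, add_vecMul, add_vecMul, e1, show D.h * (u ⬝ᵥ D.Bm *ᵥ v) * μ =
      D.h * ((u ᵥ* M) ⬝ᵥ D.Bm *ᵥ (v ᵥ* M)) by rw [e2]; ring, ← H.bf_mul, ← hu, ← hv]
    group
  have s0 : S 0 := by show _ = _; rw [zero_vecMul, bf_zero]; group
  have s2 : ∀ i (n : ℕ), S (Pi.single i (n : ZMod p)) := by
    intro i n
    induction n with
    | zero => rw [Nat.cast_zero, Pi.single_zero]; exact s0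
    | succ n ih =>
      have h1 : S (Pi.single i 1) := by
        show _ = _
        rw [h i, single_one_vecMul]; rfl
      have h2 := s1 _ _ ih h1
      have h3 : (Pi.single i (n : ZMod p) : Fin m → ZMod p) = (n : ZMod p) • (Pi.single i 1 : Fin m → ZMod p) := by
        rw [← Pi.single_smul, smul_eq_mul, mul_one]
      rwa [h3, smul_dotProduct, Bm_self, smul_zero, mul_zero, Pi.single_zero, add_zero, ← h3, ← Pi.single_add,
        ← Nat.cast_succ] at h2
  have s3 : ∀ i (c : ZMod p), S (Pi.single i c) := fun i c => by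
    have := s2 i c.val
    rwa [ZMod.natCast_zmod_val] at this
  have s4 : ∀ u v, S u → S v → S (u + v) := by
    intro u v hu hv
    have h1 := s1 _ _ (s1 u v hu hv) (s3 D.l (-(D.h * (u ⬝ᵥ D.Bm *ᵥ v))))
    rwa [(H.ok.Bm_l _ _).1, mul_zero, Pi.single_zero, add_zero, add_assoc, ← Pi.single_add, add_neg_cancel,
      Pi.single_zero, add_zero] at h1
  intro u
  rw [← Finset.univ_sum_single u]
  exact Finset.sum_induction _ S s4 s0 fun i _ => s3 i _

/-- inner automorphisms -/
theorem Rel.act_bf (H : Rel D a) {w : Fin m → ZMod p} {M : Matrix (Fin m) (Fin m) (ZMod p)}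
    (h : ∀ i j, M i j = (if i = j then 1 else 0) + if j = D.l then (D.Bm *ᵥ w) i else 0) : Act D a (bf D a w) M := by
  intro u
  rw [H.bf_conj]
  congr 1
  funext j
  have e : (u ᵥ* M) j = ∑ i, u i * M i j := rfl
  rw [e, Pi.add_apply, Pi.single_apply]
  simp only [h, mul_add, Finset.sum_add_distrib]
  congr 1
  · simp
  · split_ifs
    · rfl
    · simp

/-- **the representation** -/
theorem Rel.exists_rep [Finite G] (H : Rel D a) {r : ℕ} {gen : Fin r → G} {M : Fin r → Matrix (Fin m) (Fin m) (ZMod p)}
    (h : ∀ i, Act D a (gen i) (M i)) {N : Subgroup G} (hN : N ≤ Subgroup.closure (Set.range gen)) :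
    ∃ ρ : N →* Matrix (Fin m) (Fin m) (ZMod p), ∀ g : N, Act D a g (ρ g) := by
  have h1 : ∀ g ∈ Subgroup.closure (Set.range gen), ∃ X, Act D a g X := by
    intro g hg
    rw [← Subgroup.mem_toSubmonoid, Subgroup.closure_toSubmonoid_of_finite] at hg
    induction hg using Submonoid.closure_induction with
    | mem x hx => obtain ⟨i, rfl⟩ := hx; exact ⟨_, h i⟩
    | one => exact ⟨1, act_one⟩
    | mul x y _ _ hx hy => obtain ⟨X, hX⟩ := hx; obtain ⟨Y, hY⟩ := hy; exact ⟨_, hX.mul hY⟩
  choose f hf using fun g : N => h1 g (hN g.2)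
  exact ⟨⟨⟨f, (hf 1).unique H act_one⟩, fun g k => (hf (g * k)).unique H ((hf g).mul (hf k))⟩, hf⟩

theorem act_one_iff {s : G} : Act D a s 1 ↔ ∀ u, bf D a u * s = s * bf D a u := by
  refine forall_congr' fun u => ?_
  rw [vecMul_one, mul_assoc, inv_mul_eq_iff_eq_mul]

theorem Rel.act_y (H : Rel D a) {s : G} (hs : s ∈ Subgroup.zpowers (a D.l)) : Act D a s 1 := by
  obtain ⟨k, rfl⟩ := Subgroup.mem_zpowers_iff.1 hs
  refine act_one_iff.2 fun u => (Commute.zpow_right ?_ k).eq
  exact (nf_comm H.cen u).mul_left ((Commute.refl _).pow_left _)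

theorem Act.mem_normalizer [Finite G] (H : Rel D a) {s : G} {M : Matrix (Fin m) (Fin m) (ZMod p)} {μ : ZMod p}
    (h : Act D a s M) (hM : ∀ j, M D.l j = if j = D.l then μ else 0) :
    s ∈ Subgroup.normalizer ((Subgroup.zpowers (a D.l) : Subgroup G) : Set G) := by
  have e : Pi.single D.l 1 ᵥ* M = Pi.single D.l μ := by
    funext j
    rw [vecMul, single_dotProduct, hM, Pi.single_apply, one_mul]
  have h1 := h (Pi.single D.l 1)
  rw [e, H.bf_l, H.bf_l, pw_one] at h1
  rw [← Subgroup.inv_mem_iff]
  refine Subgroup.mem_normalizer_fintype fun z hz => ?_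
  obtain ⟨k, rfl⟩ := Subgroup.mem_zpowers_iff.1 hz
  rw [← conj_zpow, inv_inv, h1]
  exact Subgroup.zpow_mem _ (Subgroup.pow_mem _ (Subgroup.mem_zpowers _) _) _

/-! ### Lower bounds for orders -/

theorem chain_step [Finite G] (K : Subgroup G) (x : G) (O : Finset G) (hO : ∀ o ∈ O, ∃ t ∈ K, t⁻¹ * x * t = o) :
    O.card * Nat.card ↥(K ⊓ Subgroup.centralizer {x}) ≤ Nat.card K := by
  choose t ht he using hO
  let f : O × ↥(K ⊓ Subgroup.centralizer {x}) → K := fun z => ⟨z.2 * t z.1 z.1.2, K.mul_mem z.2.2.1 (ht _ _)⟩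
  have hf : Function.Injective f := by
    rintro ⟨o, s⟩ ⟨o', s'⟩ e
    have e1 : (s : G) * t o o.2 = s' * t o' o'.2 := congrArg Subtype.val e
    have key : ∀ (c : ↥(K ⊓ Subgroup.centralizer {x})) (z : G), ((c : G) * z)⁻¹ * x * (c * z) = z⁻¹ * x * z := by
      intro c z
      have h1 := Subgroup.mem_centralizer_singleton_iff.1 c.2.2
      calc _ = z⁻¹ * (c : G)⁻¹ * (x * c) * z := by group
        _ = _ := by rw [← h1]; group
    have e2 : o = o' := Subtype.ext (by rw [← he o o.2, ← he o' o'.2, ← key s, e1, key])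
    subst e2
    exact Prod.ext rfl (Subtype.ext (mul_right_cancel e1))
  have h1 := Nat.card_le_card_of_injective f hf
  rwa [Nat.card_prod, Nat.card_eq_fintype_card, Fintype.card_coe] at h1

end Cfsg.Agent.BMx.Baer

private theorem dce_e8fb92d74f3f : _root_.True := by
  try have : _root_.True := by simp only [_root_.Cfsg.Agent.BMx.Baer.Num.Bm.eq_1]
  try have : _root_.True := by simp only [_root_.Cfsg.Agent.BMx.Baer.bf.eq_1]
  try have : _root_.True := by simp only [_root_.Cfsg.Agent.BMx.Baer.Num.q.eq_1]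
  try have : _root_.True := by simp only [_root_.Cfsg.Agent.BMx.Baer.low.eq_1]
  try have : _root_.True := by simp only [_root_.Cfsg.Agent.BMx.Baer.nf.eq_1]
  try have : _root_.True := by simp only [_root_.Cfsg.Agent.BMx.Baer.pw.eq_1]
  exact _root_.True.intro
end

-- part: TAB/B/Geo/Quad
section
prune_inst 0x4010000
set_option linter.all false
open scoped Cfsg.Agent.FastGrp

/-!
# Quadratic forms on elementary abelian subgroups (helper1, TAB)

`QG V q` : `q` is a nondegenerate quadratic form on the elementary abelian subgroup `V`; `gs V q` : the Gauss sum.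
-/

set_option autoImplicit false

namespace Cfsg.Agent.TAB.B.Geo

open Finset

variable {G : Type*} [Group G]

/-- the polar form -/
def pol (q : G → ZMod 2) (a b : G) : ZMod 2 := q (a * b) + q a + q b

/-- a nondegenerate quadratic form on an elementary abelian subgroup -/
structure QG (V : Subgroup G) (q : G → ZMod 2) : Prop where
  comm : ∀ a ∈ V, ∀ b ∈ V, a * b = b * a
  sq : ∀ a ∈ V, a * a = 1
  bil : ∀ a ∈ V, ∀ b ∈ V, ∀ c ∈ V, pol q (a * b) c = pol q a c + pol q b c
  nondeg : ∀ a ∈ V, a ≠ 1 → ∃ b ∈ V, pol q b a = 1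

theorem z2 (a : ZMod 2) : a = 0 ∨ a = 1 := by revert a; decide

theorem z2_add (a : ZMod 2) : a + a = 0 := by revert a; decide

theorem z2_ne {a : ZMod 2} : a ≠ 0 ↔ a = 1 := by revert a; decide

theorem z2_ne' {a : ZMod 2} : a ≠ 1 ↔ a = 0 := by revert a; decide

/-- the sign -/
def sn (x : ZMod 2) : ℤ := if x = 0 then 1 else -1

theorem sn_add (x y : ZMod 2) : sn (x + y) = sn x * sn y := by revert x y; decide

theorem sn_zero : sn 0 = 1 := by decide

theorem sn_one : sn 1 = -1 := by decide

theorem sn_sq (x : ZMod 2) : sn x * sn x = 1 := by revert x; decide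

theorem q_mul (q : G → ZMod 2) (a b : G) : q (a * b) = q a + q b + pol q a b := by
  unfold pol
  generalize q (a * b) = x
  generalize q a = y
  generalize q b = w
  revert x y w; decide

/-- the elements of a subgroup -/
noncomputable def fs [Finite G] (V : Subgroup G) : Finset G := (Set.toFinite (V : Set G)).toFinset

theorem mem_fs [Finite G] {V : Subgroup G} {a : G} : a ∈ fs V ↔ a ∈ V := by
  rw [fs, Set.Finite.mem_toFinset]
  rfl

theorem card_fs [Finite G] (V : Subgroup G) : (fs V).card = Nat.card V := by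
  rw [fs, ← Set.ncard_eq_toFinset_card]
  rfl

open Classical in
theorem card_filter_fs [Finite G] (V : Subgroup G) (P : G → Prop) :
    Nat.card {a : G // a ∈ V ∧ P a} = ((fs V).filter P).card := by
  rw [← Nat.card_eq_finsetCard]
  exact Nat.card_congr (Equiv.subtypeEquivRight fun a => by rw [Finset.mem_filter, mem_fs])

/-- the Gauss sum -/
noncomputable def gs [Finite G] (V : Subgroup G) (q : G → ZMod 2) : ℤ := ∑ a ∈ fs V, sn (q a)

theorem sum_shift [Finite G] {V : Subgroup G} {b : G} (hb : b ∈ V) (f : G → ℤ) :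
    ∑ a ∈ fs V, f (a * b) = ∑ a ∈ fs V, f a := by
  refine Finset.sum_nbij' (fun a => a * b) (fun a => a * b⁻¹) ?_ ?_ ?_ ?_ ?_
  · intro a ha
    exact mem_fs.2 (V.mul_mem (mem_fs.1 ha) hb)
  · intro a ha
    exact mem_fs.2 (V.mul_mem (mem_fs.1 ha) (V.inv_mem hb))
  · intro a _
    simp
  · intro a _
    simp
  · intro a _
    rfl

namespace QG

variable {V : Subgroup G} {q : G → ZMod 2} (h : QG V q)
include h

theorem inv_eq {a : G} (ha : a ∈ V) : a⁻¹ = a := inv_eq_of_mul_eq_one_right (h.sq a ha)

theorem pol_comm {a b : G} (ha : a ∈ V) (hb : b ∈ V) : pol q a b = pol q b a := by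
  unfold pol
  rw [h.comm a ha b hb]
  ring

theorem pol_one {a : G} (ha : a ∈ V) : pol q 1 a = 0 := by
  have h1 := h.bil 1 V.one_mem 1 V.one_mem a ha
  rwa [one_mul, z2_add] at h1

theorem q_one : q 1 = 0 := by
  have h1 := h.pol_one V.one_mem
  unfold pol at h1
  rwa [one_mul, z2_add, zero_add] at h1

theorem pol_self {a : G} (ha : a ∈ V) : pol q a a = 0 := by
  unfold pol
  rw [h.sq a ha, h.q_one, zero_add, z2_add]

theorem bil' {a b c : G} (ha : a ∈ V) (hb : b ∈ V) (hc : c ∈ V) : pol q a (b * c) = pol q a b + pol q a c := by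
  rw [h.pol_comm ha (V.mul_mem hb hc), h.bil b hb c hc a ha, h.pol_comm hb ha, h.pol_comm hc ha]

theorem mul_eq_one {a b : G} (ha : a ∈ V) : a * b = 1 ↔ a = b := by
  rw [mul_eq_one_iff_inv_eq, h.inv_eq ha]

variable [Finite G]

theorem sum_chi {v : G} (hv : v ∈ V) (h1 : v ≠ 1) : ∑ a ∈ fs V, sn (pol q a v) = 0 := by
  obtain ⟨b, hb, h2⟩ := h.nondeg v hv h1
  have h3 := sum_shift hb fun a => sn (pol q a v)
  have h4 : ∑ a ∈ fs V, sn (pol q (a * b) v) = ∑ a ∈ fs V, - sn (pol q a v) :=
    Finset.sum_congr rfl fun a ha => by rw [h.bil a (mem_fs.1 ha) b hb v hv, h2, sn_add, sn_one]; ring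
  rw [h4, Finset.sum_neg_distrib] at h3
  omega

omit h in
theorem gauss_chi {v : G} (hv : v ∈ V) : ∑ a ∈ fs V, sn (q a) * sn (pol q a v) = sn (q v) * gs V q := by
  rw [gs, ← sum_shift hv fun a => sn (q a), Finset.mul_sum]
  refine Finset.sum_congr rfl fun a _ => ?_
  rw [q_mul q a v, sn_add, sn_add]
  have := sn_sq (q v)
  linear_combination (- sn (q a) * sn (pol q a v)) * this

end QG

/-- the orthogonal of an element -/
def perp {V : Subgroup G} {q : G → ZMod 2} (h : QG V q) {v : G} (hv : v ∈ V) : Subgroup G where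
  carrier := {a | a ∈ V ∧ pol q a v = 0}
  one_mem' := ⟨V.one_mem, h.pol_one hv⟩
  mul_mem' := fun {a b} ha hb => ⟨V.mul_mem ha.1 hb.1, by rw [h.bil a ha.1 b hb.1 v hv, ha.2, hb.2, add_zero]⟩
  inv_mem' := fun {a} ha => by rw [h.inv_eq ha.1]; exact ha

section

variable [Finite G] {V : Subgroup G} {q : G → ZMod 2}

open Classical in
/-- a number of elements as a sum -/
theorem card_eq_sum (V : Subgroup G) (P : G → Prop) (n : ℤ) (f : G → ℤ)
    (hf : ∀ a ∈ V, (P a → f a = n) ∧ (¬ P a → f a = 0)) :
    n * (Nat.card {a : G // a ∈ V ∧ P a} : ℤ) = ∑ a ∈ fs V, f a := by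
  rw [card_filter_fs, Finset.card_filter, Nat.cast_sum, Finset.mul_sum]
  refine Finset.sum_congr rfl fun a ha => ?_
  by_cases hP : P a
  · rw [if_pos hP, (hf a (mem_fs.1 ha)).1 hP]
    simp
  · rw [if_neg hP, (hf a (mem_fs.1 ha)).2 hP]
    simp

theorem sum_one (V : Subgroup G) : ∑ _a ∈ fs V, (1 : ℤ) = Nat.card V := by
  rw [Finset.sum_const, card_fs]
  simp

/-- the elements with a given value -/
theorem card_q (V : Subgroup G) (q : G → ZMod 2) (x : ZMod 2) :
    2 * (Nat.card {a : G // a ∈ V ∧ q a = x} : ℤ) = Nat.card V + sn x * gs V q := by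
  rw [card_eq_sum V _ 2 fun a => 1 + sn x * sn (q a), Finset.sum_add_distrib, sum_one, gs, Finset.mul_sum]
  intro a _
  generalize q a = y
  revert x y; decide

/-- the elements with a given product -/
theorem QG.card_pol (h : QG V q) {v : G} (hv : v ∈ V) (h1 : v ≠ 1) (y : ZMod 2) :
    2 * (Nat.card {a : G // a ∈ V ∧ pol q a v = y} : ℤ) = Nat.card V := by
  rw [card_eq_sum V _ 2 fun a => 1 + sn y * sn (pol q a v), Finset.sum_add_distrib, sum_one, ← Finset.mul_sum,
    h.sum_chi hv h1, mul_zero, add_zero]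
  intro a _
  generalize pol q a v = x
  revert x y; decide

/-- the elements with a given value and a given product -/
theorem QG.card_q_pol (h : QG V q) {v : G} (hv : v ∈ V) (h1 : v ≠ 1) (x y : ZMod 2) :
    4 * (Nat.card {a : G // a ∈ V ∧ q a = x ∧ pol q a v = y} : ℤ) =
      Nat.card V + sn x * gs V q + sn x * sn y * sn (q v) * gs V q := by
  rw [card_eq_sum V _ 4 fun a => 1 + sn x * sn (q a) + sn y * sn (pol q a v) +
    sn x * sn y * (sn (q a) * sn (pol q a v)), Finset.sum_add_distrib, Finset.sum_add_distrib,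
    Finset.sum_add_distrib, sum_one, ← Finset.mul_sum, ← Finset.mul_sum, ← Finset.mul_sum, h.sum_chi hv h1,
    QG.gauss_chi hv, ← gs]
  · ring
  intro a _
  generalize pol q a v = s
  generalize q a = r
  revert x y r s; decide

end

/-- the orthogonal of a hyperbolic pair -/
def perp2 {V : Subgroup G} {q : G → ZMod 2} (h : QG V q) {t u : G} (ht : t ∈ V) (hu : u ∈ V) : Subgroup G :=
  perp h ht ⊓ perp h hu

section

variable {V : Subgroup G} {q : G → ZMod 2} {h : QG V q} {t u : G} {ht : t ∈ V} {hu : u ∈ V}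

theorem mem_perp2 {a : G} : a ∈ perp2 h ht hu ↔ a ∈ V ∧ pol q a t = 0 ∧ pol q a u = 0 :=
  ⟨fun h => ⟨h.1.1, h.1.2, h.2.2⟩, fun h => ⟨⟨h.1, h.2.1⟩, h.1, h.2.2⟩⟩

theorem perp2_qg (htu : pol q u t = 1) : QG (perp2 h ht hu) q where
  comm a ha b hb := h.comm a ha.1.1 b hb.1.1
  sq a ha := h.sq a ha.1.1
  bil a ha b hb c hc := h.bil a ha.1.1 b hb.1.1 c hc.1.1
  nondeg a ha h1 := by
    obtain ⟨ha0, hat, hau⟩ := mem_perp2.1 ha
    obtain ⟨b, hb, h2⟩ := h.nondeg a ha0 h1
    have htu' : pol q t u = 1 := by rw [h.pol_comm ht hu, htu]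
    have hta : pol q t a = 0 := by rw [h.pol_comm ht ha0, hat]
    have hua : pol q u a = 0 := by rw [h.pol_comm hu ha0, hau]
    have o : (1 : ZMod 2) + 1 = 0 := by decide
    rcases z2 (pol q b t) with h3 | h3 <;> rcases z2 (pol q b u) with h4 | h4
    · exact ⟨b, mem_perp2.2 ⟨hb, h3, h4⟩, h2⟩
    · refine ⟨b * t, mem_perp2.2 ⟨V.mul_mem hb ht, ?_, ?_⟩, ?_⟩
      · rw [h.bil b hb t ht t ht, h3, h.pol_self ht, add_zero]
      · rw [h.bil b hb t ht u hu, h4, htu', o]
      · rw [h.bil b hb t ht a ha0, h2, hta, add_zero]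
    · refine ⟨b * u, mem_perp2.2 ⟨V.mul_mem hb hu, ?_, ?_⟩, ?_⟩
      · rw [h.bil b hb u hu t ht, h3, htu, o]
      · rw [h.bil b hb u hu u hu, h4, h.pol_self hu, add_zero]
      · rw [h.bil b hb u hu a ha0, h2, hua, add_zero]
    · refine ⟨b * t * u, mem_perp2.2 ⟨V.mul_mem (V.mul_mem hb ht) hu, ?_, ?_⟩, ?_⟩
      · rw [h.bil _ (V.mul_mem hb ht) u hu t ht, h.bil b hb t ht t ht, h3, h.pol_self ht, htu, add_zero, o]
      · rw [h.bil _ (V.mul_mem hb ht) u hu u hu, h.bil b hb t ht u hu, h4, h.pol_self hu, htu', add_zero, o]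
      · rw [h.bil _ (V.mul_mem hb ht) u hu a ha0, h.bil b hb t ht a ha0, h2, hta, hua, add_zero, add_zero]

open Classical in
theorem sum_perp2 [Finite G] (f : G → ℤ) : 4 * ∑ a ∈ fs (perp2 h ht hu), f a =
    ∑ a ∈ fs V, f a * (1 + sn (pol q a t) + sn (pol q a u) + sn (pol q a (t * u))) := by
  have h1 : fs (perp2 h ht hu) = (fs V).filter fun a => pol q a t = 0 ∧ pol q a u = 0 := by
    ext a
    rw [Finset.mem_filter, mem_fs, mem_fs, mem_perp2]
  rw [h1, Finset.sum_filter, Finset.mul_sum]
  refine Finset.sum_congr rfl fun a ha => ?_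
  rw [h.bil' (mem_fs.1 ha) ht hu]
  rcases z2 (pol q a t) with h3 | h3 <;> rcases z2 (pol q a u) with h4 | h4 <;>
    simp only [h3, h4, sn_add, sn_zero, sn_one, and_self, one_ne_zero, and_false, false_and, if_true, if_false] <;> ring

theorem card_perp2 [Finite G] (htu : pol q u t = 1) : 4 * Nat.card (perp2 h ht hu) = Nat.card V := by
  have t1 : t ≠ 1 := by
    rintro rfl
    rw [h.pol_comm hu ht, h.pol_one hu] at htu
    exact zero_ne_one htu
  have u1 : u ≠ 1 := by
    rintro rfl
    rw [h.pol_one ht] at htu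
    exact zero_ne_one htu
  have tu1 : t * u ≠ 1 := by
    rw [Ne, h.mul_eq_one ht]
    rintro rfl
    rw [h.pol_self ht] at htu
    exact zero_ne_one htu
  have h1 := sum_perp2 (h := h) (ht := ht) (hu := hu) fun _ => 1
  simp only [one_mul, Finset.sum_add_distrib, sum_one, h.sum_chi ht t1, h.sum_chi hu u1,
    h.sum_chi (V.mul_mem ht hu) tu1, add_zero] at h1
  exact_mod_cast h1

theorem gs_perp2 [Finite G] : 4 * gs (perp2 h ht hu) q = (1 + sn (q t) + sn (q u) + sn (q (t * u))) * gs V q := by
  have h1 := sum_perp2 (h := h) (ht := ht) (hu := hu) fun a => sn (q a)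
  simp only [mul_add, mul_one, Finset.sum_add_distrib, QG.gauss_chi ht, QG.gauss_chi hu,
    QG.gauss_chi (V.mul_mem ht hu)] at h1
  rw [gs, h1, ← gs]
  ring

end

end Cfsg.Agent.TAB.B.Geo

private theorem dce_6428aebc547e : _root_.True := by
  try have : _root_.True := by simp only [_root_.Cfsg.Agent.TAB.B.Geo.gs.congr_simp]
  try have : _root_.True := by simp only [_root_.Cfsg.Agent.TAB.B.Geo.fs.eq_1]
  try have : _root_.True := by simp only [_root_.Cfsg.Agent.TAB.B.Geo.gs.eq_1]
  try have : _root_.True := by simp only [_root_.Cfsg.Agent.TAB.B.Geo.fs.congr_simp]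
  try have : _root_.True := by simp only [_root_.Cfsg.Agent.TAB.B.Geo.perp2.congr_simp]
  exact _root_.True.intro
end

-- part: TAB/B/Geo/Mon
section
prune_inst 0x4010000
set_option linter.all false
open scoped Cfsg.Agent.FastGrp

/-!
# The arks through a fixed involution (helper1, TAB)

`MF Γ t α β δ` : the facts on the geometry of the Monster and the involutions commuting with the `2A`-involution `t`.
-/

set_option autoImplicit false

namespace Cfsg.Agent.TAB.B.Geo

open Cfsg.Agent.R2.M7 Cfsg.Agent.R2.M7.Geo Cfsg.Agent.R2.M7.Ark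

variable {G : Type*} [Group G]

/-- conjugate in the centraliser of `t` -/
def Cj (t a b : G) : Prop := ∃ g, g * t = t * g ∧ g * a * g⁻¹ = b

theorem Cj.symm {t a b : G} (h : Cj t a b) : Cj t b a := by
  obtain ⟨g, h1, rfl⟩ := h
  exact ⟨g⁻¹, (Commute.inv_left h1).eq, by group⟩

theorem Cj.trans {t a b c : G} (h : Cj t a b) (h' : Cj t b c) : Cj t a c := by
  obtain ⟨g, h1, rfl⟩ := h
  obtain ⟨k, h2, rfl⟩ := h'
  exact ⟨k * g, (Commute.mul_left h2 h1).eq, by group⟩

theorem Cj.mul_t {t a b : G} (h : Cj t a b) : Cj t (a * t) (b * t) := by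
  obtain ⟨g, h1, rfl⟩ := h
  refine ⟨g, h1, ?_⟩
  calc g * (a * t) * g⁻¹ = g * a * (t * g⁻¹) := by group
    _ = g * a * (g⁻¹ * t) := by rw [(Commute.inv_left h1).eq]
    _ = _ := by group

theorem Cj.comm {t a b : G} (h : Cj t a b) (ha : a * t = t * a) : b * t = t * b := by
  obtain ⟨g, h1, rfl⟩ := h
  exact (((show Commute g t from h1).mul_left ha).mul_left (Commute.inv_left h1)).eq

/-- an involution commuting with `t` and different from `t` -/
structure Iv (t w : G) : Prop where
  comm : w * t = t * w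
  sq : w * w = 1
  ne : w ≠ 1
  net : w ≠ t

/-- the facts -/
structure MF [Finite G] (Γ : Geo G) (t α β δ : G) : Prop where
  Ba : Γ.Basic
  A : Γ.ArkFacts
  qsq : ∀ x ∈ Γ.Pt, ∀ a ∈ Γ.QQ x, a * a = 1 ∨ a * a = x
  tt : t * t = 1
  kt : Γ.kap t = 1
  conjA : ∀ a, a * a = 1 → Γ.kap a = 1 → ∃ g, g * a * g⁻¹ = t
  plus : ∃ O ∈ Γ.Ark, gs O Γ.kap = 32
  αt : Cj t α (α * t)
  kβ : β ∈ Γ.Pt
  kδ : δ ∈ Γ.Pt
  δt : Cj t δ (δ * t)
  cls : ∀ w, Iv t w → Cj t α w ∨ Cj t β (w * t) ∨ Cj t β w ∨ Cj t δ w
  aa : ∀ a b, Cj t α a → Cj t α b → a * b = b * a → ¬ Cj t δ (a * b)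

theorem qg_ark {Γ : Geo G} (A : Γ.ArkFacts) {O : Subgroup G} (hO : O ∈ Γ.Ark) : QG O Γ.kap :=
  ⟨A.comm O hO, A.sq O hO, A.bet_mul O hO, A.bet_nondeg O hO⟩

theorem pt_of_kap {Γ : Geo G} {x : G} (h : Γ.kap x = 0) (h1 : x ≠ 1) : x ∈ Γ.Pt := (kap_eq_zero.1 h).resolve_left h1

omit [Group G] in
theorem exists_of_card {P : G → Prop} {n : ℕ} (h : Nat.card {a : G // P a} = n + 1) : ∃ a, P a := by
  obtain ⟨a⟩ := (Nat.card_pos_iff.1 (by omega : 0 < Nat.card {a : G // P a})).1
  exact ⟨a.1, a.2⟩

omit [Group G] in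
theorem exists_ne_of_card {P : G → Prop} {n : ℕ} (h : Nat.card {a : G // P a} = n + 2) (b : G) :
    ∃ a, P a ∧ a ≠ b := by
  by_contra h1
  push Not at h1
  have h2 : Subsingleton {a : G // P a} := ⟨fun x y => Subtype.ext ((h1 _ x.2).trans (h1 _ y.2).symm)⟩
  have h3 := Finite.card_le_one_iff_subsingleton (α := {a : G // P a})
  have : Finite {a : G // P a} := Finite.of_subsingleton
  have := (@Finite.card_le_one_iff_subsingleton _ this).2 h2
  omega

namespace MF

variable [Finite G] {Γ : Geo G} {t α β δ : G} (M : MF Γ t α β δ)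
include M

theorem t_ne : t ≠ 1 := by
  intro h
  have h1 := M.kt
  rw [h, kap_one] at h1
  exact zero_ne_one h1

theorem kap_cj {a b : G} (h : Cj t a b) : Γ.kap b = Γ.kap a := by
  obtain ⟨g, -, rfl⟩ := h
  exact kap_conj M.Ba a g

theorem gs_cj (O : Subgroup G) (g : G) : gs (cj g O) Γ.kap = gs O Γ.kap := by
  symm
  refine Finset.sum_nbij' (fun a => g * a * g⁻¹) (fun a => g⁻¹ * a * g) ?_ ?_ ?_ ?_ ?_
  · intro a ha
    exact mem_fs.2 (conj_mem_cj.2 (mem_fs.1 ha))
  · intro a ha
    exact mem_fs.2 (mem_cj.1 (mem_fs.1 ha))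
  · intro a _
    group
  · intro a _
    group
  · intro a _
    rw [kap_conj M.Ba]

theorem mtt (w : G) : w * t * t = w := by rw [mul_assoc, M.tt, mul_one]

theorem iv_mul {w : G} (h : Iv t w) : Iv t (w * t) where
  comm := by rw [mul_assoc, ← mul_assoc t, ← h.comm, mul_assoc]
  sq := by
    calc w * t * (w * t) = w * (t * w) * t := by group
      _ = w * w * (t * t) := by rw [← h.comm]; group
      _ = 1 := by rw [h.sq, M.tt, mul_one]
  ne e := h.net (by rw [← M.mtt w, e, one_mul])
  net e := h.ne (by rw [← M.mtt w, e, M.tt])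

/-- an ark through `t` -/
theorem exists_ark_t : ∃ O ∈ Γ.Ark, t ∈ O ∧ gs O Γ.kap = 32 := by
  obtain ⟨O, hO, h1⟩ := M.plus
  have h2 := card_q O Γ.kap 1
  rw [h1, M.A.card O hO, sn_one] at h2
  obtain ⟨a, ha, h3⟩ := exists_of_card (P := fun a => a ∈ O ∧ Γ.kap a = 1) (n := 495) (by omega)
  obtain ⟨g, hg⟩ := M.conjA a (M.A.sq O hO a ha) h3
  exact ⟨cj g O, M.A.conj O hO g, hg ▸ conj_mem_cj.2 ha, by rw [M.gs_cj, h1]⟩

theorem kap_mul_t (a : G) : Γ.kap (a * t) = Γ.kap a + 1 + pol Γ.kap a t := by
  rw [q_mul Γ.kap a t, M.kt]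

/-- the four types occur in an ark -/
theorem exists_type {O : Subgroup G} (hO : O ∈ Γ.Ark) (ht : t ∈ O) (hg : gs O Γ.kap = 32) (x y : ZMod 2) :
    ∃ w ∈ O, Iv t w ∧ Γ.kap w = x ∧ Γ.kap (w * t) = y := by
  have h := qg_ark M.A hO
  have h1 := h.card_q_pol ht M.t_ne x (x + 1 + y)
  rw [hg, M.A.card O hO, M.kt] at h1
  have h2 : ∃ n, Nat.card {a : G // a ∈ O ∧ Γ.kap a = x ∧ pol Γ.kap a t = x + 1 + y} = n + 2 := by
    refine Nat.exists_eq_add_of_le' ?_
    rcases z2 x with rfl | rfl <;> rcases z2 y with rfl | rfl <;>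
      simp only [sn_add, sn_zero, sn_one] at h1 <;> omega
  obtain ⟨n, h2⟩ := h2
  have key : ∀ a, a ∈ O ∧ Γ.kap a = x ∧ pol Γ.kap a t = x + 1 + y → Γ.kap (a * t) = y := by
    rintro a ⟨-, h3, h4⟩
    rw [M.kap_mul_t, h3, h4]
    clear h1 h2 h3 h4
    revert x y; decide
  rcases z2 x with rfl | rfl
  · obtain ⟨a, ha, h3⟩ := exists_ne_of_card h2 1
    refine ⟨a, ha.1, ⟨h.comm a ha.1 t ht, h.sq a ha.1, h3, ?_⟩, ha.2.1, key a ha⟩
    rintro rfl
    have h4 := M.kt
    rw [ha.2.1] at h4
    exact zero_ne_one h4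
  · obtain ⟨a, ha, h3⟩ := exists_ne_of_card h2 t
    refine ⟨a, ha.1, ⟨h.comm a ha.1 t ht, h.sq a ha.1, ?_, h3⟩, ha.2.1, key a ha⟩
    rintro rfl
    have h4 := ha.2.1
    rw [kap_one] at h4
    exact zero_ne_one h4

theorem kap_α : Γ.kap α = 1 := by
  obtain ⟨O, hO, ht, hg⟩ := M.exists_ark_t
  obtain ⟨w, -, hw, h1, h2⟩ := M.exists_type hO ht hg 1 1
  rcases M.cls w hw with h | h | h | h
  · rw [← M.kap_cj h, h1]
  · rw [M.kap_cj h, kap_pt M.kβ] at h2
    exact absurd h2 zero_ne_one
  · rw [M.kap_cj h, kap_pt M.kβ] at h1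
    exact absurd h1 zero_ne_one
  · rw [M.kap_cj h, kap_pt M.kδ] at h1
    exact absurd h1 zero_ne_one

theorem kap_βt : Γ.kap (β * t) = 1 := by
  obtain ⟨O, hO, ht, hg⟩ := M.exists_ark_t
  obtain ⟨w, -, hw, h1, h2⟩ := M.exists_type hO ht hg 1 0
  rcases M.cls w hw with h | h | h | h
  · rw [M.kap_cj h.mul_t, M.kap_cj M.αt, M.kap_α] at h2
    exact absurd h2 one_ne_zero
  · rw [← M.kap_cj h.mul_t, M.mtt, h1]
  · rw [M.kap_cj h, kap_pt M.kβ] at h1
    exact absurd h1 zero_ne_one
  · rw [M.kap_cj h, kap_pt M.kδ] at h1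
    exact absurd h1 zero_ne_one

/-- the classes -/
theorem cls' {w : G} (hw : Iv t w) : (Γ.kap w = 1 ∧ Γ.kap (w * t) = 1 ∧ Cj t α w) ∨
    (Γ.kap w = 1 ∧ Γ.kap (w * t) = 0 ∧ Cj t (β * t) w) ∨ (Γ.kap w = 0 ∧ Γ.kap (w * t) = 1 ∧ Cj t β w) ∨
    (Γ.kap w = 0 ∧ Γ.kap (w * t) = 0 ∧ Cj t δ w) := by
  rcases M.cls w hw with h | h | h | h
  · exact Or.inl ⟨by rw [M.kap_cj h, M.kap_α], by rw [M.kap_cj h.mul_t, M.kap_cj M.αt, M.kap_α], h⟩
  · have h1 := h.mul_t
    rw [M.mtt] at h1
    exact Or.inr (Or.inl ⟨by rw [M.kap_cj h1, M.kap_βt], by rw [M.kap_cj h, kap_pt M.kβ], h1⟩)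
  · exact Or.inr (Or.inr (Or.inl ⟨by rw [M.kap_cj h, kap_pt M.kβ], by rw [M.kap_cj h.mul_t, M.kap_βt], h⟩))
  · exact Or.inr (Or.inr (Or.inr ⟨by rw [M.kap_cj h, kap_pt M.kδ],
      by rw [M.kap_cj h.mul_t, M.kap_cj M.δt, kap_pt M.kδ], h⟩))

theorem cj_α {w : G} (hw : Iv t w) (h1 : Γ.kap w = 1) (h2 : Γ.kap (w * t) = 1) : Cj t α w := by
  rcases M.cls' hw with h | h | h | h
  · exact h.2.2
  · exact absurd (h.2.1.symm.trans h2) zero_ne_one
  · exact absurd (h.1.symm.trans h1) zero_ne_one
  · exact absurd (h.1.symm.trans h1) zero_ne_one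

theorem cj_β {w : G} (hw : Iv t w) (h1 : Γ.kap w = 0) (h2 : Γ.kap (w * t) = 1) : Cj t β w := by
  rcases M.cls' hw with h | h | h | h
  · exact absurd (h1.symm.trans h.1) zero_ne_one
  · exact absurd (h1.symm.trans h.1) zero_ne_one
  · exact h.2.2
  · exact absurd (h.2.1.symm.trans h2) zero_ne_one

theorem cj_δ {w : G} (hw : Iv t w) (h1 : Γ.kap w = 0) (h2 : Γ.kap (w * t) = 0) : Cj t δ w := by
  rcases M.cls' hw with h | h | h | h
  · exact absurd (h1.symm.trans h.1) zero_ne_one
  · exact absurd (h1.symm.trans h.1) zero_ne_one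
  · exact absurd (h2.symm.trans h.2.1) zero_ne_one
  · exact h.2.2

/-- a point `v` with `v t` not a point is collinear with `t` -/
theorem t_mem_QQ {v : G} (hv : Iv t v) (h1 : Γ.kap v = 0) (h2 : Γ.kap (v * t) = 1) : t ∈ Γ.QQ v := by
  obtain ⟨O, hO, ht, hg⟩ := M.exists_ark_t
  obtain ⟨w, hwO, hw, h3, h4⟩ := M.exists_type hO ht hg 0 1
  obtain ⟨g, hgt, rfl⟩ := (M.cj_β hw h3 h4).symm.trans (M.cj_β hv h1 h2)
  have hp := pt_of_kap h3 hw.ne
  have h5 : t ∈ Γ.QQ w := by
    rw [M.A.bet_iff O hO w hwO hp t ht, Geo.bet, ← hw.comm, h4, h3, M.kt]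
    decide
  have h6 := M.Ba.QQ_conj w hp g t h5
  rwa [hgt, mul_inv_cancel_right] at h6

/-- the ark of a point `u` with `u t` a point -/
theorem exists_ark {u : G} (hu : Iv t u) (h1 : Γ.kap u = 0) (h2 : Γ.kap (u * t) = 0) :
    ∃ O ∈ Γ.Ark, t ∈ O ∧ u ∈ O ∧ gs O Γ.kap = 32 := by
  obtain ⟨O, hO, ht, hg⟩ := M.exists_ark_t
  obtain ⟨w, hwO, hw, h3, h4⟩ := M.exists_type hO ht hg 0 0
  obtain ⟨g, hgt, rfl⟩ := (M.cj_δ hw h3 h4).symm.trans (M.cj_δ hu h1 h2)
  refine ⟨cj g O, M.A.conj O hO g, ?_, conj_mem_cj.2 hwO, by rw [M.gs_cj, hg]⟩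
  have h5 := conj_mem_cj (g := g).2 ht
  rwa [hgt, mul_inv_cancel_right] at h5

/-- the same for any involution which is not a point -/
theorem exists_ark' {a v : G} (ha : a * a = 1) (ka : Γ.kap a = 1) (hv : v ∈ Γ.Pt) (hc : v * a = a * v)
    (h2 : v * a ∈ Γ.Pt) : ∃ O ∈ Γ.Ark, a ∈ O ∧ v ∈ O := by
  obtain ⟨g, hg⟩ := M.conjA a ha ka
  have h3 := M.Ba.pt_conj v hv g
  have e : g * v * g⁻¹ * t = g * (v * a) * g⁻¹ := by rw [← hg]; group
  obtain ⟨O, hO, ht, hu, -⟩ := M.exists_ark (u := g * v * g⁻¹) ⟨by rw [e, hc, ← hg]; group, M.Ba.pt_sq _ h3,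
    M.Ba.pt_ne _ h3, fun h => by
      have h4 := M.kt
      rw [← h, kap_pt h3] at h4
      exact zero_ne_one h4⟩ (kap_pt h3) (by rw [e]; exact kap_pt (M.Ba.pt_conj _ h2 g))
  refine ⟨cj g⁻¹ O, M.A.conj O hO _, mem_cj.2 ?_, mem_cj.2 ?_⟩
  · rwa [inv_inv, hg]
  · rwa [inv_inv]

theorem not_mem {O : Subgroup G} (hO : O ∈ Γ.Ark) {a v : G} (ha : a ∈ O) (hv : v ∈ O) (ka : Γ.kap a = 1)
    (hp : v ∈ Γ.Pt) (h2 : v * a ∈ Γ.Pt) : a ∉ Γ.QQ v := by
  rw [not_mem_QQ M.A hO hv hp ha, Geo.bet, M.A.comm O hO a ha v hv, kap_pt h2, kap_pt hp, ka]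
  decide

/-- the ark is unique -/
theorem ark_eq {O O' : Subgroup G} (hO : O ∈ Γ.Ark) (hO' : O' ∈ Γ.Ark) {a v : G} (ha : a ∈ O) (hv : v ∈ O)
    (ha' : a ∈ O') (hv' : v ∈ O') (ka : Γ.kap a = 1) (hp : v ∈ Γ.Pt) (h2 : v * a ∈ Γ.Pt) : O = O' :=
  M.A.unique O hO O' hO' v hp hv hv' a (O_le_KK ha) (O_le_KK ha') (M.not_mem hO ha hv ka hp h2)

section

variable {O : Subgroup G} (hO : O ∈ Γ.Ark) (ht : t ∈ O) {u : G} (hu : u ∈ O) (hp : u ∈ Γ.Pt) (h2 : u * t ∈ Γ.Pt)
include hO ht hu hp h2

theorem norm_ark {g : G} (hgt : g * t = t * g) (hg : g * u * g⁻¹ = u ∨ g * u * g⁻¹ = u * t) {a : G} (ha : a ∈ O) :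
    g * a * g⁻¹ ∈ O := by
  have h3 : t ∈ cj g O := by
    have h5 := conj_mem_cj (g := g).2 ht
    rwa [hgt, mul_inv_cancel_right] at h5
  have h4 : u ∈ cj g O := by
    have h5 := conj_mem_cj (g := g).2 hu
    rcases hg with h | h
    · rwa [h] at h5
    · rw [h] at h5
      have h6 := (cj g O).mul_mem h5 h3
      rwa [M.mtt] at h6
  rw [M.ark_eq hO (M.A.conj O hO g) ht hu h3 h4 M.kt hp h2]
  exact conj_mem_cj.2 ha

/-- the points collinear with `t` and `u` -/
theorem mem_ark_pt {v : G} (hv : v ∈ Γ.Pt) (h3 : t ∈ Γ.QQ v) (h4 : u ∈ Γ.QQ v) : v ∈ O :=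
  M.A.pt_mem O hO u hu hp t (O_le_KK ht) (M.not_mem hO ht hu M.kt hp h2) v hv (M.Ba.symm v hv u hp h4) h3

/-- the points `v` collinear with `t` with `v u` and `v u t` in the other class -/
theorem mem_ark_A {v : G} (hv : v ∈ Γ.Pt) (h3 : t ∈ Γ.QQ v) (hc : v * u = u * v) (k1 : Γ.kap (v * u) = 1)
    (k2 : Γ.kap (v * u * t) = 1) : v ∈ O := by
  have hvv := M.Ba.pt_sq v hv
  have huu := M.Ba.pt_sq u hp
  have ctv : Commute t v := M.Ba.QQ_comm v hv t h3
  have ctu : Commute t u := M.A.comm O hO t ht u hu
  have cvu : Commute v u := hc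
  have e1 : v * (v * u) = u := by rw [← mul_assoc, hvv, one_mul]
  have e2 : v * (v * u * t) = u * t := by rw [← mul_assoc, e1]
  have s1 : v * u * (v * u) = 1 := by
    calc v * u * (v * u) = v * (u * v) * u := by group
      _ = v * v * (u * u) := by rw [← hc]; group
      _ = 1 := by rw [hvv, huu, mul_one]
  have cat : Commute t (v * u) := ctv.mul_right ctu
  have s2 : v * u * t * (v * u * t) = 1 := by
    calc v * u * t * (v * u * t) = v * u * (t * (v * u)) * t := by group
      _ = v * u * (v * u) * (t * t) := by rw [cat.eq]; group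
      _ = 1 := by rw [s1, M.tt, mul_one]
  obtain ⟨O₁, hO₁, ha₁, hv₁⟩ := M.exists_ark' s1 k1 hv ((Commute.refl v).mul_right cvu).eq (by rw [e1]; exact hp)
  obtain ⟨O₂, hO₂, ha₂, hv₂⟩ := M.exists_ark' s2 k2 hv (((Commute.refl v).mul_right cvu).mul_right ctv.symm).eq
    (by rw [e2]; exact h2)
  have n2 : v * u * t ∉ Γ.QQ v := M.not_mem hO₂ ha₂ hv₂ k2 hv (by rw [e2]; exact h2)
  have c2 : t ∈ CC O₂ := M.A.cent_le O₂ hO₂ v hv₂ hv _ (O_le_KK ha₂) n2 t h3 (cat.mul_right (Commute.refl t)).eq
  have m2 : v * u ∈ Γ.KK O₂ v := by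
    have h5 := KK_of c2 h3 ha₂
    rwa [← mul_assoc, cat.eq, M.mtt] at h5
  have e3 : O₁ = O₂ := M.A.unique O₁ hO₁ O₂ hO₂ v hv hv₁ hv₂ _ (O_le_KK ha₁) m2
    (M.not_mem hO₁ ha₁ hv₁ k1 hv (by rw [e1]; exact hp))
  subst e3
  have hu₁ : u ∈ O₁ := e1 ▸ O₁.mul_mem hv₁ ha₁
  have ht₁ : t ∈ O₁ := by
    have h5 := O₁.mul_mem ha₁ ha₂
    rwa [← mul_assoc, s1, one_mul] at h5
  rw [M.ark_eq hO hO₁ ht hu ht₁ hu₁ M.kt hp h2]
  exact hv₁

end

end MF

end Cfsg.Agent.TAB.B.Geo

private theorem dce_b17f1cdc99d5 : _root_.True := by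
  try have : _root_.True := by simp only [_root_.Cfsg.Agent.R2.M7.Geo.bet.eq_1]
  exact _root_.True.intro
end

-- part: TAB/B/Fin/Pair
section
set_option linter.all false
open scoped Cfsg.Agent.FastGrp

/-!
# Pairs of characters whose sum has even values (helper51, TAB)

If `σ` fixes the values of the pair at `g` and `g ^ 2` but exchanges the characters, then half of the sum satisfies
`f (g ^ 2) ≡ f g ^ 2` modulo two.
-/

set_option autoImplicit false

namespace Cfsg.Agent.TAB.B.Pair

open Cfsg Cfsg.Agent.TAB.Eng Cfsg.Agent.TAB.Use Cfsg.Agent.Characters Cfsg.Agent.ODD.Red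

universe u

variable {G : Type u} [Group G] {D : Dat} {T : TD G D} {R : Rows} {χ : ℕ → G → ℂ}

/-- an element of type `t` at whose powers `σ` fixes the values of the characters with a quadratic field -/
def Good2 (T : TD G D) (σ : ℂ ≃+* ℂ) (t : ℕ) : Prop :=
  ∃ g : G, T.ty g = t ∧ ∀ ψ : G → ℂ, IsIrrCharacter G ψ → (∀ (τ : ℂ ≃+* ℂ) (x : G), τ (τ (ψ x)) = ψ x) →
    ∀ n, σ (ψ (g ^ n)) = ψ (g ^ n)

theorem pow_ord (g : G) (n : ℕ) : (g ^ n) ^ orderOf g = 1 := by
  rw [← pow_mul, mul_comm, pow_mul, pow_orderOf_eq_one, one_pow]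

theorem good2_of_conj [Finite G] {σ : ℂ ≃+* ℂ} {g : G} {k : ℕ} (hc : IsConj g (g ^ k))
    (hσ : ∀ z : ℂ, z ^ orderOf g = 1 → σ z = z ^ k) : Good2 T σ (T.ty g) := by
  refine ⟨g, rfl, fun ψ hψ _ n => ?_⟩
  have h1 := GaloisBasic.map_apply (σ : ℂ →+* ℂ) hσ (Core.isIrr_isCharacter hψ) (orderOf_pos g).ne' (pow_ord g n)
  have h2 : IsConj (g ^ n) ((g ^ n) ^ k) := by
    obtain ⟨c, hc⟩ := isConj_iff.1 hc
    exact isConj_iff.2 ⟨c, by rw [← conj_pow, hc, ← pow_mul, ← pow_mul, mul_comm]⟩
  exact h1.trans ((GaloisIrr.isConj_iff_forall_irr.1 h2 ψ hψ).symm)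

theorem good2_of_sq [Finite G] {σ : ℂ ≃+* ℂ} {g : G} {m : ℕ} (hm : m.Coprime (orderOf g))
    (hσ : ∀ z : ℂ, z ^ orderOf g = 1 → σ z = z ^ (m * m)) : Good2 T σ (T.ty g) := by
  refine ⟨g, rfl, fun ψ hψ h n => ?_⟩
  obtain ⟨τ, hτ⟩ := GaloisBasic.exists_ringEquiv_pow (orderOf_pos g).ne' hm
  have hc := Core.isIrr_isCharacter hψ
  have h1 := GaloisBasic.map_apply (σ : ℂ →+* ℂ) hσ hc (orderOf_pos g).ne' (pow_ord g n)
  have h2 := GaloisBasic.map_apply (τ : ℂ →+* ℂ) hτ hc (orderOf_pos g).ne' (pow_ord g n)
  have h3 := GaloisBasic.map_apply (τ : ℂ →+* ℂ) hτ hc (g := (g ^ n) ^ m) (orderOf_pos g).ne'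
    (by rw [← pow_mul g]; exact pow_ord g _)
  have h4 := h τ (g ^ n)
  change τ (ψ (g ^ n)) = _ at h2
  change τ (ψ ((g ^ n) ^ m)) = _ at h3
  change σ (ψ (g ^ n)) = _ at h1
  rw [h2, h3, ← pow_mul (g ^ n)] at h4
  rw [h1, h4]

theorem pair_fix2 [Finite G] (hE : Enum G R.n R.d χ) (hR : Rel T R χ) {r : List (ℕ × ℤ) × List ℤ} (hr : r ∈ R.rel)
    {j k : ℕ} (hj : j < R.n) (hk : k < R.n) (hne : k ≠ j)
    (h : r.1 = [(j, 1), (k, 1)] ∨ r.1 = [(k, 1), (j, 1)]) {σ : ℂ ≃+* ℂ} {t : ℕ} (hG : Good2 T σ t)
    (ht : (2 * r.2.getD (D.pwf t 2) 0 - r.2.getD t 0 ^ 2) % 8 ≠ 0) : Fix σ (χ j) := by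
  have hl : ∀ p ∈ r.1, p.1 = j ∨ p.1 = k := by
    rcases h with h | h <;> rw [h] <;> simp
  have hl' : ∀ p ∈ r.1, p.1 < R.n := fun p hp => by rcases hl p hp with h1 | h1 <;> rw [h1] <;> assumption
  have hcj : coef r.1 j = 1 := by rcases h with h | h <;> rw [h] <;> simp [coef, hne]
  have hck : coef r.1 k = 1 := by rcases h with h | h <;> rw [h] <;> simp [coef, hne.symm]
  have key : ∀ (τ : ℂ ≃+* ℂ) (i : ℕ), i < R.n → coef r.1 i = 1 →
      (∀ g, τ (χ i g) = χ j g) ∨ ∀ g, τ (χ i g) = χ k g := fun τ i hi hc => by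
    obtain ⟨a, ha, h1, -⟩ := hE.exists_map τ hi
    have h2 := coef_map hE hR hr hl' hi ha h1
    obtain ⟨p, hp, h3⟩ := exists_of_coef (c := r.1) (i := a) (by rw [h2, hc]; exact one_ne_zero)
    rcases hl p hp with h4 | h4
    · left; rw [← h4, h3]; exact h1
    · right; rw [← h4, h3]; exact h1
  have hsq : ∀ (τ : ℂ ≃+* ℂ) (x : G), τ (τ (χ j x)) = χ j x := fun τ x => by
    rcases key τ j hj hcj with h1 | h1
    · rw [h1, h1]
    · rcases key τ k hk hck with h2 | h2
      · rw [h1, h2]
      · exact absurd (hE.inj k hk j hj (funext fun g => τ.injective ((h2 g).trans (h1 g).symm))) hne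
  obtain ⟨g, rfl, hg⟩ := hG
  rcases key σ j hj hcj with h1 | h1
  · exact h1
  · exfalso
    have h4 : ∀ n, χ j (g ^ n) + χ j (g ^ n) = ((r.2.getD (T.ty (g ^ n)) 0 : ℤ) : ℂ) := fun n => by
      have h2 := hg _ (hE.irr j hj) hsq n
      rw [← hR r hr (g ^ n)]
      rcases h with h | h <;> rw [h] <;> simp [← h1 (g ^ n), h2]
    have h5 := h4 1
    have h6 := h4 2
    rw [pow_one] at h5
    rw [T.pow] at h6
    obtain ⟨α, β, hα, hβ, h7⟩ := char_delta (Core.isIrr_isCharacter (hE.irr j hj)) Nat.prime_two
    have h8 := (GaloisBasic.isIntegral_apply hα g).sub (GaloisBasic.isIntegral_apply hβ g)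
    have h9 : α g - β g = ((2 * r.2.getD (D.pwf (T.ty g) 2) 0 - r.2.getD (T.ty g) 0 ^ 2 : ℤ) : ℂ) / 8 := by
      have h10 := congrFun h7 g
      simp only [Pi.sub_apply] at h10
      push_cast at h10 ⊢
      rw [← h10, ← h5, ← h6]
      ring
    obtain ⟨c, hc⟩ := GaloisBasic.exists_int_of_isIntegral h8
      ⟨((2 * r.2.getD (D.pwf (T.ty g) 2) 0 - r.2.getD (T.ty g) 0 ^ 2 : ℤ) : ℚ) / 8, by rw [h9]; push_cast; rfl⟩
    rw [h9, div_eq_iff (by norm_num)] at hc
    exact ht (Int.emod_eq_zero_of_dvd ⟨c, by rw [mul_comm 8 c]; exact_mod_cast hc⟩)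

/-- the check that the character `j` is fixed -/
def fix2B (D : Dat) (R : Rows) (L : List ℕ) (j : ℕ) : Bool :=
  (R.rel.any fun r => r.1 == [(j, 1)]) || R.rel.any fun r =>
    (r.1.any fun q => decide (q.1 < R.n) && q.1 != j && (r.1 == [(j, 1), (q.1, 1)] || r.1 == [(q.1, 1), (j, 1)])) &&
      L.any fun t => (2 * r.2.getD (D.pwf t 2) 0 - r.2.getD t 0 ^ 2) % 8 != 0

theorem fix_of_chk2 [Finite G] (hE : Enum G R.n R.d χ) (hR : Rel T R χ) {σ : ℂ ≃+* ℂ} {L : List ℕ}
    (hL : ∀ t ∈ L, Good2 T σ t) {j : ℕ} (hj : j < R.n) (h : fix2B D R L j = true) : Fix σ (χ j) := by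
  simp only [fix2B, Bool.and_eq_true, List.any_eq_true, decide_eq_true_eq, bne_iff_ne, ne_eq, Bool.or_eq_true,
    beq_iff_eq] at h
  rcases h with ⟨r, hr, h⟩ | ⟨r, hr, ⟨q, -, ⟨h3, h4⟩, h5⟩, t, ht, h6⟩
  · intro g
    rw [hR.row hr h, map_intCast]
  · exact pair_fix2 hE hR hr hj h3 h4 h5 (hL t ht) h6

theorem fix_odd [Finite G] (h : Tab T R) {L : List ℕ}
    (hc : ((List.range R.n).all fun j => R.d j % 2 == 0 || fix2B D R L j) = true) {σ : ℂ ≃+* ℂ}
    (hL : ∀ t ∈ L, Good2 T σ t) {ψ : G → ℂ} (hψ : IsIrrCharacter G ψ) (ho : Odd (charDegree ψ)) : Fix σ ψ := by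
  obtain ⟨χ, hE, hR⟩ := h
  obtain ⟨j, hj, rfl⟩ := hE.all ψ hψ
  have h1 := List.all_eq_true.1 hc j (List.mem_range.2 hj)
  rw [hE.charDegree_eq hj, Nat.odd_iff] at ho
  simp only [ho, Bool.or_eq_true, beq_iff_eq, one_ne_zero, false_or] at h1
  exact fix_of_chk2 hE hR hL hj h1

/-- types whose order is not divisible by four -/
theorem good2_two [Finite G] (hI : Inh T) {t m : ℕ} (ht : t < D.n) (hm : Odd m) (h : D.ord t ∣ 2 * m) {τ : ℂ ≃+* ℂ}
    (hτ : Two τ) : Good2 T τ t := by
  obtain ⟨g, rfl⟩ := hI t ht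
  refine good2_of_conj (k := 1) (by rw [pow_one]) fun z hz => ?_
  obtain ⟨c, hc⟩ := h
  have h1 : z ^ m * z ^ m = 1 := by rw [← pow_add, ← two_mul, hc, ← T.ord, pow_mul, hz, one_pow]
  rw [pow_one]
  rcases mul_self_eq_one_iff.1 h1 with h2 | h2
  · exact hτ m z hm h2
  · have h3 := hτ m (-z) hm (by rw [hm.neg_pow, h2, neg_neg])
    rwa [map_neg, neg_inj] at h3

theorem good2_sq [Finite G] (hI : Inh T) {t a b m : ℕ} (h : expB D t a b (m * m) = true) (hm : m.Coprime (D.ord t))
    {σ : ℂ ≃+* ℂ} (hσ : Sig σ) : Good2 T σ t := by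
  obtain ⟨g, rfl⟩ := hI t (by
    simp only [expB, Bool.and_eq_true, decide_eq_true_eq] at h
    exact h.1.1.1.1)
  exact good2_of_sq (by rwa [T.ord]) (hσ.pow_of_chk h)

theorem good2_sig [Finite G] {t : ℕ} (h : SigConj T t) {σ : ℂ ≃+* ℂ} (hσ : Sig σ) : Good2 T σ t := by
  obtain ⟨g, a, b, k, rfl, h1, h2⟩ := h
  exact good2_of_conj h2 (hσ.pow_of_chk h1)

end Cfsg.Agent.TAB.B.Pair

private theorem dce_e0f1aaecb9f6 : _root_.True := by
  try have : _root_.True := by simp only [_root_.Cfsg.Agent.TAB.B.Pair.fix2B.eq_1]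
  exact _root_.True.intro
end

-- part: TAB/Co/Clu
section
prune_inst 0x4010000
set_option linter.all false
open scoped Cfsg.Agent.FastGrp

/-!
# The lemma of the `2 l + 1` vectors (helper88, TAB)

`virt_of_clu` : `2 l + 1` orthonormal functions `f i` with `l * f 0` and `f i ∓ f 0` virtual are virtual (`l` is any
positive number; `virt_of_sq` of helper16 needs `l ^ 2 + 1` functions).
-/

set_option autoImplicit false

namespace Cfsg.Agent.TAB.Co

open Cfsg Cfsg.Agent.TAB.Eng Cfsg.Agent.Characters Cfsg.Agent.Characters.Core Cfsg.Agent.Characters.Brauer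
open Cfsg.Agent.H447.CTab
open scoped ComplexConjugate

universe u

theorem bessel {I : Type*} [Fintype I] {k : ℕ} {L : ℤ} (hL : 0 < L) (b : Fin k → I → ℤ)
    (hG : ∀ i j, ∑ x, b i x * b j x = if i = j then L else 0) (x : I) : ∑ i, b i x * b i x ≤ L := by
  classical
  have h1 : 0 ≤ ∑ y, ((if y = x then L else 0) - ∑ i, b i x * b i y) * ((if y = x then L else 0) - ∑ i, b i x * b i y) :=
    Finset.sum_nonneg fun y _ => mul_self_nonneg _
  have h2 : ∑ y, (∑ i, b i x * b i y) * (∑ i, b i x * b i y) = L * ∑ i, b i x * b i x := by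
    simp only [Finset.sum_mul_sum]
    rw [Finset.sum_comm, Finset.mul_sum]
    refine Finset.sum_congr rfl fun i _ => ?_
    rw [Finset.sum_comm]
    have h3 : ∀ j, ∑ y, b i x * b i y * (b j x * b j y) = b i x * b j x * if i = j then L else 0 := fun j => by
      rw [← hG, Finset.mul_sum]
      exact Finset.sum_congr rfl fun y _ => by ring
    simp only [h3, mul_ite, mul_zero, Finset.sum_ite_eq, Finset.mem_univ, if_true]
    ring
  have h3 : ∀ y, ((if y = x then L else 0) - ∑ i, b i x * b i y) * ((if y = x then L else 0) - ∑ i, b i x * b i y) =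
      (if y = x then L * L - 2 * L * ∑ i, b i x * b i x else 0) + (∑ i, b i x * b i y) * (∑ i, b i x * b i y) := by
    intro y
    by_cases h : y = x
    · rw [if_pos h, if_pos h, h]
      ring
    · rw [if_neg h, if_neg h]
      ring
  rw [Finset.sum_congr rfl fun y _ => h3 y, Finset.sum_add_distrib, h2, Finset.sum_ite_eq', if_pos (Finset.mem_univ _)]
    at h1
  nlinarith

theorem dvd_of_clu {I : Type*} [Fintype I] {l k : ℕ} (hk : 2 * l < k) (b : Fin k → I → ℤ) (b0 : I → ℤ)
    (hG : ∀ i j, ∑ x, b i x * b j x = if i = j then (l : ℤ) ^ 2 else 0)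
    (hb : ∀ i, (∀ x, (l : ℤ) ∣ b i x - b0 x) ∨ ∀ x, (l : ℤ) ∣ b i x + b0 x) (hl : 0 < l) : ∀ x, (l : ℤ) ∣ b0 x := by
  classical
  by_contra hcon
  push Not at hcon
  obtain ⟨x0, hx0⟩ := hcon
  have hl' : (0 : ℤ) < l := by exact_mod_cast hl
  have hl2 : (0 : ℤ) < (l : ℤ) ^ 2 := by positivity
  have he : ∀ i, ∃ e : ℤ, e * e = 1 ∧ ∀ x, (l : ℤ) ∣ e * b i x - b0 x := fun i => by
    rcases hb i with h | h
    · exact ⟨1, by norm_num, fun x => by rw [one_mul]; exact h x⟩
    · exact ⟨-1, by norm_num, fun x => by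
        rw [show -1 * b i x - b0 x = -(b i x + b0 x) by ring, dvd_neg]; exact h x⟩
  choose e he1 he2 using he
  let c : Fin k → I → ℤ := fun i x => e i * b i x
  have hc : ∀ i j, ∑ x, c i x * c j x = if i = j then (l : ℤ) ^ 2 else 0 := fun i j => by
    have h1 : ∑ x, c i x * c j x = e i * e j * ∑ x, b i x * b j x := by
      rw [Finset.mul_sum]
      exact Finset.sum_congr rfl fun x _ => by simp only [c]; ring
    rw [h1, hG]
    split_ifs with h
    · rw [h, he1, one_mul]
    · rw [mul_zero]
  have hne : ∀ i x, ¬ (l : ℤ) ∣ b0 x → c i x ≠ 0 := fun i x hx h => hx (by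
    have h1 : (l : ℤ) ∣ c i x - b0 x := he2 i x
    rwa [h, zero_sub, dvd_neg] at h1)
  have h0 : ∀ i x, (l : ℤ) ∣ b0 x → c i x = 0 := fun i x hx => by
    have h2 : (l : ℤ) ∣ c i x := by simpa using dvd_add (he2 i x) hx
    obtain ⟨d, hd⟩ := h2
    by_contra hn
    have hd0 : d ≠ 0 := fun h => hn (by rw [hd, h, mul_zero])
    have h3 : 1 ≤ d * d := Int.add_one_le_iff.2 (mul_self_pos.2 hd0)
    have hne' : x ≠ x0 := fun h => hx0 (h ▸ hx)
    have h4 : ∑ y ∈ ({x, x0} : Finset I), c i y * c i y ≤ ∑ y, c i y * c i y :=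
      Finset.sum_le_sum_of_subset_of_nonneg (Finset.subset_univ _) fun y _ _ => mul_self_nonneg _
    rw [Finset.sum_pair hne', hc, if_pos rfl, hd] at h4
    have h5 := mul_self_pos.2 (hne i x0 hx0)
    nlinarith
  have h1 : ∀ i j x, c i x = c j x := fun i j x => by
    by_cases hx : (l : ℤ) ∣ b0 x
    · rw [h0 i x hx, h0 j x hx]
    obtain ⟨a, -, ha⟩ := Finset.exists_min_image Finset.univ (fun i => |c i x|) ⟨i, Finset.mem_univ _⟩
    have key : ∀ j, c j x = c a x := fun j => by
      by_contra hj
      have h2 : (l : ℤ) ∣ c j x - c a x := by simpa using dvd_sub (he2 j x) (he2 a x)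
      have h3 : (l : ℤ) ≤ |c j x - c a x| := Int.le_of_dvd (abs_pos.2 (sub_ne_zero.2 hj)) ((dvd_abs _ _).2 h2)
      have h4 : (l : ℤ) ≤ |c j x| + |c a x| := h3.trans (abs_sub _ _)
      have h5 : 1 ≤ |c a x| := Int.add_one_le_iff.2 (abs_pos.2 (hne a x hx))
      have h6 := bessel hl2 c hc x
      rw [← Finset.add_sum_erase _ _ (Finset.mem_univ j)] at h6
      have h7 : ∑ _i ∈ Finset.univ.erase j, |c a x| * |c a x| ≤ ∑ i ∈ Finset.univ.erase j, c i x * c i x :=
        Finset.sum_le_sum fun i _ => by
          rw [← abs_mul_abs_self (c i x)]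
          exact mul_self_le_mul_self (abs_nonneg _) (ha i (Finset.mem_univ _))
      rw [Finset.sum_const, Finset.card_erase_of_mem (Finset.mem_univ _), Finset.card_univ, Fintype.card_fin,
        nsmul_eq_mul] at h7
      have h8 : 2 * (l : ℤ) ≤ ((k - 1 : ℕ) : ℤ) := by exact_mod_cast (by omega : 2 * l ≤ k - 1)
      have h9 := ha j (Finset.mem_univ _)
      rw [← abs_mul_abs_self (c j x)] at h6
      generalize |c a x| = m at h4 h5 h7 h9
      generalize |c j x| = u at h4 h6 h9
      generalize ((k - 1 : ℕ) : ℤ) = n at h7 h8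
      have h10 : 2 * (l : ℤ) * (m * m) ≤ n * (m * m) := mul_le_mul_of_nonneg_right h8 (mul_self_nonneg _)
      have h11 : 2 * (l : ℤ) * m ≤ 2 * l * (m * m) :=
        mul_le_mul_of_nonneg_left (le_mul_of_one_le_left (by omega) h5) (by omega)
      rcases le_or_gt m l with h12 | h12
      · have h13 : ((l : ℤ) - m) * (l - m) ≤ u * u := mul_self_le_mul_self (by omega) (by omega)
        nlinarith
      · nlinarith
    rw [key i, key j]
  have h2 := hc ⟨0, by omega⟩ ⟨1, by omega⟩
  have h3 := hc ⟨0, by omega⟩ ⟨0, by omega⟩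
  rw [if_neg (by simp)] at h2
  rw [if_pos rfl, Finset.sum_congr rfl fun x _ => congrArg _ (h1 ⟨0, by omega⟩ ⟨1, by omega⟩ x), h2] at h3
  omega

variable {G : Type u} [Group G] {D : Dat} {T : TD G D}

theorem gen_of_clu [Finite G] [Fintype G] {l k : ℕ} (hl : 0 < l) (hk : 2 * l < k) (f : Fin k → G → ℂ) (f0 : G → ℂ)
    (hG : ∀ i j, classInner (f i) (f j) = if i = j then 1 else 0)
    (h0 : IsGeneralizedCharacter G fun g => l * f0 g)
    (h : ∀ i, IsGeneralizedCharacter G (fun g => f i g - f0 g) ∨ IsGeneralizedCharacter G fun g => f i g + f0 g) :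
    IsGeneralizedCharacter G f0 := by
  have := finite_irr (G := G)
  have := Fintype.ofFinite (IrrCharacter G)
  have hc : (l : ℂ) ≠ 0 := by exact_mod_cast hl.ne'
  have hlc : IsGeneralizedCharacter G fun _ => (l : ℂ) := natCast_mem (genRing G) l
  have h1 : ∀ i, IsGeneralizedCharacter G fun g => l * f i g := fun i => by
    rcases h i with h2 | h2
    · have h3 := isGeneralizedCharacter_add (isGeneralizedCharacter_mul hlc h2) h0
      refine (funext fun g => ?_ : _ = fun g => l * f i g) ▸ h3
      simp only [Pi.add_apply, Pi.mul_apply]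
      ring
    · have h3 := isGeneralizedCharacter_sub (isGeneralizedCharacter_mul hlc h2) h0
      refine (funext fun g => ?_ : _ = fun g => l * f i g) ▸ h3
      simp only [Pi.sub_apply, Pi.mul_apply]
      ring
  have hL : ∀ φ ψ : G → ℂ, classInner (fun g => l * φ g) ψ = l * classInner φ ψ := fun φ ψ =>
    classInner_smul_left l φ ψ
  have hR : ∀ φ ψ : G → ℂ, classInner φ (fun g => l * ψ g) = l * classInner φ ψ := fun φ ψ =>
    (classInner_smul_right l φ ψ).trans (by rw [Complex.conj_natCast])
  have h2 := dvd_of_clu hk (fun i => mu (h1 i)) (mu h0) (fun i j => ?_) (fun i => ?_) hl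
  · have hcl : IsClassFunction G f0 := fun g c => mul_left_cancel₀ hc (gen_classFunction h0 g c)
    refine isGeneralizedCharacter_of_int hcl fun χ hχ => ?_
    obtain ⟨c, hc'⟩ := h2 ⟨χ, hχ⟩
    refine ⟨c, mul_left_cancel₀ hc ?_⟩
    have h3 := (hL _ _).symm.trans (inner_mu h0 ⟨χ, hχ⟩)
    rw [hc'] at h3
    exact_mod_cast h3
  · have h3 := ((hL _ _).trans (congrArg _ (hR _ _))).symm.trans (inner_sum_mu (h1 i) (h1 j))
    rw [hG] at h3
    have h4 : (((if i = j then (l : ℤ) ^ 2 else 0 : ℤ)) : ℂ) = l * (l * if i = j then 1 else 0) := by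
      split_ifs <;> push_cast <;> ring
    exact_mod_cast h3.symm.trans h4.symm
  · have h3 := fun x => (hL _ _).symm.trans (inner_mu (h1 i) x)
    have h4 := fun x => (hL _ _).symm.trans (inner_mu h0 x)
    refine (h i).imp (fun h5 x => ⟨mu h5 x, ?_⟩) fun h5 x => ⟨mu h5 x, ?_⟩
    · have h6 := (classInner_sub_left _ _ _).symm.trans (inner_mu h5 x)
      have h7 : ((mu (h1 i) x - mu h0 x : ℤ) : ℂ) = ((l * mu h5 x : ℤ) : ℂ) := by
        push_cast
        rw [← h3, ← h4, ← h6]
        ring
      exact_mod_cast h7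
    · have h6 := (classInner_add_left _ _ _).symm.trans (inner_mu h5 x)
      have h7 : ((mu (h1 i) x + mu h0 x : ℤ) : ℂ) = ((l * mu h5 x : ℤ) : ℂ) := by
        push_cast
        rw [← h3, ← h4, ← h6]
        ring
      exact_mod_cast h7

/-- **The lemma of the `2 l + 1` vectors.**  The list `c` consists of signs and indices of orthonormal rows. -/
theorem virt_of_clu [Finite G] (hm : T.Mass) (hl : D.cntL.length = D.n) {l i0 : ℕ} {rows : List (List ℤ)}
    {c : List (ℤ × ℕ)} (h0 : 0 < l) (hk : 2 * l < c.length) (hs : ∀ p ∈ c, p.1 = 1 ∨ p.1 = -1)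
    (hon : okON D rows (c.map Prod.snd) = true) (hv : ∀ x ∈ sqT l i0 c, Virt T (nth (comb rows x))) :
    Virt T (nth (ntd rows [] i0)) := by
  have := Fintype.ofFinite G
  refine gen_of_clu h0 hk (fun i => fn T (ntd rows [] (c.get i).2)) _ (fun i j => ?_) ?_ fun i => ?_
  · have hi : (i : ℕ) < (c.map Prod.snd).length := by rw [List.length_map]; exact i.2
    have hj : (j : ℕ) < (c.map Prod.snd).length := by rw [List.length_map]; exact j.2
    have h1 := of_decide_eq_true (allL_spec (allL_spec hon i (List.mem_range.2 hi)) j (List.mem_range.2 hj))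
    rw [ntd_eq _ _ hi, ntd_eq _ _ hj, List.getElem_map, List.getElem_map] at h1
    refine (inner_of_ip hm hl (z := if i = j then 1 else 0) (h1.trans ?_)).trans ?_
    · simp only [Fin.val_inj, mul_ite, mul_one, mul_zero]
    · split_ifs <;> simp
  · have h1 := hv _ List.mem_cons_self
    simp only [Virt, nth_comb_one, Int.cast_mul, Int.cast_natCast] at h1
    exact h1
  · have h1 := hv _ (List.mem_cons_of_mem _ (List.mem_map_of_mem (List.getElem_mem i.2)))
    simp only [Virt, nth_comb_two, one_mul] at h1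
    rcases hs _ (List.getElem_mem i.2) with h2 | h2
    · left
      simp only [h2, neg_mul, one_mul, ← sub_eq_add_neg, Int.cast_sub] at h1
      exact h1
    · right
      simp only [h2, neg_neg, one_mul, Int.cast_add] at h1
      exact h1

end Cfsg.Agent.TAB.Co
end

-- part: TAB/B/Fin/Bes
section
prune_inst 0x4010000
set_option linter.all false
open scoped Cfsg.Agent.FastGrp

/-!
# Bessel's inequality on all homomorphisms (helper51, TAB)

Let `f a` be orthonormal functions, `o i * g i` and `f a - ∑ c a i * g i` virtual characters.  For an irreducible `χ` the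
numbers `M ⟨f a, χ⟩` are integers with prescribed residues modulo `M`, the sum of their squares is at most `M ^ 2`.
If this is impossible for all nonzero residues (`go`), the functions `g i` and `f a` are virtual characters.

* `tgt C γ J gens` : the values of the relations; `okB` : the check; `virt_stage` : the result.
-/

set_option autoImplicit false

namespace Cfsg.Agent.TAB.B.Bes

open Cfsg Cfsg.Agent.TAB.Eng Cfsg.Agent.Characters Cfsg.Agent.Characters.Core Cfsg.Agent.Characters.Brauer
open Cfsg.Agent.H447.CTab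
open Finset
open scoped ComplexConjugate

universe u

/-! ### The search -/

/-- the square of the distance to the multiples of `M` -/
noncomputable def sqd (M x : ℕ) : ℕ :=
  cond (Nat.ble (Nat.add x x) M) (Nat.mul x x) (Nat.mul (Nat.sub M x) (Nat.sub M x))

theorem sqd_le {M x : ℕ} {y : ℤ} (h : y ≡ x [ZMOD M]) : (sqd M x : ℤ) ≤ y * y := by
  obtain ⟨k, hk⟩ := h.symm.dvd
  have hy : y = x + M * k := by linarith
  have hM : (0 : ℤ) ≤ M := Int.natCast_nonneg _
  have hx : (0 : ℤ) ≤ x := Int.natCast_nonneg _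
  unfold sqd
  cases hb : Nat.ble (Nat.add x x) M with
  | true =>
    have h1 : x + x ≤ M := Nat.le_of_ble_eq_true hb
    have h2 : (x : ℤ) + x ≤ M := by exact_mod_cast h1
    show ((x * x : ℕ) : ℤ) ≤ _
    push_cast
    rcases le_or_gt 0 k with h3 | h3
    · have : 0 ≤ (M : ℤ) * k := mul_nonneg hM h3
      nlinarith
    · have : (M : ℤ) * k ≤ -M := by nlinarith
      nlinarith
  | false =>
    have h1 : ¬ x + x ≤ M := fun h => by
      have := Nat.ble_eq_true_of_le h
      exact absurd (hb.symm.trans this) (by decide)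
    show (((M - x) * (M - x) : ℕ) : ℤ) ≤ _
    rcases le_or_gt x M with h4 | h4
    · have h2 : (M : ℤ) < x + x := by exact_mod_cast Nat.lt_of_not_le h1
      have h5 : (x : ℤ) ≤ M := by exact_mod_cast h4
      push_cast [h4]
      rcases le_or_gt 0 k with h3 | h3
      · have : 0 ≤ (M : ℤ) * k := mul_nonneg hM h3
        nlinarith
      · have : (M : ℤ) * k ≤ -M := by nlinarith
        nlinarith
    · rw [Nat.sub_eq_zero_of_le h4.le]
      exact mul_self_nonneg y

/-- the sum of the squares exceeds `K` -/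
noncomputable def ovr (M K : ℕ) (v : List ℕ) : ℕ → Bool :=
  List.rec (fun _ => false) (fun x _ ih s => frc x fun x' => frc (Nat.add s (sqd M x')) fun s' =>
    cond (Nat.blt K s') true (ih s')) v

theorem ovr_spec {M K : ℕ} (v : List ℕ) : ∀ {s : ℕ}, ovr M K v s = true → ∀ y : ℕ → ℤ,
    (∀ a < v.length, y a ≡ (ntd v 0 a : ℕ) [ZMOD M]) → (K : ℤ) < s + ∑ a ∈ range v.length, y a * y a := by
  induction v with
  | nil => intro s h; cases h
  | cons x v ih =>
    intro s h y hy
    have h1 : (frc x fun x' => frc (s + sqd M x') fun s' => cond (Nat.blt K s') true (ovr M K v s')) = true := h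
    rw [frc_eq, frc_eq] at h1
    have h2 : (sqd M x : ℤ) ≤ y 0 * y 0 := sqd_le (hy 0 (Nat.succ_pos _))
    rw [List.length_cons, sum_range_succ']
    cases hb : Nat.blt K (s + sqd M x) with
    | true =>
      have h3 : K < s + sqd M x := by simpa [Nat.blt_eq] using hb
      have h4 : (K : ℤ) < s + sqd M x := by exact_mod_cast h3
      have h5 : 0 ≤ ∑ a ∈ range v.length, y (a + 1) * y (a + 1) := sum_nonneg fun a _ => mul_self_nonneg _
      linarith
    | false =>
      rw [hb] at h1
      have h3 := ih h1 (fun a => y (a + 1)) fun a ha => hy (a + 1) (Nat.succ_lt_succ ha)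
      push_cast at h3
      linarith

/-- for all `t < n` -/
noncomputable def allT (p : ℕ → Bool) (n : ℕ) : Bool := Nat.rec true (fun t ih => cond (p t) ih false) n

theorem allT_spec {p : ℕ → Bool} : ∀ {n : ℕ}, allT p n = true → ∀ t < n, p t = true
  | 0, _, t, ht => by cases ht
  | n + 1, h, t, ht => by
    have h1 : cond (p n) (allT p n) false = true := h
    cases hp : p n with
    | false => rw [hp] at h1; cases h1
    | true =>
      rw [hp] at h1
      rcases Nat.lt_succ_iff_lt_or_eq.1 ht with h2 | rfl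
      · exact allT_spec h1 t h2
      · exact hp

/-- a generator : order `o`, cofactor `e`, coefficients -/
abbrev Gn : Type := ℕ × ℕ × List ℕ

/-- the coefficient of the generator `i` in the row `a` -/
noncomputable def cf (gens : List Gn) (i a : ℕ) : ℕ := ntd (ntd gens (0, 0, []) i).2.2 0 a

/-- the search over all residues -/
noncomputable def go (M K : ℕ) (gens : List Gn) : List ℕ → Bool → Bool :=
  List.rec (fun v nz => cond nz (ovr M K v 0) true) (fun p _ ih v nz => frcL v fun v' =>
    allT (fun t => frc (Nat.mul t p.2.1) fun te =>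
      ih (zw (fun x y => Nat.mod (Nat.add x (Nat.mul te y)) M) v' p.2.2) (cond nz true (Nat.blt 0 t))) p.1) gens

theorem ntd_zw (f : ℕ → ℕ → ℕ) : ∀ (v w : List ℕ) (a : ℕ), a < v.length → v.length ≤ w.length →
    ntd (zw f v w) 0 a = f (ntd v 0 a) (ntd w 0 a)
  | [], _, _, h, _ => by cases h
  | _ :: _, [], _, _, h => by cases h
  | _ :: _, _ :: _, 0, _, _ => rfl
  | _ :: v, _ :: w, a + 1, h, h' => ntd_zw f v w a (Nat.lt_of_succ_lt_succ h) (Nat.le_of_succ_le_succ h')

theorem length_zw' (f : ℕ → ℕ → ℕ) : ∀ (v w : List ℕ), v.length ≤ w.length → (zw f v w).length = v.length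
  | [], _, _ => rfl
  | _ :: _, [], h => by cases h
  | _ :: v, _ :: w, h => congrArg Nat.succ (length_zw' f v w (Nat.le_of_succ_le_succ h))

theorem go_spec {M K : ℕ} (gens : List Gn) : ∀ {v : List ℕ} {nz : Bool}, go M K gens v nz = true →
    (∀ p ∈ gens, v.length ≤ p.2.2.length) → ∀ t : ℕ → ℕ, (∀ i < gens.length, t i < (ntd gens (0, 0, []) i).1) →
    (nz = true ∨ ∃ i < gens.length, t i ≠ 0) → ∀ y : ℕ → ℤ,
    (∀ a < v.length, y a ≡ (ntd v 0 a : ℕ) +
      ∑ i ∈ range gens.length, (t i * (ntd gens (0, 0, []) i).2.1 * cf gens i a : ℕ) [ZMOD M]) →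
    (K : ℤ) < ∑ a ∈ range v.length, y a * y a := by
  induction gens with
  | nil =>
    intro v nz h _ t _ hz y hy
    rcases hz with rfl | ⟨i, hi, _⟩
    · have h1 := ovr_spec v (s := 0) h y fun a ha => by simpa using hy a ha
      simpa using h1
    · cases hi
  | cons p gens ih =>
    intro v nz h hl t ht hz y hy
    have h1 : (frcL v fun v' => allT (fun t => frc (t * p.2.1) fun te =>
      go M K gens (zw (fun x y => (x + te * y) % M) v' p.2.2) (cond nz true (Nat.blt 0 t))) p.1) = true := h
    rw [frcL_eq] at h1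
    have h2 := allT_spec h1 (t 0) (ht 0 (Nat.succ_pos _))
    rw [frc_eq] at h2
    have h3 := hl p List.mem_cons_self
    have h4 := length_zw' (fun x y => (x + t 0 * p.2.1 * y) % M) v p.2.2 h3
    rw [← h4]
    refine ih h2 (fun q hq => h4 ▸ hl q (List.mem_cons_of_mem _ hq)) (fun i => t (i + 1))
      (fun i hi => ht (i + 1) (Nat.succ_lt_succ hi)) ?_ y fun a ha => ?_
    · rcases hz with rfl | ⟨i, hi, h5⟩
      · exact Or.inl rfl
      · cases i with
        | zero =>
          left
          cases nz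
          · exact Nat.blt_eq.symm ▸ Nat.pos_of_ne_zero h5
          · rfl
        | succ i => exact Or.inr ⟨i, Nat.lt_of_succ_lt_succ hi, h5⟩
    · rw [h4] at ha
      refine (hy a ha).trans ?_
      rw [ntd_zw _ v _ a ha h3, List.length_cons, sum_range_succ', Int.natCast_mod]
      have h6 : ((ntd v 0 a + t 0 * p.2.1 * ntd p.2.2 0 a : ℕ) : ℤ) % M ≡
          ((ntd v 0 a + t 0 * p.2.1 * ntd p.2.2 0 a : ℕ) : ℤ) [ZMOD M] := Int.mod_modEq _ _
      refine Int.ModEq.trans ?_ (h6.symm.add_right _)
      rw [← Nat.cast_add, ← Nat.cast_add, add_assoc, add_comm (∑ _ ∈ _, _)]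
      rfl

/-! ### The lemma -/

variable {G : Type u} [Group G] {D : Dat} {T : TD G D}

theorem gen_sum {r : ℕ} (F : ℕ → G → ℂ) (h : ∀ i < r, IsGeneralizedCharacter G (F i)) :
    IsGeneralizedCharacter G fun x => ∑ i ∈ range r, F i x := by
  have h1 : ∑ i ∈ range r, F i ∈ genRing G := Subring.sum_mem _ fun i hi => h i (mem_range.1 hi)
  refine (funext fun x => ?_ : ∑ i ∈ range r, F i = fun x => ∑ i ∈ range r, F i x) ▸ h1
  rw [Finset.sum_apply]

theorem gen_of_homs [Finite G] [Fintype G] {M k r : ℕ} (hM : 0 < M) (f g : ℕ → G → ℂ) (o e : ℕ → ℕ)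
    (c : ℕ → ℕ → ℕ) (hoe : ∀ i < r, o i * e i = M)
    (hG : ∀ a < k, ∀ b < k, classInner (f a) (f b) = if a = b then 1 else 0)
    (hg : ∀ i < r, IsGeneralizedCharacter G fun x => o i * g i x)
    (hf : ∀ a < k, IsGeneralizedCharacter G fun x => f a x - ∑ i ∈ range r, c i a * g i x)
    (h : ∀ t : ℕ → ℕ, (∀ i < r, t i < o i) → (∃ i < r, t i ≠ 0) → ∀ y : ℕ → ℤ,
      (∀ a < k, y a ≡ ∑ i ∈ range r, (t i * e i * c i a : ℕ) [ZMOD M]) →
      ((M * M : ℕ) : ℤ) < ∑ a ∈ range k, y a * y a) :
    ∀ i < r, IsGeneralizedCharacter G (g i) := by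
  classical
  have := finite_irr (G := G)
  have := Fintype.ofFinite (IrrCharacter G)
  have ho : ∀ i < r, 0 < o i := fun i hi => Nat.pos_of_ne_zero fun h0 => by
    have h1 := hoe i hi
    rw [h0, zero_mul] at h1
    omega
  have hL : ∀ (l : ℂ) (φ ψ : G → ℂ), classInner (fun g => l * φ g) ψ = l * classInner φ ψ := fun l φ ψ =>
    classInner_smul_left l φ ψ
  have hR : ∀ φ ψ : G → ℂ, classInner φ (fun g => (M : ℂ) * ψ g) = M * classInner φ ψ := fun φ ψ =>
    (classInner_smul_right (M : ℂ) φ ψ).trans (by rw [Complex.conj_natCast])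
  have hc : ∀ n : ℕ, IsGeneralizedCharacter G fun _ => (n : ℂ) := fun n => natCast_mem (genRing G) n
  have h0 : ∀ a, ∀ i < r, IsGeneralizedCharacter G fun x => ((e i * c i a : ℕ) : ℂ) * (o i * g i x) := fun a i hi =>
    isGeneralizedCharacter_mul (hc _) (hg i hi)
  have e1 : ∀ a x, (M : ℂ) * f a x = M * (f a x - ∑ i ∈ range r, c i a * g i x) +
      ∑ i ∈ range r, ((e i * c i a : ℕ) : ℂ) * (o i * g i x) := fun a x => by
    rw [mul_sub, mul_sum, sub_add, ← sum_sub_distrib, sum_eq_zero, sub_zero]
    intro i hi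
    rw [← hoe i (mem_range.1 hi)]
    push_cast
    ring
  have h1 : ∀ a < k, IsGeneralizedCharacter G fun x => M * f a x := fun a ha => by
    have h3 := isGeneralizedCharacter_add (isGeneralizedCharacter_mul (hc M) (hf a ha)) (gen_sum _ (h0 a))
    refine (funext fun x => ?_ : _ = fun x => M * f a x) ▸ h3
    exact (e1 a x).symm
  intro i0 hi0
  have hc0 : (o i0 : ℂ) ≠ 0 := by exact_mod_cast (ho i0 hi0).ne'
  have hcl : IsClassFunction G (g i0) := fun x y => mul_left_cancel₀ hc0 (gen_classFunction (hg i0 hi0) x y)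
  refine isGeneralizedCharacter_of_int hcl fun χ hχ => ?_
  let τ : ℕ → ℤ := fun i => if hi : i < r then mu (hg i hi) ⟨χ, hχ⟩ else 0
  have hτ : ∀ i, ∀ hi : i < r, classInner (fun x => o i * g i x) χ = τ i := fun i hi => by
    simp only [τ, dif_pos hi]
    exact inner_mu (hg i hi) ⟨χ, hχ⟩
  by_cases hd : (o i0 : ℤ) ∣ τ i0
  · obtain ⟨z, hz⟩ := hd
    refine ⟨z, mul_left_cancel₀ hc0 ?_⟩
    have h3 := (hL _ _ _).symm.trans (hτ i0 hi0)
    rw [hz] at h3
    exact_mod_cast h3
  · exfalso
    let y : ℕ → ℤ := fun a => if ha : a < k then mu (h1 a ha) ⟨χ, hχ⟩ else 0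
    have hpos : ∀ i < r, (0 : ℤ) < o i := fun i hi => by exact_mod_cast ho i hi
    have ht : ∀ i < r, (((τ i % o i).toNat : ℕ) : ℤ) = τ i % o i := fun i hi =>
      Int.toNat_of_nonneg (Int.emod_nonneg _ (hpos i hi).ne')
    have h2 := h (fun i => (τ i % o i).toNat) (fun i hi => ?_) ⟨i0, hi0, fun h3 => hd ?_⟩ y fun a ha => ?_
    · have h3 := Co.bessel (k := k) (L := (M : ℤ) * M) (by positivity) (fun a => mu (h1 a a.2)) (fun a b => ?_) ⟨χ, hχ⟩
      · rw [sum_range] at h2
        simp only [y, Fin.is_lt, dif_pos] at h2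
        push_cast at h2
        exact absurd h3 (not_le.2 h2)
      · have h3 := ((hL _ _ _).trans (congrArg _ (hR _ _))).symm.trans (inner_sum_mu (h1 a a.2) (h1 b b.2))
        rw [hG a a.2 b b.2] at h3
        have h4 : (((if a = b then (M : ℤ) * M else 0 : ℤ)) : ℂ) = M * (M * if (a : ℕ) = b then 1 else 0) := by
          simp only [Fin.val_inj]
          split_ifs <;> push_cast <;> ring
        exact_mod_cast h3.symm.trans h4.symm
    · have h3 := Int.emod_lt_of_pos (τ i) (hpos i hi)
      rw [← ht i hi] at h3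
      exact_mod_cast h3
    · have h4 := ht i0 hi0
      rw [h3] at h4
      exact Int.dvd_of_emod_eq_zero h4.symm
    · have h3 : (y a : ℂ) = M * mu (hf a ha) ⟨χ, hχ⟩ + ∑ i ∈ range r, ((e i * c i a : ℕ) : ℂ) * τ i := by
        simp only [y, dif_pos ha]
        rw [← inner_mu (h1 a ha), ← inner_mu (hf a ha), ← hL, funext (e1 a)]
        refine (classInner_add_left _ _ _).trans (congrArg _ ?_)
        have h4 : (fun x => ∑ i ∈ range r, ((e i * c i a : ℕ) : ℂ) * (o i * g i x)) =
            ∑ i ∈ range r, fun x => ((e i * c i a : ℕ) : ℂ) * (o i * g i x) := funext fun x => by rw [Finset.sum_apply]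
        refine (congrArg (fun φ => classInner φ χ) h4).trans ((classInner_sum_left _ _ _).trans ?_)
        exact sum_congr rfl fun i hi => (hL _ _ _).trans (congrArg _ (hτ i (mem_range.1 hi)))
      have h4 : y a = M * mu (hf a ha) ⟨χ, hχ⟩ + ∑ i ∈ range r, ((e i * c i a : ℕ) : ℤ) * τ i := by
        exact_mod_cast h3
      rw [h4]
      refine (Int.modEq_zero_iff_dvd.2 (dvd_mul_right _ _)).add (Int.ModEq.sum fun i hi => ?_) |>.trans (by rw [zero_add])
      have hi' := mem_range.1 hi
      rw [Nat.cast_mul, Nat.cast_mul, Nat.cast_mul, ht i hi', ← hoe i hi']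
      refine Int.modEq_iff_dvd.2 ⟨-(c i a * (τ i / o i)), ?_⟩
      have h5 := Int.emod_add_mul_ediv (τ i) (o i)
      push_cast
      linear_combination (e i * c i a : ℤ) * h5

/-! ### Tables given by columns -/

/-- `V - ∑ g i * c i` -/
noncomputable def chain (V : List ℤ) (gens : List Gn) : List ℤ → List ℤ :=
  List.rec (fun _ => V) (fun p _ ih gv => frcZ (Int.neg (nth gv 0)) fun x =>
    axz x (ih gv.tail) (p.2.2.map Int.ofNat)) gens

theorem chain_cons (V : List ℤ) (p : Gn) (gens : List Gn) (gv : List ℤ) :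
    chain V (p :: gens) gv = axz (-nth gv 0) (chain V gens gv.tail) (p.2.2.map Int.ofNat) :=
  frcZ_eq _ fun x => axz x (chain V gens gv.tail) (p.2.2.map Int.ofNat)

theorem length_chain (V : List ℤ) : ∀ (gens : List Gn) (gv : List ℤ), (chain V gens gv).length = V.length
  | [], _ => rfl
  | p :: gens, gv => by rw [chain_cons, length_axz, length_chain V gens]

theorem nth_map_ofNat : ∀ (l : List ℕ) (a : ℕ), nth (l.map Int.ofNat) a = (ntd l 0 a : ℕ)
  | [], _ => rfl
  | _ :: _, 0 => rfl
  | _ :: l, a + 1 => nth_map_ofNat l a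

theorem nth_chain (V : List ℤ) {a : ℕ} (ha : a < V.length) : ∀ (gens : List Gn) (gv : List ℤ),
    nth (chain V gens gv) a = nth V a - ∑ i ∈ range gens.length, cf gens i a * nth gv i
  | [], _ => (sub_zero _).symm
  | p :: gens, gv => by
    rw [chain_cons, nth_axz _ _ _ (by rwa [length_chain]), nth_chain V ha gens, List.length_cons, sum_range_succ',
      nth_map_ofNat]
    simp only [nth_tail]
    show _ = nth V a - (∑ i ∈ range gens.length, (cf gens i a : ℤ) * nth gv (i + 1) + (ntd p.2.2 0 a : ℕ) * nth gv 0)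
    ring

/-- the multiples of the generators, followed by `W` -/
noncomputable def front (W : List ℤ) (gens : List Gn) : List ℤ → List ℤ :=
  List.rec (fun _ => W) (fun p _ ih gv => Int.mul (Int.ofNat p.1) (nth gv 0) :: ih gv.tail) gens

theorem nth_front (W : List ℤ) : ∀ (gens : List Gn) (gv : List ℤ) (i : ℕ), i < gens.length →
    nth (front W gens gv) i = (ntd gens (0, 0, []) i).1 * nth gv i
  | [], _, _, h => by cases h
  | _ :: _, _, 0, _ => rfl
  | _ :: gens, gv, i + 1, h => (nth_front W gens gv.tail i (Nat.lt_of_succ_lt_succ h)).trans (by rw [nth_tail]; rfl)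

theorem nth_front' (W : List ℤ) (a : ℕ) : ∀ (gens : List Gn) (gv : List ℤ),
    nth (front W gens gv) (a + gens.length) = nth W a
  | [], _ => rfl
  | _ :: gens, gv => nth_front' W a gens gv.tail

/-- the code of an integer -/
noncomputable def zzc (z : ℤ) : ℕ := Int.rec (fun n => Nat.mul 2 n) (fun n => Nat.succ (Nat.mul 2 n)) z

/-- the integer of a code -/
noncomputable def zzd (n : ℕ) : ℤ := cond (Nat.beq (Nat.mod n 2) 0) (Int.ofNat (Nat.div n 2)) (Int.negSucc (Nat.div n 2))

theorem zzd_zzc : ∀ z : ℤ, zzd (zzc z) = z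
  | Int.ofNat n => by
    show cond (Nat.beq (2 * n % 2) 0) (Int.ofNat (2 * n / 2)) (Int.negSucc (2 * n / 2)) = _
    rw [Nat.mul_mod_right, Nat.mul_div_cancel_left _ (by norm_num)]
    rfl
  | Int.negSucc n => by
    show cond (Nat.beq ((2 * n + 1) % 2) 0) (Int.ofNat ((2 * n + 1) / 2)) (Int.negSucc ((2 * n + 1) / 2)) = _
    rw [show (2 * n + 1) % 2 = 1 by omega, show (2 * n + 1) / 2 = n by omega]
    rfl

/-- the codes in fields of 64 bits -/
noncomputable def zzp (col : List ℤ) : ℕ := List.rec 0 (fun a _ ih => Nat.add (zzc a) (Nat.mul 18446744073709551616 ih)) col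

theorem zzp_nth : ∀ (col : List ℤ) (j : ℕ), (∀ a ∈ col, zzc a < 18446744073709551616) →
    zzd (zzp col >>> (64 * j) % 18446744073709551616) = nth col j
  | [], j, _ => by
    show zzd (0 >>> _ % _) = _
    rw [Nat.zero_shiftRight]
    rfl
  | a :: col, 0, h => by
    show zzd ((zzc a + 18446744073709551616 * zzp col) % _) = a
    rw [Nat.add_mul_mod_self_left, Nat.mod_eq_of_lt (h a List.mem_cons_self), zzd_zzc]
  | a :: col, j + 1, h => by
    show zzd ((zzc a + 18446744073709551616 * zzp col) >>> (64 * (j + 1)) % _) = nth col j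
    rw [Nat.mul_succ, Nat.add_comm (64 * j), Nat.shiftRight_add, Nat.shiftRight_eq_div_pow _ 64,
      show 2 ^ 64 = 18446744073709551616 by norm_num, Nat.add_mul_div_left _ _ (by norm_num),
      Nat.div_eq_of_lt (h a List.mem_cons_self), Nat.zero_add]
    exact zzp_nth col j fun b hb => h b (List.mem_cons_of_mem _ hb)

/-- the entries at the positions `J` -/
noncomputable def selJ (col : List ℤ) (J : List ℕ) : List ℤ :=
  cond (allL (fun a => Nat.blt (zzc a) 18446744073709551616) col)
    (frc (zzp col) fun P => J.map fun j => frc (Nat.mod (Nat.shiftRight P (Nat.mul 64 j)) 18446744073709551616) zzd)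
    (J.map (nth col))

theorem selJ_eq (col : List ℤ) (J : List ℕ) : selJ col J = J.map (nth col) := by
  unfold selJ
  cases h : allL (fun a => Nat.blt (zzc a) 18446744073709551616) col with
  | false => rfl
  | true =>
    rw [cond_true, frc_eq]
    refine List.map_congr_left fun j _ => ?_
    rw [frc_eq]
    exact zzp_nth col j fun a ha => Nat.blt_eq.mp (allL_spec h a ha)

/-- the values of the relations at the type `t` -/
noncomputable def tgt (C : List (List ℤ)) (γ : List (List (ℤ × ℕ))) (J : List ℕ) (gens : List Gn) (t : ℕ) : List ℤ :=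
  frcLZ (cmbs C γ t) fun gv => front (chain (selJ (ntd C [] t) J) gens gv) gens gv

theorem nth_cmbs' (C : List (List ℤ)) (t : ℕ) : ∀ (γ : List (List (ℤ × ℕ))) (i : ℕ),
    nth (cmbs C γ t) i = cmb C (ntd γ [] i) t
  | [], _ => rfl
  | _ :: _, 0 => rfl
  | _ :: γ, i + 1 => nth_cmbs' C t γ i

theorem nth_map_nth (col : List ℤ) : ∀ (J : List ℕ) (a : ℕ), a < J.length → nth (J.map (nth col)) a = nth col (ntd J 0 a)
  | [], _, h => by cases h
  | _ :: _, 0, _ => rfl
  | _ :: J, a + 1, h => nth_map_nth col J a (Nat.lt_of_succ_lt_succ h)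

theorem tgt_gen (C : List (List ℤ)) (γ : List (List (ℤ × ℕ))) (J : List ℕ) (gens : List Gn) {i : ℕ}
    (hi : i < gens.length) : (fun t => nth (tgt C γ J gens t) i) =
      fun t => ((ntd gens (0, 0, []) i).1 : ℤ) * cmb C (ntd γ [] i) t := by
  funext t
  rw [tgt, frcLZ_eq, nth_front _ _ _ _ hi, nth_cmbs']

theorem tgt_row (C : List (List ℤ)) (γ : List (List (ℤ × ℕ))) (J : List ℕ) (gens : List Gn) {a : ℕ}
    (ha : a < J.length) : (fun t => nth (tgt C γ J gens t) (a + gens.length)) =
      fun t => rw C (ntd J 0 a) t - ∑ i ∈ range gens.length, cf gens i a * cmb C (ntd γ [] i) t := by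
  funext t
  rw [tgt, frcLZ_eq, selJ_eq, nth_front', nth_chain _ (by rwa [List.length_map]), nth_map_nth _ _ _ ha]
  simp only [nth_cmbs']
  rfl

/-- **the check**: the first `k1` rows of `J` are orthonormal -/
noncomputable def okB (ms : List (ℕ × ℕ)) (γ : List (List (ℤ × ℕ))) (J : List ℕ) (k1 M : ℕ) (gens : List Gn) : Bool :=
  (Nat.blt 0 M && Nat.ble k1 J.length && allL (fun j => Nat.blt j ms.length) J &&
    allL (fun c => allL (fun p => Nat.blt p.2 ms.length) c) γ) &&
  (allL (fun j => Nat.beq (mF ms j) 1 && Nat.beq (sF ms j) 0) (J.take k1) && decide (J.take k1).Nodup &&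
    allL (fun p => Nat.beq (p.1 * p.2.1) M && Nat.ble k1 p.2.2.length) gens) &&
  go M (M * M) gens (List.replicate k1 0) false

theorem ntd_mem'' {β : Type} (l : List β) (d : β) {j : ℕ} (h : j < l.length) : ntd l d j ∈ l :=
  ntd_eq l d h ▸ List.getElem_mem h

theorem good_sum {l s r : ℕ} (F : ℕ → ℕ → ℤ) (h : ∀ i < r, Good T l s (F i)) :
    Good T l s fun t => ∑ i ∈ range r, F i t := by
  intro R b h1 h2 h3 h4
  induction r with
  | zero => exact GoodAt.zero
  | succ r ih =>
    simp only [sum_range_succ]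
    exact (ih fun i hi => h i (Nat.lt_succ_of_lt hi)).add (h r (Nat.lt_succ_self r) R b h1 h2 h3 h4)

theorem virt_sum {r : ℕ} (F : ℕ → ℕ → ℤ) (h : ∀ i < r, Virt T (F i)) : Virt T fun t => ∑ i ∈ range r, F i t := by
  induction r with
  | zero => exact Virt.const 0
  | succ r ih =>
    simp only [sum_range_succ]
    exact (ih fun i hi => h i (Nat.lt_succ_of_lt hi)).add (h r (Nat.lt_succ_self r))

/-- the relations are virtual -/
theorem virt_of_rel [Finite G] (hm : T.Mass) {C : List (List ℤ)} {ms : List (ℕ × ℕ)}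
    (hG : ∀ i < ms.length, ∀ j < ms.length, ipF D (rw C i) (rw C j) = D.N * gam (mF ms) (sF ms) i j)
    {γ : List (List (ℤ × ℕ))} {J : List ℕ} {k1 M : ℕ} {gens : List Gn} (h : okB ms γ J k1 M gens = true)
    (hv : ∀ i < J.length + gens.length, Virt T fun t => nth (tgt C γ J gens t) i) : ∀ j ∈ J, Virt T (rw C j) := by
  have := Fintype.ofFinite G
  simp only [okB, Bool.and_eq_true, Nat.blt_eq, Nat.ble_eq, decide_eq_true_eq] at h
  obtain ⟨⟨⟨⟨⟨a1, a2⟩, a3⟩, -⟩, ⟨b1, b2⟩, b3⟩, c1⟩ := h
  have h1 : ∀ a < J.length, Virt T fun t =>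
      rw C (ntd J 0 a) t - ∑ i ∈ range gens.length, cf gens i a * cmb C (ntd γ [] i) t := fun a ha =>
    tgt_row C γ J gens ha ▸ hv _ (Nat.add_lt_add_right ha _)
  have hk : (J.take k1).length = k1 := List.length_take_of_le a2
  have h2 : ∀ a, ∀ ha : a < k1, ntd J 0 a = (J.take k1)[a]'(hk.symm ▸ ha) := fun a ha => by
    rw [ntd_eq J 0 (ha.trans_le a2), List.getElem_take]
  have h3 : ∀ i < gens.length, Virt T (cmb C (ntd γ [] i)) := by
    refine gen_of_homs (k := k1) a1 (fun a x => (rw C (ntd J 0 a) (T.ty x) : ℂ))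
      (fun i x => (cmb C (ntd γ [] i) (T.ty x) : ℂ)) (fun i => (ntd gens (0, 0, []) i).1)
      (fun i => (ntd gens (0, 0, []) i).2.1) (cf gens) (fun i hi => ?_) (fun a ha b hb => ?_) (fun i hi => ?_)
      (fun a ha => ?_) fun t ht hz y hy => ?_
    · have h4 := allL_spec b3 _ (ntd_mem'' gens (0, 0, []) hi)
      rw [Bool.and_eq_true] at h4
      exact Nat.eq_of_beq_eq_true h4.1
    · have h4 := allL_spec b1 _ (List.getElem_mem (hk.symm ▸ ha : a < (J.take k1).length))
      rw [Bool.and_eq_true, ← h2 a ha] at h4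
      refine (inner_of_ipF hm (hG _ (Nat.blt_eq ▸ allL_spec a3 _ (ntd_mem'' J 0 (ha.trans_le a2))) _
        (Nat.blt_eq ▸ allL_spec a3 _ (ntd_mem'' J 0 (hb.trans_le a2))))).trans ?_
      rw [gam, Nat.eq_of_beq_eq_true h4.1, Nat.eq_of_beq_eq_true h4.2]
      by_cases hab : a = b
      · rw [if_pos hab, if_pos (by rw [hab])]
        simp
      · rw [if_neg hab, if_neg fun h5 => hab ?_, if_neg fun h5 => h5.2 rfl, Int.cast_zero]
        rw [h2 a ha, h2 b hb] at h5
        exact (List.Nodup.getElem_inj_iff b2).1 h5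
    · have h4 : Virt T _ := tgt_gen C γ J gens hi ▸ hv i (hi.trans_le (Nat.le_add_left _ _))
      simp only [Virt, Int.cast_mul, Int.cast_natCast] at h4
      exact h4
    · have h4 := h1 a (ha.trans_le a2)
      simp only [Virt, Int.cast_sub, Int.cast_sum, Int.cast_mul, Int.cast_natCast] at h4
      exact h4
    · have h4 := go_spec gens c1 (fun p hp => ?_) t ht (Or.inr hz) y fun a ha => ?_
      · rwa [List.length_replicate] at h4
      · have h5 := allL_spec b3 p hp
        rw [Bool.and_eq_true] at h5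
        rw [List.length_replicate]
        exact Nat.le_of_ble_eq_true h5.2
      · rw [ntd_eq _ _ ha, List.getElem_replicate, Nat.cast_zero, zero_add]
        rw [List.length_replicate] at ha
        rw [Nat.cast_sum]
        exact hy a ha
  intro j hj
  obtain ⟨a, ha, rfl⟩ := List.getElem_of_mem hj
  rw [← ntd_eq J 0 ha]
  refine ((h1 a ha).add (virt_sum (fun i t => cf gens i a * cmb C (ntd γ [] i) t) fun i hi =>
    (h3 i hi).smul _)).congr fun t _ => sub_add_cancel _ _

/-- **One stage** : on every section either all the rows or the relations satisfy the local condition. -/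
theorem virt_stage [Finite G] (hm : T.Mass) {PL : List (ℕ × ℕ × List ℕ)} (hP : okPrimes D PL = true)
    {C : List (List ℤ)} {ms : List (ℕ × ℕ)}
    (hG : ∀ i < ms.length, ∀ j < ms.length, ipF D (rw C i) (rw C j) = D.N * gam (mF ms) (sF ms) i j)
    {γ : List (List (ℤ × ℕ))} {J : List ℕ} {k1 M : ℕ} {gens : List Gn} (h : okB ms γ J k1 M gens = true)
    (hv : ∀ x ∈ PL, ∀ s ∈ x.2.2, (∀ i < ms.length, Good T x.1 s (rw C i)) ∨
      ∀ i < J.length + gens.length, Good T x.1 s fun t => nth (tgt C γ J gens t) i) : ∀ j ∈ J, Virt T (rw C j) := by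
  refine virt_of_rel hm hG h fun i hi => virt_of_good hm.1 hP fun x hx s hs => ?_
  rcases hv x hx s hs with h1 | h1
  · simp only [okB, Bool.and_eq_true, Nat.blt_eq, Nat.ble_eq, decide_eq_true_eq] at h
    obtain ⟨⟨⟨⟨-, a3⟩, a4⟩, -⟩, -⟩ := h
    have h2 : ∀ i, Good T x.1 s (cmb C (ntd γ [] i)) := fun i => by
      refine Good.cmb fun p hp => h1 _ ?_
      rcases ntd_mem γ [] i with h3 | h3
      · rw [h3] at hp
        cases hp
      · exact Nat.blt_eq ▸ allL_spec (allL_spec a4 _ h3) p hp
    rcases Nat.lt_or_ge i gens.length with h3 | h3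
    · rw [tgt_gen C γ J gens h3]
      exact fun R b h4 h5 h6 h7 => (h2 i R b h4 h5 h6 h7).smul _
    · obtain ⟨a, rfl⟩ := Nat.exists_eq_add_of_le' h3
      have ha : a < J.length := Nat.lt_of_add_lt_add_right hi
      rw [tgt_row C γ J gens ha]
      intro R b h4 h5 h6 h7
      have h8 := (h1 _ (Nat.blt_eq ▸ allL_spec a3 _ (ntd_mem'' J 0 ha)) R b h4 h5 h6 h7).add
        ((good_sum (r := gens.length) (fun i t => cf gens i a * cmb C (ntd γ [] i) t)
          (fun i _ R b h4 h5 h6 h7 => (h2 i R b h4 h5 h6 h7).smul _) R b h4 h5 h6 h7).smul (-1))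
      simp only [neg_one_mul, ← sub_eq_add_neg] at h8
      exact h8
  · exact h1 i hi

end Cfsg.Agent.TAB.B.Bes

private theorem dce_3cde9cfe8f74 : _root_.True := by
  try have : _root_.True := by simp only [_root_.Cfsg.Agent.TAB.B.Bes.tgt.eq_1]
  try have : _root_.True := by simp only [_root_.Cfsg.Agent.TAB.B.Bes.okB.eq_1]
  exact _root_.True.intro
end

-- part: TAB/B/Fin/Bes2
section
set_option linter.all false
open scoped Cfsg.Agent.FastGrp

/-!
# Splitting the search; the table from columns with rows of norms one and two (helper51, TAB)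
-/

set_option autoImplicit false

namespace Cfsg.Agent.TAB.B.Bes

open Cfsg Cfsg.Agent.TAB.Eng Cfsg.Agent.TAB.Use
open Finset

universe u

theorem allT_of {p : ℕ → Bool} : ∀ {n : ℕ}, (∀ t < n, p t = true) → allT p n = true
  | 0, _ => rfl
  | n + 1, h => by
    show cond (p n) (allT p n) false = true
    rw [h n (Nat.lt_succ_self n)]
    exact allT_of fun t ht => h t (Nat.lt_succ_of_lt ht)

theorem allL_of {β : Type} {f : β → Bool} : ∀ {r : List β}, (∀ a ∈ r, f a = true) → allL f r = true
  | [], _ => rfl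
  | a :: r, h => by
    show cond (f a) (allL f r) false = true
    rw [h a List.mem_cons_self]
    exact allL_of fun b hb => h b (List.mem_cons_of_mem _ hb)

/-- one step of the search -/
noncomputable def stp (M : ℕ) (p : Gn) (v : List ℕ) (t : ℕ) : List ℕ :=
  zw (fun x y => Nat.mod (Nat.add x (Nat.mul (Nat.mul t p.2.1) y)) M) v p.2.2

theorem go_cons {M K : ℕ} {p : Gn} {gens : List Gn} {v : List ℕ} {nz : Bool}
    (h : ∀ t < p.1, go M K gens (stp M p v t) (cond nz true (Nat.blt 0 t)) = true) :
    go M K (p :: gens) v nz = true := by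
  refine (frcL_eq v fun v' => allT (fun t => frc (Nat.mul t p.2.1) fun te => go M K gens
    (zw (fun x y => Nat.mod (Nat.add x (Nat.mul te y)) M) v' p.2.2) (cond nz true (Nat.blt 0 t))) p.1).trans ?_
  exact allT_of fun t ht => (frc_eq _ _).trans (h t ht)

/-- the values as digits -/
noncomputable def hzn (Z : ℕ) (f : ℕ → ℕ) (o : ℕ) : ℕ := Nat.rec 0 (fun t ih => Nat.add (f t) (Nat.mul Z ih)) o

theorem hzn_add (Z : ℕ) (f g : ℕ → ℕ) : ∀ o, hzn Z f o + hzn Z g o = hzn Z (fun t => f t + g t) o
  | 0 => rfl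
  | o + 1 => by
    show f o + Z * hzn Z f o + (g o + Z * hzn Z g o) = f o + g o + Z * hzn Z _ o
    rw [← hzn_add Z f g o]
    ring

theorem hzn_zero (Z : ℕ) : ∀ o, hzn Z (fun _ => 0) o = 0
  | 0 => rfl
  | o + 1 => by
    show 0 + Z * hzn Z _ o = 0
    rw [hzn_zero Z o]
    rfl

/-- a test on all digits -/
noncomputable def allDg (Z : ℕ) (p : ℕ → ℕ → Bool) (o : ℕ) : ℕ → Bool :=
  Nat.rec (fun _ => true) (fun t ih P => cond (p t (Nat.mod P Z)) (frc (Nat.div P Z) ih) false) o

theorem allDg_spec {Z : ℕ} {p : ℕ → ℕ → Bool} {f : ℕ → ℕ} (hf : ∀ t, f t < Z) :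
    ∀ o, allDg Z p o (hzn Z f o) = true → ∀ t < o, p t (f t) = true
  | 0, _, _, ht => by cases ht
  | o + 1, h, t, ht => by
    have h1 : cond (p o ((f o + Z * hzn Z f o) % Z)) (frc ((f o + Z * hzn Z f o) / Z) (allDg Z p o)) false = true := h
    rw [frc_eq, Nat.add_mul_mod_self_left, Nat.mod_eq_of_lt (hf o), Nat.add_mul_div_left _ _ (Nat.zero_lt_of_lt (hf o)),
      Nat.div_eq_of_lt (hf o), Nat.zero_add] at h1
    cases hp : p o (f o) with
    | false => rw [hp] at h1; cases h1
    | true =>
      rw [hp] at h1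
      rcases Nat.lt_succ_iff_lt_or_eq.1 ht with h2 | rfl
      · exact allDg_spec hf o h1 t h2
      · exact hp

/-- the squares for all multiples of the last generator in one row -/
noncomputable def tqs (Z M e o x y : ℕ) : ℕ :=
  hzn Z (fun t => frc (Nat.mod (Nat.add x (Nat.mul (Nat.mul t e) y)) M) (sqd M)) o

/-- the sums of the squares for all multiples of the last generator -/
noncomputable def sqs (Z M e o : ℕ) (v : List ℕ) : List ℕ → ℕ :=
  List.rec (fun _ => 0) (fun x _ ih c => List.rec 0 (fun y c' _ => Nat.add (tqs Z M e o x y) (ih c')) c) v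

theorem sqs_eq (Z M e o : ℕ) : ∀ v c : List ℕ, sqs Z M e o v c =
    hzn Z (fun t => ((zw (fun x y => Nat.mod (Nat.add x (Nat.mul (Nat.mul t e) y)) M) v c).map (sqd M)).sum) o
  | [], _ => (hzn_zero Z o).symm
  | _ :: _, [] => (hzn_zero Z o).symm
  | x :: v, y :: c => by
    show tqs Z M e o x y + sqs Z M e o v c = _
    rw [sqs_eq Z M e o v c, tqs, hzn_add]
    simp only [frc_eq]
    rfl

theorem sqd_bd (M x : ℕ) : sqd M x ≤ M * M := by
  unfold sqd
  cases h : Nat.ble (Nat.add x x) M with
  | true =>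
    have h1 : x ≤ M := le_trans (Nat.le_add_right x x) (Nat.le_of_ble_eq_true h)
    exact Nat.mul_le_mul h1 h1
  | false => exact Nat.mul_le_mul (Nat.sub_le _ _) (Nat.sub_le _ _)

theorem sum_bd (M : ℕ) : ∀ v : List ℕ, (v.map (sqd M)).sum ≤ v.length * (M * M)
  | [] => Nat.zero_le _
  | x :: v => by
    rw [List.map_cons, List.sum_cons, List.length_cons, Nat.succ_mul, Nat.add_comm]
    exact Nat.add_le_add (sum_bd M v) (sqd_bd M x)

theorem length_zw_le (f : ℕ → ℕ → ℕ) : ∀ v w : List ℕ, (zw f v w).length ≤ v.length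
  | [], _ => le_rfl
  | _ :: _, [] => Nat.zero_le _
  | _ :: v, _ :: w => Nat.succ_le_succ (length_zw_le f v w)

theorem ovr_of {M K : ℕ} : ∀ (v : List ℕ) (s : ℕ), s ≤ K → K < s + (v.map (sqd M)).sum → ovr M K v s = true
  | [], _, h1, h2 => absurd h2 (Nat.not_lt.2 h1)
  | x :: v, s, _, h2 => by
    show (frc x fun x' => frc (s + sqd M x') fun s' => cond (Nat.blt K s') true (ovr M K v s')) = true
    rw [frc_eq, frc_eq]
    cases hb : Nat.blt K (s + sqd M x) with
    | true => rfl
    | false =>
      refine ovr_of v _ (Nat.le_of_not_lt fun h => ?_) (by rwa [List.map_cons, List.sum_cons, ← Nat.add_assoc] at h2)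
      rw [Nat.blt_eq.mpr h] at hb
      cases hb

/-- the search, all multiples of the last generator at once -/
noncomputable def goF (Z M K : ℕ) (gens : List Gn) : List ℕ → Bool → Bool :=
  List.rec (fun v nz => cond nz (ovr M K v 0) true) (fun p gs ih v nz => frcL v fun v' => List.rec
    (frc (sqs Z M p.2.1 p.1 v' p.2.2) (allDg Z (fun t s => cond (cond nz true (Nat.blt 0 t)) (Nat.blt K s) true) p.1))
    (fun _ _ _ => allT (fun t => frc (Nat.mul t p.2.1) fun te =>
      ih (zw (fun x y => Nat.mod (Nat.add x (Nat.mul te y)) M) v' p.2.2) (cond nz true (Nat.blt 0 t))) p.1) gs) gens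

theorem go_of_goF {Z M K : ℕ} : ∀ (gens : List Gn) (v : List ℕ) (nz : Bool), v.length * (M * M) < Z →
    goF Z M K gens v nz = true → go M K gens v nz = true
  | [], _, _, _, h => h
  | [p], v, nz, hZ, h => by
    have h1 := (frcL_eq v fun v' => frc (sqs Z M p.2.1 p.1 v' p.2.2)
      (allDg Z (fun t s => cond (cond nz true (Nat.blt 0 t)) (Nat.blt K s) true) p.1)).symm.trans h
    rw [frc_eq, sqs_eq] at h1
    refine go_cons fun t ht => ?_
    have h2 := allDg_spec (fun t => lt_of_le_of_lt ((sum_bd M _).trans (Nat.mul_le_mul_right _ (length_zw_le _ _ _))) hZ)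
      _ h1 t ht
    show cond (cond nz true (Nat.blt 0 t)) (ovr M K (stp M p v t) 0) true = true
    revert h2
    cases cond nz true (Nat.blt 0 t) with
    | false => exact fun _ => rfl
    | true => exact fun h2 => ovr_of _ 0 (Nat.zero_le _) (by rw [Nat.zero_add]; exact Nat.blt_eq.mp h2)
  | p :: q :: gens, v, nz, hZ, h => by
    have h1 := (frcL_eq v fun v' => allT (fun t => frc (Nat.mul t p.2.1) fun te => goF Z M K (q :: gens)
      (zw (fun x y => Nat.mod (Nat.add x (Nat.mul te y)) M) v' p.2.2) (cond nz true (Nat.blt 0 t))) p.1).symm.trans h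
    refine go_cons fun t ht => go_of_goF (q :: gens) _ _
      (lt_of_le_of_lt (Nat.mul_le_mul_right _ (length_zw_le _ _ _)) hZ) ((frc_eq _ _).symm.trans (allT_spec h1 t ht))

/-- the check without the search -/
noncomputable def okB0 (ms : List (ℕ × ℕ)) (γ : List (List (ℤ × ℕ))) (J : List ℕ) (k1 M : ℕ) (gens : List Gn) : Bool :=
  (Nat.blt 0 M && Nat.ble k1 J.length && allL (fun j => Nat.blt j ms.length) J &&
    allL (fun c => allL (fun p => Nat.blt p.2 ms.length) c) γ) &&
  (allL (fun j => Nat.beq (mF ms j) 1 && Nat.beq (sF ms j) 0) (J.take k1) && decide (J.take k1).Nodup &&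
    allL (fun p => Nat.beq (p.1 * p.2.1) M && Nat.ble k1 p.2.2.length) gens)

theorem okB_of {ms : List (ℕ × ℕ)} {γ : List (List (ℤ × ℕ))} {J : List ℕ} {k1 M : ℕ} {gens : List Gn}
    (h1 : okB0 ms γ J k1 M gens = true) (h2 : go M (M * M) gens (List.replicate k1 0) false = true) :
    okB ms γ J k1 M gens = true :=
  (Bool.and_eq_true _ _).mpr ⟨h1, h2⟩

theorem okB_fast {ms : List (ℕ × ℕ)} {γ : List (List (ℤ × ℕ))} {J : List ℕ} {k1 M : ℕ} {gens : List Gn} (Z K : ℕ)
    (h0 : k1 * (M * M) < Z ∧ M * M = K) (h1 : okB0 ms γ J k1 M gens = true)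
    (h2 : goF Z M K gens (List.replicate k1 0) false = true) : okB ms γ J k1 M gens = true :=
  okB_of h1 (h0.2 ▸ go_of_goF gens _ _ (by rw [List.length_replicate]; exact h0.1) h2)

/-! ### The table -/

/-- the rows `i0, …, i0 + n - 1` -/
noncomputable def rowsL (C : List (List ℤ)) (i0 n : ℕ) : List (List ℤ) := (List.range' i0 n).map (rwL C)

theorem rw'_rowsL (C : List (List ℤ)) (a b : ℕ) {j : ℕ} (hj : j < a + b) :
    Sm2.rw' (rowsL C 0 a) (rowsL C a b) j = rwL C j := by
  have h : rowsL C 0 a ++ rowsL C a b = rowsL C 0 (a + b) := by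
    rw [rowsL, rowsL, rowsL, ← List.map_append]
    congr 1
    simpa using List.range'_append_1 (s := 0) (m := a) (n := b)
  rw [Sm2.rw', h, rowsL, List.getD_eq_getElem _ _ (by simpa using hj), List.getElem_map, List.getElem_range']
  simp

/-- the final check : `a` rows of norm one, `b` rows of norm two, `reg` twice the degrees -/
noncomputable def okT (D : Dat) (C : List (List ℤ)) (ms : List (ℕ × ℕ)) (a b : ℕ) (reg : List ℤ) : Bool :=
  (Nat.beq (D.ord 0) 1 && decide (ms = List.replicate a (1, 0) ++ List.replicate b (2, 0)) &&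
    Nat.beq reg.length (a + b) && okRho (2 * D.N) reg C) &&
  (allL (fun j => frcZ (rw C j 0) fun d => decide (0 < d) &&
      decide (nth reg j = cond (Nat.blt j a) (2 * d) d)) (List.range (a + b)) &&
    allL (fun j => allL (fun k => (List.range D.n).any (Sm2.sepB D (rwL C j) (rwL C k))) (List.range' a (j - a)))
      (List.range' a b))

variable {G : Type u} [Group G] [Finite G] {D : Dat} {T : TD G D}

theorem ip_eq {D : Dat} (hL : D.okLen) (v w : List ℤ) : ip D v w = ipF D (nth v) (nth w) := by
  rw [ip, ipL_eq, hL.2.1]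
  rfl

theorem ntd_two {a b j : ℕ} (hj : j < a + b) :
    ntd (List.replicate a ((1, 0) : ℕ × ℕ) ++ List.replicate b (2, 0)) (0, 0) j = (if j < a then 1 else 2, 0) := by
  rw [ntd_eq _ _ (by simpa using hj), List.getElem_append]
  simp only [List.length_replicate, List.getElem_replicate]
  split_ifs <;> rfl

/-- **the table** -/
theorem tab_of_two (hm : T.Mass) (hL : D.okLen) (h1 : T.ty 1 = 0) {C : List (List ℤ)} {ms : List (ℕ × ℕ)}
    {a b mx B : ℕ} {reg : List ℤ} (hG : chkG D C ms mx B = true) (hF : okT D C ms a b reg = true)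
    (hv : ∀ j < a + b, Virt T (rw C j)) : Tab T (Sm2.mkRows (rowsL C 0 a) (rowsL C a b)) := by
  have hG' := (gram_of_chkG hL hG).2
  simp only [okT, Bool.and_eq_true, Nat.beq_eq, decide_eq_true_eq] at hF
  obtain ⟨⟨⟨⟨a1, rfl⟩, a3⟩, a4⟩, b1, b2⟩ := hF
  have ha : (rowsL C 0 a).length = a := by simp [rowsL]
  have hb : (rowsL C a b).length = b := by simp [rowsL]
  have hp : ∀ j < a + b, 0 < rw C j 0 ∧ nth reg j = Sm2.wt (rowsL C 0 a) (rowsL C a b) j := fun j hj => by
    have h2 := allL_spec b1 j (List.mem_range.2 hj)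
    rw [frcZ_eq, Bool.and_eq_true, decide_eq_true_eq, decide_eq_true_eq] at h2
    refine ⟨h2.1, h2.2.trans ?_⟩
    rw [Sm2.wt, ha, rw'_rowsL C a b hj, nth_rwL, Bool.cond_eq_ite]
    simp only [Nat.blt_eq]
  refine Sm2.tab_of_rows hm h1 (fun r hr => ?_) ?_
  · rcases List.mem_append.1 hr with h2 | h2 <;> obtain ⟨j, hj, rfl⟩ := List.mem_map.1 h2 <;>
      rw [List.mem_range'_1] at hj <;> rw [nth_rwL] <;> exact hv j (by omega)
  · rw [Sm2.okRows, ha, hb]
    simp only [Bool.and_eq_true, beq_iff_eq]
    refine ⟨⟨⟨hL.2.1, a1⟩, allL_of fun j hj => ?_⟩, allL_of fun t _ => decide_eq_true ?_⟩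
    · rw [List.mem_range] at hj
      rw [Bool.and_eq_true, rw'_rowsL C a b hj, nth_rwL]
      refine ⟨decide_eq_true (hp j hj).1, allL_of fun k hk => ?_⟩
      have hk' := Nat.le_of_lt_succ (List.mem_range.1 hk)
      have hk2 : k < a + b := hk'.trans_lt hj
      rw [Bool.and_eq_true, rw'_rowsL C a b hk2]
      constructor
      · refine decide_eq_true ?_
        rw [ip_eq hL, nth_rwL, nth_rwL, hG' j (by simpa using hj) k (by simpa using hk2), gam, mF, sF, ntd_two hj,
          Sm2.nm, ha]
        simp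
      · simp only [Bool.or_eq_true, beq_iff_eq, decide_eq_true_eq]
        by_cases h2 : j = k
        · exact Or.inl (Or.inl h2)
        by_cases h3 : k < a
        · exact Or.inl (Or.inr h3)
        exact Or.inr (allL_spec (allL_spec b2 j (List.mem_range'_1.2 (by omega))) k (List.mem_range'_1.2 (by omega)))
    · have h2 := okRho_spec a4 a3.le t
      rw [Sm2.sum_range_eq']
      push_cast at h2
      rw [← h2]
      exact sum_congr rfl fun j hj => by
        rw [rw'_rowsL C a b (mem_range.1 hj), nth_rwL, (hp j (mem_range.1 hj)).2]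

end Cfsg.Agent.TAB.B.Bes

private theorem dce_6f03945f0bc4 : _root_.True := by
  try have : _root_.True := by simp only [_root_.Cfsg.Agent.TAB.Eng.sF.eq_1]
  try have : _root_.True := by simp only [_root_.Cfsg.Agent.TAB.B.Bes.okT.eq_1]
  try have : _root_.True := by simp only [_root_.Cfsg.Agent.TAB.B.Bes.rowsL.eq_1]
  exact _root_.True.intro
end

-- part: TAB/B/C3/Abs
section
set_option linter.all false
open scoped Cfsg.Agent.FastGrp

/-!
# Centralizers from a permutation representation with a small kernel (helper84, TAB)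
-/

set_option autoImplicit false

namespace Cfsg.Agent.TAB.B.C3

open Subgroup

variable {G : Type*} [Group G] [Finite G]

/-- the preimage of the centralizer of the image -/
theorem card_comap_le {P : Type*} [Group P] (π : G →* P) {k b : ℕ} (hk : Nat.card π.ker ≤ k) (x : G)
    (hb : ∀ H : Subgroup P, H ≤ π.range → (∀ σ ∈ H, σ * π x = π x * σ) → Nat.card H ≤ b) :
    Nat.card ((centralizer ({π x} : Set P)).comap π) ≤ k * b := by
  set D := (centralizer ({π x} : Set P)).comap π with hD
  have h1 := (π.comp D.subtype).ker.card_mul_index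
  rw [index_ker] at h1
  have h2 : Nat.card (π.comp D.subtype).ker ≤ Nat.card π.ker :=
    Nat.card_le_card_of_injective (fun a => ⟨a.1.1, a.2⟩) fun a b h =>
      Subtype.ext (Subtype.ext (congrArg Subtype.val h :))
  have h3 : Nat.card (π.comp D.subtype).range ≤ b := hb _ (by
    rintro _ ⟨a, rfl⟩
    exact ⟨a.1, rfl⟩) (by
    rintro _ ⟨a, rfl⟩
    exact mem_centralizer_singleton_iff.1 a.2)
  rw [← h1]
  exact Nat.mul_le_mul (h2.trans hk) h3

theorem two_mul_card_le {C D : Subgroup G} (h : C ≤ D) {s : G} (hs : s ∈ D) (h1 : s ∉ C) :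
    2 * Nat.card C ≤ Nat.card D := by
  have h2 := (C.subgroupOf D).index_mul_card
  rw [Nat.card_congr (subgroupOfEquivOfLe h).toEquiv] at h2
  have h3 : (C.subgroupOf D).index ≠ 1 := fun h4 => h1 (relIndex_eq_one.1 h4 hs)
  have h4 : (C.subgroupOf D).index ≠ 0 := index_ne_zero_of_finite
  rw [← h2]
  exact Nat.mul_le_mul_right _ (by omega)

theorem three_mul_card_le {C D : Subgroup G} (h : C ≤ D) {s : G} (hs : s ∈ D) (h1 : s ∉ C) (h5 : s * s ∉ C) :
    3 * Nat.card C ≤ Nat.card D := by
  have h2 := (C.subgroupOf D).index_mul_card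
  rw [Nat.card_congr (subgroupOfEquivOfLe h).toEquiv] at h2
  have h3 : (C.subgroupOf D).index ≠ 1 := fun h4 => h1 (relIndex_eq_one.1 h4 hs)
  have h4 : (C.subgroupOf D).index ≠ 0 := index_ne_zero_of_finite
  have h6 : (C.subgroupOf D).index ≠ 2 := fun h7 => h5 (mul_self_mem_of_index_two h7 (⟨s, hs⟩ : D))
  rw [← h2]
  exact Nat.mul_le_mul_right _ (by omega)

omit [Finite G] in
/-- the centralizer computed inside a subgroup which contains it -/
theorem card_cent_sub {N : Subgroup G} (x : N) (h : centralizer ({x.1} : Set G) ≤ N) :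
    Nat.card (centralizer ({x.1} : Set G)) = Nat.card (centralizer ({x} : Set N)) :=
  Nat.card_congr
    { toFun := fun a => ⟨⟨a.1, h a.2⟩, mem_centralizer_singleton_iff.2
        (Subtype.ext (mem_centralizer_singleton_iff.1 a.2))⟩
      invFun := fun a => ⟨a.1.1, mem_centralizer_singleton_iff.2
        (congrArg Subtype.val (mem_centralizer_singleton_iff.1 a.2))⟩
      left_inv := fun _ => rfl
      right_inv := fun _ => rfl }

omit [Finite G] in
theorem cent_le_comap {P : Type*} [Group P] (π : G →* P) (x : G) :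
    centralizer ({x} : Set G) ≤ (centralizer ({π x} : Set P)).comap π := fun a ha => by
  rw [mem_comap, mem_centralizer_singleton_iff, ← map_mul, ← map_mul, mem_centralizer_singleton_iff.1 ha]

omit [Finite G] in
theorem card_cent_conj (x c : G) :
    Nat.card (centralizer ({c⁻¹ * x * c} : Set G)) = Nat.card (centralizer ({x} : Set G)) :=
  Nat.card_congr
    { toFun := fun a => ⟨c * a.1 * c⁻¹, mem_centralizer_singleton_iff.2 (by
        have h := mem_centralizer_singleton_iff.1 a.2
        calc c * a.1 * c⁻¹ * x = c * (a.1 * (c⁻¹ * x * c)) * c⁻¹ := by group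
          _ = x * (c * a.1 * c⁻¹) := by rw [h]; group)⟩
      invFun := fun a => ⟨c⁻¹ * a.1 * c, mem_centralizer_singleton_iff.2 (by
        have h := mem_centralizer_singleton_iff.1 a.2
        calc c⁻¹ * a.1 * c * (c⁻¹ * x * c) = c⁻¹ * (a.1 * x) * c := by group
          _ = c⁻¹ * x * c * (c⁻¹ * a.1 * c) := by rw [h]; group)⟩
      left_inv := fun a => Subtype.ext (by simp only; group)
      right_inv := fun a => Subtype.ext (by simp only; group) }

end Cfsg.Agent.TAB.B.C3
end

-- part: TAB/B/C3/TriZ
section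
set_option linter.all false
open scoped Cfsg.Agent.FastGrp

/-!
# A faster version of the instruction `tri` with the count `0` (helper84, TAB)
-/

set_option autoImplicit false

namespace Cfsg.Agent.TAB.B.C3

open Cfsg.Agent.H123.Cls
open Cfsg.Agent.Lib.BitNetSimple (force force_eq tb)

theorem popF_zero : ∀ (k x : ℕ), x < 2 ^ 2 ^ k → (popF k x = 0 ↔ x = 0)
  | 0, x, h => by
    have h1 : x = 0 ∨ x = 1 := by
      rw [pow_zero, pow_one] at h
      omega
    rcases h1 with rfl | rfl
    · exact ⟨fun _ => rfl, fun _ => rfl⟩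
    · exact ⟨fun h => absurd h (by decide), fun h => absurd h (by decide)⟩
  | k + 1, x, h => by
    have e : popF (k + 1) x = cnd (Nat.beq x 0) 0
      (force (Nat.mod x (Nat.pow 2 (Nat.pow 2 k))) fun lo => force (Nat.shiftRight x (Nat.pow 2 k)) fun hi =>
        force (popF k lo) fun a => force (popF k hi) fun b => Nat.add a b) := rfl
    rw [e]
    rcases beq_zero_or x with ⟨h1, h2⟩ | ⟨h1, h2⟩
    · rw [h1]
      exact ⟨fun _ => h2, fun _ => rfl⟩
    · rw [h1, cnd_false, force_eq, force_eq, force_eq, force_eq]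
      refine ⟨fun h3 => ?_, fun h3 => absurd h3 h2⟩
      have h4 : popF k (x % 2 ^ 2 ^ k) + popF k (x >>> 2 ^ k) = 0 := h3
      have hp : 0 < 2 ^ 2 ^ k := by positivity
      have h5 : x % 2 ^ 2 ^ k = 0 := (popF_zero k _ (Nat.mod_lt _ hp)).1 (by omega)
      have h6 : x >>> 2 ^ k = 0 := (popF_zero k _ (by
        rw [Nat.shiftRight_eq_div_pow, Nat.div_lt_iff_lt_mul hp, ← pow_add, ← two_mul, ← pow_succ']
        exact h)).1 (by omega)
      rw [Nat.shiftRight_eq_div_pow] at h6
      rw [← Nat.div_add_mod x (2 ^ 2 ^ k), h5, h6, mul_zero]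

/-- the points `p` of `M` such that no point of `X` is joined to `p`, `r ^ i p`, `r ^ j p` -/
noncomputable def triZ (K : ℕ) (row : ℕ → ℕ) (w P M X i j : ℕ) : ℕ :=
  bld (fun p => band (tb M p) (force (it w P i p) fun q => force (it w P j p) fun s =>
    Nat.beq (Nat.land (Nat.land X (row p)) (Nat.land (row q) (row s))) 0)) K 0

theorem triZ_eq {K : ℕ} (row : ℕ → ℕ) (w P M : ℕ) {X : ℕ} (i j : ℕ) (hX : X < 2 ^ 2 ^ K) :
    triZ K row w P M X i j = triM K row w P M X i j 0 := by
  unfold triZ triM
  congr 1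
  funext p
  simp only [force_eq]
  congr 1
  have h : Nat.land (Nat.land X (row p)) (Nat.land (row (it w P i p)) (row (it w P j p))) < 2 ^ 2 ^ K :=
    lt_of_le_of_lt (Nat.and_le_left.trans Nat.and_le_left) hX
  rw [Bool.eq_iff_iff, Nat.beq_eq, Nat.beq_eq, popF_zero K _ h]

/-- `chkB` for a certificate that starts with `cell`, `tri` -/
noncomputable def chkZ (n K : ℕ) (row : ℕ → ℕ) (w P : ℕ) (l l0 : List (Bool × ℕ)) (k x i j : ℕ) (L : List Ins)
    (c : ℕ) : Bool :=
  Nat.beq (start n K row w P l [] fun st => force (cellM st l0 (Nat.sub (Nat.pow 2 n) 1)) fun m =>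
    force (Nat.land (nth (m :: st) x) (Nat.sub (Nat.pow 2 n) 1)) fun X => force (nth (m :: st) k) fun M =>
      force (triZ K row w P M X i j) fun t => run n K row w P L (t :: m :: st)) (Nat.succ c)

theorem chkB_of_chkZ {n K : ℕ} {row : ℕ → ℕ} {w P : ℕ} {l l0 : List (Bool × ℕ)} {k x i j : ℕ} {L : List Ins} {c : ℕ}
    (hn : n ≤ 2 ^ K) (h : chkZ n K row w P l l0 k x i j L c = true) :
    chkB n K row w P l (.cell l0 :: .tri k x i j 0 :: L) c = true := by
  rw [← h]
  unfold chkB chkZ bound
  congr 2
  funext st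
  have e1 : run n K row w P (.cell l0 :: .tri k x i j 0 :: L) st =
      force (cellM st l0 (Nat.sub (Nat.pow 2 n) 1)) fun m => run n K row w P (.tri k x i j 0 :: L) (m :: st) := by
    rw [run]
  have e2 : ∀ st : List ℕ, run n K row w P (.tri k x i j 0 :: L) st =
      force (Nat.land (nth st x) (Nat.sub (Nat.pow 2 n) 1)) fun X => force (nth st k) fun M =>
        force (triM K row w P M X i j 0) fun m => run n K row w P L (m :: st) := fun st => by rw [run]
  rw [e1, force_eq, force_eq, e2]
  simp only [force_eq]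
  rw [triZ_eq]
  refine lt_of_le_of_lt Nat.and_le_right ?_
  have h1 : 2 ^ n ≤ 2 ^ 2 ^ K := Nat.pow_le_pow_right (by norm_num) hn
  have h2 : 0 < 2 ^ n := by positivity
  show 2 ^ n - 1 < _
  omega

end Cfsg.Agent.TAB.B.C3

private theorem dce_ba4aa9464ad3 : _root_.True := by
  try have : _root_.True := by simp only [_root_.Cfsg.Agent.H123.Cls.run.eq_def]
  try have : _root_.True := by simp only [_root_.Cfsg.Agent.H123.Cls.run.eq_5]
  try have : _root_.True := by simp only [_root_.Cfsg.Agent.H123.Cls.run.eq_3]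
  try have : _root_.True := by simp only [_root_.Cfsg.Agent.H123.Cls.run.eq_7]
  try have : _root_.True := by simp only [_root_.Cfsg.Agent.H123.Cls.run.eq_4]
  try have : _root_.True := by simp only [_root_.Cfsg.Agent.H123.Cls.run.eq_8]
  try have : _root_.True := by simp only [_root_.Cfsg.Agent.H123.Cls.run.eq_6]
  try have : _root_.True := by simp only [_root_.Cfsg.Agent.H123.Cls.run.eq_2]
  try have : _root_.True := by simp only [_root_.Cfsg.Agent.H123.Cls.run.eq_1]
  exact _root_.True.intro
end

-- part: R2/DZ/Tools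
section
set_option linter.all false
open scoped Cfsg.Agent.FastGrp

/-!
# S4527: characters of `p`-defect zero, general tools (helper19)

* `congr` : transport along an isomorphism;
* `of_le`, `of_dvd` : a degree divisible by the `p`-part of the order;
* `of_knorr` : an irreducible character vanishing at the elements of order `p` (Knörr, S0928).
-/

set_option autoImplicit false

open Cfsg

namespace Cfsg.Agent.R2.DZ

open Cfsg.Agent.H665.NoPQ

universe u v

theorem congr {p : ℕ} {G : Type u} {H : Type v} [Group G] [Group H] (e : G ≃* H) (h : HasDZ p G) : HasDZ p H := by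
  obtain ⟨χ, hχ⟩ := h
  refine ⟨⟨_, Cfsg.Agent.Characters.Core.isIrr_comp e.symm.toMonoidHom e.symm.surjective χ.2⟩, ?_⟩
  rw [← Nat.card_congr e.toEquiv, ← hχ]
  congr 1
  simp [charDegree]

/-- a character whose degree is divisible by the `p`-part of the order -/
theorem of_le {p : ℕ} {G : Type u} [Group G] [Finite G] {χ : G → ℂ} (hχ : IsIrrCharacter G χ)
    (h : (Nat.card G).factorization p ≤ (charDegree χ).factorization p) : HasDZ p G := by
  refine ⟨⟨χ, hχ⟩, le_antisymm ?_ h⟩
  have hdvd := Cfsg.Agent.H674.Codegree.charDegree_dvd_card hχ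
  exact (Nat.factorization_le_iff_dvd (fun h0 => by rw [h0] at hdvd; exact Nat.card_pos.ne' (zero_dvd_iff.1 hdvd))
    Nat.card_pos.ne').2 hdvd p

/-- the form with divisibility: `p ^ a` divides the degree and `p ^ (a + 1)` does not divide the order -/
theorem of_dvd {p : ℕ} (hp : p.Prime) {G : Type u} [Group G] [Finite G] {χ : G → ℂ} (hχ : IsIrrCharacter G χ) {a : ℕ}
    (h : p ^ a ∣ charDegree χ) (h2 : ¬ p ^ (a + 1) ∣ Nat.card G) : HasDZ p G := by
  refine of_le hχ ?_
  have hdvd := Cfsg.Agent.H674.Codegree.charDegree_dvd_card hχ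
  have h0 : charDegree χ ≠ 0 := fun h0 => by rw [h0] at hdvd; exact Nat.card_pos.ne' (zero_dvd_iff.1 hdvd)
  have h3 := (hp.pow_dvd_iff_le_factorization h0).1 h
  by_contra hc
  push Not at hc
  refine h2 ((hp.pow_dvd_iff_le_factorization Nat.card_pos.ne').2 ?_)
  omega

/-- Knörr's theorem: it is enough that `χ` vanishes at the elements of order `p` -/
theorem of_knorr {p : ℕ} [Fact p.Prime] {G : Type u} [Group G] [Finite G] (χ : IrrCharacter G)
    (h : ∀ g : G, orderOf g = p → (χ : G → ℂ) g = 0) : HasDZ p G :=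
  ⟨χ, by exact Cfsg.Agent.S0928.result p χ h⟩

end Cfsg.Agent.R2.DZ
end
end
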