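import Cfsg.Agent.TAB.B.Fin.Cols_m3
import Cfsg.Agent.TAB.B.Fin.CertA_m3
import Cfsg.Agent.TAB.B.Fin.St2_m3
import Cfsg.Agent.Prune
set_option linter.all false

-- part: TAB/B/Fin/St1
section
set_option linter.all false

/-!
# The table of the Baby Monster: stage 1 (helper51, TAB)
-/

set_option autoImplicit false
set_option maxRecDepth 100000

namespace Cfsg.Agent.TAB.B.Fin

open Cfsg.Agent.TAB.Eng

/-- the rows -/
def J1 : List ℕ :=
  [23, 25, 28, 36, 50, 51, 60, 61, 66, 81, 94, 111, 139, 140, 149, 53, 98, 113, 125, 153, 162, 92, 157, 64,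
  83, 136, 143, 156, 87, 144, 152]

/-- the generators -/
def ga1 : List (List (ℤ × ℕ)) :=
  [[(-1057, 23), (26, 25), (1, 36), (-4, 53)], [(-1005, 23), (24, 25), (1, 51), (-4, 53)], [(330, 23),
  (-8, 25), (1, 53)], [(-47, 23), (1, 25)], [(1, 23)]]

/-- orders, cofactors, coefficients -/
def gn1 : List Bes.Gn :=
  [(2, 32, [0, 0, 0, 1, 0, 0, 0, 0, 0, 0, 1, 1, 0, 1, 1, 0, 1, 0, 1, 0, 0, 0, 1, 1, 0, 0, 0, 0, 1, 1, 0]),
  (2, 32, [0, 0, 0, 0, 0, 1, 0, 1, 0, 1, 1, 1, 0, 1, 1, 0, 1, 0, 1, 0, 0, 0, 1, 0, 1, 0, 0, 0, 1, 1, 1]),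
  (8, 8, [0, 0, 2, 4, 6, 4, 5, 5, 7, 5, 4, 6, 2, 6, 6, 1, 2, 1, 2, 6, 7, 5, 2, 3, 7, 2, 1, 5, 6, 6, 4]),
  (16, 4, [0, 1, 13, 6, 8, 8, 9, 8, 1, 2, 11, 6, 0, 10, 15, 8, 2, 14, 2, 14, 0, 8, 13, 14, 2, 10, 14, 6, 12,
  4, 8]), (64, 1, [1, 47, 47, 19, 15, 61, 25, 17, 25, 9, 61, 15, 33, 23, 13, 46, 62, 42, 2, 14, 6, 28, 24, 8,
  24, 24, 0, 40, 48, 32, 0])]

/-- prime 2, section of 1A -/
def cT1_1 : List Cert :=
  [⟨0, [.one, .gen 0 1 0, .gen 1 1 0, .mul 1 1, .mul 2 1, .mul 3 1, .mul 4 1, .mul 5 1, .mul 6 1, .mul 7 1,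
  .mul 8 1, .mul 9 1, .mul 9 9, .mul 10 8, .mul 11 7, .mul 12 6, .mul 13 3, .mul 14 3, .mul 15 1, .gen 0 1 1,
  .gen 1 1 1, .mul 19 1, .mul 20 1, .mul 21 1, .mul 22 1, .mul 23 1, .mul 24 1, .mul 24 7, .mul 25 7, .mul 26
  7, .mul 27 7, .mul 28 3, .mul 12 12, .mul 13 12, .mul 14 12, .mul 15 7, .gen 0 1 2, .mul 35 0, .lin
  [(2192504546048, 37), (1986898030976, 36), (2135536623968, 35), (1814854626416, 34), (1730513749396, 33),
  (945846881440, 32), (1399173013292, 31), (1428561538308, 30), (538349517588, 29), (1235965552888, 28),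
  (746132517656, 27), (1336761202148, 26), (1166111465452, 25), (155729477632, 24), (899963092076, 23),
  (881586758684, 22), (1275594324960, 21), (1478819210488, 20), (1253641167160, 19), (1532767980064, 18),
  (1163498959244, 17), (251693714476, 16), (1792089500352, 15), (845625819996, 14), (1550186823964, 13),
  (2158782872284, 12), (160081806512, 11), (10619780312, 10), (1692586487816, 9), (210949026992, 8),
  (659696342024, 7), (432574528140, 6), (2024955085464, 5), (1080918342664, 4), (2087363752652, 3),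
  (2017625090132, 2), (923157547328, 1), (1404226112816, 0)], .lin [(1792545111001, 38), (711747302194, 37),
  (706052230309, 36), (1778527497446, 35), (1537399012742, 34), (1683475603800, 33), (1338071950462, 32),
  (192595638961, 31), (428006939528, 30), (1936127764516, 29), (1547329203733, 28), (1369117478624, 27),
  (999054612806, 26), (1891314936590, 25), (253936654464, 24), (617335812746, 23), (393731614382, 22),
  (258330456394, 21), (680844598070, 20), (1662361242176, 19), (30043683616, 18), (2153343569538, 17),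
  (2105295055858, 16), (548159315114, 15), (1457188324052, 14), (1091598013010, 13), (1697326611038, 12),
  (823118098844, 11), (1290180863300, 10), (2106418959248, 9), (1103635176932, 8), (1022664085642, 7),
  (625723028348, 6), (28681935548, 5), (1884606230002, 4), (1283408843462, 3), (605921347352, 2)], .lin
  [(1477052849659, 39), (797488037539, 38), (9310358222, 37), (936046490849, 36), (1432823338156, 35),
  (387866188897, 34), (709820420040, 33), (2119133455520, 32), (1686968377704, 31), (243111865848, 30),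
  (1396611532844, 29), (134912438716, 28), (527137933475, 27), (1761420432087, 26), (155196862757, 25),
  (1350433081331, 24), (43037568060, 23), (779871776616, 22), (310195166320, 21), (267436305224, 20),
  (1216741262306, 19), (1896254331142, 18), (1104568843484, 17), (875136949174, 16), (2018491073222, 15),
  (587918358086, 14), (948840987792, 13), (865895456212, 12), (524818004552, 11), (64913839456, 10),
  (1202997613304, 9), (614267660094, 8), (1414090203996, 7), (260365747316, 6), (420219750, 5),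
  (2096925736458, 4), (2008853668240, 3), (114011662760, 2)], .lin [(2054349593646, 40), (834467659900, 39),
  (1308086331158, 38), (1667524175441, 37), (973897582936, 36), (283056644619, 35), (481670100228, 34),
  (1469926807685, 33), (2146155001994, 32), (1916700919617, 31), (1216510375455, 30), (1394321377251, 29),
  (787446119670, 28), (47116421123, 27), (1333172265650, 26), (111681674504, 25), (510427365098, 24),
  (1009750092000, 23), (143258851737, 22), (23296290790, 21), (1292192405116, 20), (737785576313, 19),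
  (1125774405751, 18), (1199526015337, 17), (229289414004, 16), (2173139290233, 15), (305789788779, 14),
  (352580980614, 13), (1422168924208, 12), (1203473715468, 11), (2034466889504, 10), (456394026227, 9),
  (1251264453954, 8), (1838481988898, 7), (1266377740559, 6), (603710659397, 5), (1498045016244, 4)], .lin
  [(1365634944177, 41), (2081517002112, 40), (259795547062, 39), (2186393509893, 38), (1387565186674, 37),
  (1205195257812, 36), (234135359070, 35), (205204808679, 34), (61459278226, 33), (707094907132, 32),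
  (407109128080, 31), (1990962022127, 30), (1297810632476, 29), (795462708032, 28), (107993891400, 27),
  (227640119820, 26), (1551838788176, 25), (802086555792, 24), (817554413132, 23), (474810080244, 22),
  (1655709668110, 21), (251900280092, 20), (57340898282, 19), (1274581133108, 18), (1527124855926, 17),
  (1481142435212, 16), (1657130902682, 15), (2174816087288, 14), (2039207132396, 13), (1185651255000, 12),
  (1798229719564, 11), (1725532440832, 10), (1612651384224, 9), (1519839632672, 8)], .lin [(274948347165,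
  42), (549686990142, 41), (836994124061, 40), (2194200312049, 39), (1125410201071, 38), (685561640061, 37),
  (1423920695311, 36), (477787585319, 35), (1712214292909, 34), (176144462607, 33), (2050683251756, 32),
  (2135775605918, 31), (922091139921, 30), (1020618772209, 29), (1915320228937, 28), (1165729273247, 27),
  (1109571610598, 26), (1609322230918, 25), (1104176757081, 24), (990767758706, 23), (38117557861, 22),
  (7249876578, 21), (672869186007, 20), (1976614960678, 19), (60902978721, 18), (397668985590, 17),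
  (1012307108263, 16), (32567840056, 15), (1975607665686, 14), (1716133734032, 13), (1624890027150, 12),
  (876731579640, 11), (839421987228, 10), (339319035152, 9), (1208278214384, 8), (2198231327708, 7),
  (71141349532, 6), (2070718290412, 5)], .lin [(907102758759, 43), (1968939916252, 42), (2046921959354, 41),
  (55986884924, 40), (1264793617657, 39), (1585659100606, 38), (46243688709, 37), (1692686240644, 36),
  (1643603918937, 35), (1629512576726, 34), (1076922265391, 33), (833211698239, 32), (25322365263, 31),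
  (1598540230266, 30), (1089375772265, 29), (466388024510, 28), (534637513824, 27), (347720788984, 26),
  (1639280326982, 25), (81834542930, 24), (2067426622795, 23), (139018212114, 22), (1087863753051, 21),
  (1444983834938, 20), (1034743577155, 19), (1242292397030, 18), (1140801661979, 17), (2029443184332, 16),
  (402578042698, 15), (222830097068, 14), (918401148802, 13), (1866013983676, 12), (1647021495278, 11),
  (237145783456, 10), (157444401522, 9), (345203080052, 8)], .lin [(476146020822, 44), (768108936585, 43),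
  (13643789676, 42), (242153613916, 41), (760413732669, 40), (1013720538799, 39), (907449051925, 38),
  (1983071873015, 37), (1498751565731, 36), (120090116370, 35), (711361646509, 34), (1051646731216, 33),
  (18324707304, 32), (140873293363, 31), (100581491032, 30), (470376937835, 29), (1590926018338, 28),
  (768250971606, 27), (1019273669697, 26), (1419737125526, 25), (1344710344355, 24), (1173611048526, 23),
  (2023928746983, 22), (776304821098, 21), (697259404683, 20), (15162138910, 19), (1911619249299, 18),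
  (1902295363172, 17), (194257583362, 16), (799898424696, 15), (20313192030, 14), (1207997745864, 13),
  (699724859652, 12), (587116335584, 11), (548383844622, 10), (2144765334382, 9)], .lin [(1919383312736, 45),
  (2034633004304, 44), (1790632544402, 43), (1508325198975, 42), (1790174292104, 41), (600345329473, 40),
  (1651116491872, 39), (150747708878, 38), (75712233242, 37), (65740131492, 36), (1440279434826, 35),
  (45141260596, 34), (727430031934, 33), (724676067848, 32), (1829109098678, 31), (301837826530, 30),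
  (1085416065982, 29), (2002260974832, 28), (478768423966, 27), (786922167104, 26), (1079951747706, 25),
  (1308199841090, 24), (1025561472310, 23), (1070901730724, 22), (1762842001938, 21), (1097926690734, 20),
  (1453782840182, 19), (845984999406, 18), (51196499434, 17), (804753177182, 16), (589307974642, 15),
  (1554766715188, 14), (637242011171, 13), (2006408065200, 12), (1178889785807, 11)], .lin [(494220404040,
  46), (1926295453017, 45), (1386117454358, 44), (1165218475588, 43), (1973279998258, 42), (1649328137162,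
  41), (40948229998, 40), (1552330124375, 39), (730141576221, 38), (1871575073664, 37), (880693410752, 36),
  (440076100825, 35), (1911421597047, 34), (2081892164855, 33), (1065868334810, 32), (2022785446488, 31),
  (2152762208847, 30), (1404680611927, 29), (601172850094, 28), (891281365744, 27), (1182873121967, 26),
  (1979061462246, 25), (827478534393, 24), (1584139225152, 23), (711255082801, 22), (2129371377640, 21),
  (913119459237, 20), (734830964200, 19), (1849420003424, 18), (1197043293070, 17), (304161549042, 16),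
  (1299034636884, 15), (1220421453411, 14), (793271293420, 13), (65402625499, 11)], .lin [(982970446164, 47),
  (12892986087, 46), (585362324090, 45), (1229997025803, 44), (160952585528, 43), (1551846568370, 42),
  (205000713393, 41), (1072678231201, 40), (356470552747, 39), (1481220822834, 38), (1303805886184, 37),
  (337904320345, 36), (1416503178283, 35), (1170418117867, 34), (1801561557744, 33), (688265178486, 32),
  (823559172233, 31), (1769743685313, 30), (19006501548, 29), (996069744628, 28), (776437150675, 27),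
  (82515061446, 26), (1627275304773, 25), (870583092302, 24), (1436671252529, 23), (984962951390, 22),
  (246526234419, 21), (1058295699588, 20), (1853880037704, 19), (1828180998372, 18), (641218038496, 17),
  (1285979599342, 16), (65786195672, 15), (741190991772, 14)], .lin [(1340681315792, 48), (407073792907, 47),
  (789181992938, 46), (1063474454941, 45), (616985439242, 44), (1254752437845, 43), (1804968332069, 42),
  (768127488853, 41), (1958231921899, 40), (1178745690735, 39), (1870146208830, 38), (436971644166, 37),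
  (1124259737580, 36), (579689386748, 35), (2177372776483, 34), (508905180449, 33), (1325943689363, 32),
  (2050353570195, 31), (860808612397, 30), (1710706609834, 29), (434490422911, 28), (470995872878, 27),
  (325399127109, 26), (418258118862, 25), (1891377491981, 24), (1705404376650, 23), (2167107179975, 22),
  (1024015504880, 21), (2123247122880, 20), (2051583630256, 19)], .lin [(811366277608, 49), (250605961685,
  48), (871329755917, 47), (179603930169, 46), (42340322667, 45), (255457524427, 44), (1074626921866, 43),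
  (1658783413859, 42), (1043338287704, 41), (196833374124, 40), (1363090152544, 39), (753228230029, 37),
  (358878635525, 36), (26952209706, 35), (1828674994738, 33), (2115715371450, 32), (490321294280, 31),
  (318805917603, 30), (1457215168235, 29), (2152671315265, 28), (2006022470651, 27), (81841772113, 26),
  (166951858144, 25), (1998499908219, 24), (46712284894, 22), (1260959305353, 21), (1840698817836, 20),
  (1400240589975, 19), (1914503112524, 18), (661573820920, 17), (921774381346, 16), (1288420356830, 13),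
  (398114634310, 12)], .lin [(1882471538542, 50), (452577066095, 49), (750147643517, 48), (1927767819289,
  47), (1525263265926, 46), (1097582304384, 45), (2189940834486, 44), (1322713894088, 43), (618786641274,
  42), (699970890070, 41), (1812328385248, 40), (1947656468023, 38), (1404118403049, 37), (235805658812, 36),
  (1909896284448, 34), (1590578813341, 33), (74805919972, 32), (1469063501557, 31), (482245238667, 30),
  (280686825077, 29), (1954885761294, 28), (2161784916949, 27), (2072488106743, 26), (1890640900976, 25),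
  (497760628669, 23), (332051833167, 22), (8882025829, 21), (310275278525, 20), (1412488948341, 19),
  (410965060704, 18), (2041510560618, 17), (221421389093, 14), (1407830048353, 13)], .lin [(1052068395031,
  51), (278459644276, 50), (35472725161, 49), (2173863085495, 48), (1203437464309, 47), (399175708336, 46),
  (623283896833, 45), (198334502737, 44), (311871168665, 43), (1662096690728, 42), (1050377612628, 41),
  (2117619578205, 39), (470276030631, 38), (2002979351867, 37), (190992690465, 35), (1622385037141, 34),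
  (1761804542532, 33), (1848678898790, 32), (1395663615331, 31), (1084925560839, 30), (129514333091, 29),
  (247313909231, 28), (697069725286, 27), (1420917210685, 26), (793623848454, 24), (1381738143445, 23),
  (137581722120, 22), (1141849803175, 21), (189580383989, 20), (114645965092, 19)], .lin [(1942003259540,
  52), (1741287857075, 51), (1057479069205, 50), (1303951501186, 49), (2075369361713, 48), (1181535717150,
  47), (1409280069714, 46), (1125821586058, 45), (1012199139738, 44), (169786760332, 43), (882080490984, 42),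
  (2130979567547, 40), (454937597426, 39), (1031709687300, 38), (99730081440, 36), (1651875898148, 35),
  (1312142526288, 34), (1024205102983, 33), (1997277393883, 32), (182246194730, 31), (1750960378393, 30),
  (1152990129588, 29), (788980423160, 28), (1219190625656, 27), (1568540941424, 25), (1152556245387, 24),
  (1025790366426, 23), (588749324977, 22), (2041210928509, 21)], .lin [(2145794855226, 53), (377719377931,
  52), (1748529999516, 51), (672871067331, 50), (1976342957414, 49), (200187052812, 48), (1977987115574, 47),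
  (384569810852, 46), (1638518642708, 45), (1855794965602, 44), (2144382533936, 43), (70955879485, 41),
  (490899350968, 40), (845497524939, 39), (473715846059, 37), (1382360668111, 36), (168656041228, 35),
  (834264235952, 34), (1440552428159, 33), (1144946610948, 32), (1084300152859, 31), (701488210548, 30),
  (2036117327368, 29), (210991637248, 28), (833692658908, 26), (1608032312599, 25), (80921714620, 24),
  (1373063058379, 23)], .lin [(945937318213, 54), (1060994057017, 53), (1415688983351, 52), (795199587589,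
  51), (906442943932, 50), (570882187462, 49), (515727192924, 48), (854043968739, 47), (1304854567427, 46),
  (2126018551336, 45), (1217521295356, 44), (1300031487652, 42), (1305713998753, 41), (2065353920633, 40),
  (2057769774293, 38), (62098953695, 37), (259389104204, 36), (1075701605053, 35), (173799596035, 34),
  (1120828632337, 33), (802542395034, 32), (116090806823, 31), (1620439253157, 30), (328637170415, 29),
  (834289060372, 27), (303574020406, 26)], .lin [(1551202200067, 55), (9181162288, 54), (412446545912, 53),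
  (208010552555, 52), (176621474952, 51), (678934657505, 50), (1013298865302, 49), (618576519166, 48),
  (365852700825, 47), (1274786709612, 46), (2088295782220, 45), (1199662046430, 43), (788033053863, 42),
  (886443622298, 41), (1169509931528, 39), (881235906741, 38), (969046395332, 37), (911121690136, 36),
  (242874377849, 35), (971376309946, 34), (889374239786, 33), (540904032228, 32), (324947001305, 31),
  (1414340513786, 30), (1540906254616, 28)], .lin [(1928360086187, 56), (649146433151, 55), (1156155014209,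
  54), (1774108133670, 53), (1142245644430, 52), (960796875513, 51), (917336418588, 50), (904686388479, 49),
  (625531205149, 48), (626787479074, 47), (952829212516, 46), (1204764290037, 44), (1097130322577, 43),
  (1816454982142, 42), (7083591760, 40), (158736375877, 37), (1226046153694, 36), (307567157581, 35),
  (89581892728, 34), (1252791410352, 33), (844452012525, 29), (193361094338, 28), (1213445600817, 27),
  (1530697081990, 24)], .lin [(212078388720, 57), (450674241082, 56), (2029155212074, 55), (1232650775147,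
  54), (1647084417208, 53), (673116914247, 52), (1572916744244, 51), (720538979229, 50), (281438361297, 49),
  (117069985566, 48), (969372349164, 47), (267494644448, 45), (1040655833768, 44), (2072391883729, 43),
  (774385322009, 41), (711272066023, 38), (1732193253980, 37), (1915088604155, 36), (1272172893386, 35),
  (5939756748, 34), (192896639263, 30), (784726990586, 29), (2167779718775, 28)], .lin [(1939614344073, 58),
  (1949649266651, 57), (618100881760, 56), (2139991644477, 55), (1503663735609, 54), (159368035719, 53),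
  (1813740460741, 52), (19062608976, 51), (610374799808, 50), (1942101087152, 49), (976393089824, 48),
  (410575159675, 46), (2073483831068, 45), (1779872451220, 44), (1965005696604, 42), (1530597540533, 39),
  (1657390423461, 38), (1201392923174, 37), (1439190795115, 36), (1480971632339, 35), (1575035219879, 31),
  (2161022949889, 30), (1555451577558, 26), (147765295783, 25)], .lin [(704738522249, 59), (339821868109,
  58), (2062822342292, 57), (1641299886518, 56), (734894427722, 55), (1298226966262, 54), (1259491175479,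
  53), (1233665223901, 52), (1005756917914, 47), (2054735632331, 46), (982466262794, 40), (2149227929421,
  39), (1523845381860, 38), (1591252023816, 37), (123783801726, 36), (748496631362, 32), (779138219525, 31),
  (1918471881099, 27), (1836072055574, 23)], .lin [(535307779906, 60), (1164116331856, 59), (1471993308297,
  58), (1941236894562, 57), (1854163767404, 56), (862537379142, 55), (109990458560, 54), (1533091633234, 53),
  (1224947882499, 48), (1819759040446, 47), (1757116906320, 41), (191509041107, 40), (1124957563436, 39),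
  (1951440756260, 38), (585834940344, 37), (1630901156476, 33), (440248273159, 32)], .lin [(413973887331,
  61), (821804409036, 60), (899130674073, 59), (1387645142487, 58), (256462684344, 57), (1807865722485, 56),
  (1304208743009, 55), (1450654857517, 54), (997460100075, 49), (1214474332667, 48), (534674282489, 42),
  (1420821676882, 41), (1127736410238, 40), (1491129353398, 39), (1746111535263, 38), (875266229458, 34)],
  .lin [(1862605458104, 62), (1262519359475, 61), (2142227607078, 60), (910542901618, 59), (2126462090378,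
  58), (1188919825491, 57), (2144463445368, 56), (2089046553260, 55), (1206697004924, 50), (1375138087860,
  49), (125184050907, 43), (345182169058, 42), (565547076618, 41), (1607712682182, 40), (330450383367, 39)],
  .lin [(1969238543398, 63), (896045132953, 62), (1308181977603, 61), (1028847849996, 60), (1089125709645,
  59), (1698238243486, 58), (1339990809382, 57), (1220454414470, 51), (445561000872, 44), (549063713147, 43),
  (1164538901575, 42), (1223575635698, 41), (1460397945855, 36), (1189146912705, 27)], .lin [(1555944537282,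
  64), (1516319263363, 63), (1384859160222, 62), (1315467832950, 61), (400261908247, 60), (1254633522573,
  59), (1804539022345, 58), (1668328185368, 52), (1906128787714, 45), (983744699883, 44), (1445390183842,
  43), (658221193307, 42)], .lin [(783063279578, 65), (466151415436, 64), (1525249475336, 63),
  (1525056215223, 62), (1499738500085, 61), (271176340393, 60), (1075678474240, 59), (55920089167, 53),
  (2163939864415, 46), (64943382456, 45), (2032215965836, 44), (1035180245299, 38)], .lin [(1274205488053,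
  66), (2142697996288, 65), (145476284416, 64), (426768314994, 63), (1942678757376, 62), (1302510247936, 61),
  (1910116888576, 60), (572353518667, 54), (589735216356, 47), (1341407033494, 46)], .lin [(1336267732807,
  67), (1733508883911, 66), (837590717572, 65), (211234859779, 64), (487537489416, 63), (1199357982883, 62),
  (15448533102, 48), (90699843172, 47), (1111861363630, 46)], .lin [(4123297915, 68), (74437246586, 67),
  (1955574406823, 66), (403943301715, 65), (2072770670296, 64), (2009523273674, 63), (1512503071670, 49),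
  (127871592625, 48)], .lin [(510463310063, 69), (215410121984, 68), (196280964195, 67), (1667594604249, 66),
  (1390817517327, 65), (119910991857, 50), (2042033715205, 48)], .lin [(2031949975827, 70), (324257185792,
  69), (1503424937984, 68), (1201988698111, 67), (911993470976, 66), (862294900734, 51)], .lin
  [(1637000478063, 71), (1314636367117, 70), (1436727888117, 69), (602199811786, 68), (1477861636841, 67)],
  .lin [(1985892252262, 72), (731193756453, 71), (870854713480, 70), (1447851724375, 53)], .lin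
  [(1912483775437, 73), (690541992562, 72), (518834576739, 71)], .lin [(2083737291521, 74), (682221647333,
  73)], .lin [(1, 75)]], [(0, 1), (1, 256), (2, 65536), (3, 32), (4, 1048576), (5, 4096), (6, 65536), (7,
  32768), (8, 8192), (9, 4096), (10, 131072), (11, 65536), (12, 32768), (13, 32), (14, 32768), (15, 1024),
  (16, 256), (17, 2048), (18, 16384), (19, 1024), (20, 8192), (21, 256), (22, 16384), (23, 2048), (24, 512),
  (25, 1024), (26, 512), (27, 4096), (28, 512), (29, 128), (30, 256), (31, 256), (32, 256), (33, 512), (34,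
  64), (35, 64), (36, 32), (37, 32), (38, 1024)]⟩]

theorem chk_cT1_1 : chkQ datF 2 41 (2 ^ 41) [valF, piF] cT1_1
    (Bes.tgt cols ga1 J1 gn1) 36 = true := by decide +kernel

/-- prime 2, sections of 7A and 9B -/
def cT1_2 : List Cert :=
  [⟨30, [.one, .gen 0 1 0, .gen 1 1 0, .gen 0 7 0, .mul 2 2, .mul 3 2, .mul 4 1, .mul 5 0, .gen 0 1 1, .gen 1
  1 1, .mul 8 1, .mul 2 2, .lin [(928550978374, 11), (1992864825344, 10), (1689493476828, 9), (824633720832,
  8), (593334018644, 7), (1305670057984, 6), (309237645312, 5), (470141785963, 4), (2118571185220, 3),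
  (2051527793288, 2), (1572167540898, 0)], .lin [(1394023670931, 12), (353414451786, 10), (1099511627774, 8),
  (746097175986, 4), (490853405257, 1)], .lin [(1881604720349, 13), (417879865665, 12), (232337278754, 11),
  (2041950165870, 10), (1893057965644, 9), (169180807011, 8), (1134689455156, 7), (585097257562, 5),
  (1869169767221, 4), (359304692650, 3)], .lin [(549755813915, 14), (549755813918, 12), (1924145348536, 10),
  (219902325386, 6), (879609302221, 5)], .lin [(1522173355730, 15), (1502222539833, 14), (1433503063100, 13),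
  (79803263306, 12), (1253206801530, 11), (661332598697, 10), (1442739551901, 9), (434484433532, 7)], .lin
  [(962072674314, 16), (412316860416, 14), (893353197567, 12), (1374389534718, 8)], .lin [(219085856482, 17),
  (2116695961633, 16), (2020307256650, 15), (1087264592318, 14), (669504605042, 9), (1204972210885, 7)], .lin
  [(1099511627776, 18), (1557641472683, 16), (1007885658797, 10)], .lin [(482096396155, 19), (1843580864,
  18), (1309030203584, 17), (1274467451847, 16)], .lin [(471219269049, 20), (1129430311525, 18)], .lin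
  [(1099511627778, 21), (769658139443, 20)], .lin [(1, 22)]], [(0, 1), (1, 4), (2, 2), (3, 8), (4, 16), (5,
  64), (6, 8), (7, 32), (8, 8), (9, 16), (10, 8), (11, 8)]⟩, ⟨46, [.gen 0 1 0, .lin [(733007751851, 0)]],
  [(0, 2)]⟩]

theorem chk_cT1_2 : chkQ datF 2 41 (2 ^ 41) [valF, piF] cT1_2
    (Bes.tgt cols ga1 J1 gn1) 36 = true := by decide +kernel

/-- prime 3 -/
def cT1_3 : List Cert :=
  [⟨0, [.one, .gen 0 1 0, .gen 1 1 0, .mul 1 1, .gen 0 1 1, .lin [(545004, 4), (557100, 3), (450384, 2),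
  (349308, 1), (544977, 0)], .lin [(909069, 5), (800268, 4), (1226335, 3), (906831, 2), (760605, 1)], .lin
  [(385645, 6), (1593234, 5), (1197384, 3), (1195195, 2)], .lin [(1233351, 7), (617790, 6), (797162, 4)],
  .lin [(181686, 8), (140752, 7)], .lin [(1, 9)]], [(0, 1), (1, 81), (2, 177147), (3, 729), (4, 243), (5,
  27)]⟩]

theorem chk_cT1_3 : chkQ datF 3 13 (3 ^ 13) [valF, piF] cT1_3
    (Bes.tgt cols ga1 J1 gn1) 36 = true := by decide +kernel

theorem ok1 : Bes.okB ms ga1 J1 31 64 gn1 = true :=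
  Bes.okB_fast 126977 4096 (by decide +kernel) (by decide +kernel) (by decide +kernel)

end Cfsg.Agent.TAB.B.Fin
end

-- part: TAB/B/Fin/Virt
section
set_option linter.all false
open scoped Cfsg.Agent.FastGrp

/-!
# The table of the Baby Monster from the types (helper51, TAB)

`Hyp.tab` : the irreducible characters of a group with the types of the Baby Monster.
-/

set_option autoImplicit false
set_option maxRecDepth 100000

namespace Cfsg.Agent.TAB.B.Fin

open Cfsg Cfsg.Agent.TAB.Eng Cfsg.Agent.TAB.Use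
open Subgroup (centralizer)

universe u

variable {G : Type u} [Group G] {T : TD G datF}

/-- what is needed of the group -/
structure Hyp (T : TD G datF) : Prop where
  mass : T.Mass
  val : Virt T (nth valF)
  pi : Virt T (nth piF)
  c19 : ∀ g, T.ty g = 95 → ¬ 2 ^ (1 + 1) ∣ Nat.card (centralizer ({g} : Set G))

/-- the local condition for all the rows -/
def AllG (T : TD G datF) (l s : ℕ) : Prop := ∀ i < 175, Good T l s (rw cols i)

/-- the table -/
noncomputable def tabB : Rows := ⟨degs, (Sm2.mkRows (Bes.rowsL cols 0 166) (Bes.rowsL cols 166 9)).rel⟩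

theorem tabB_eq : Sm2.mkRows (Bes.rowsL cols 0 166) (Bes.rowsL cols 166 9) = tabB := by
  rw [tabB, ← chk_deg]

theorem len_ms : ms.length = 175 := by decide +kernel

namespace Hyp

variable [Finite G] (H : Hyp T)
include H

omit [Finite G] in
theorem seeds : ∀ sd ∈ [valF, piF], Virt T (nth sd) :=
  List.forall_mem_cons.2 ⟨H.val, List.forall_mem_singleton.2 H.pi⟩

theorem gG {l A : ℕ} {cs : List Cert} (h : chkQ datF l A (l ^ A) [valF, piF] cs (ntd cols []) 175 = true) :
    ∀ s ∈ cs.map Cert.s, AllG T l s := good_of_chkQ H.mass.1 okLen h H.seeds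

theorem g19 : AllG T 2 95 := fun i hi _ _ hR hb hb' hc =>
  goodAt_of_chkQ H.mass.1 okLen chk_cS19 (hb ▸ by decide) hR hb' hc
    (fit_top (List.forall_mem_nil _) (card_dvd_of_cent Nat.prime_two hR hc (H.c19 _ hb))) i hi

theorem global : ∀ y ∈ [(2, cG2), (3, cG3), (5, cG5), (7, cG7), (11, cG11), (13, cG13), (17, cG17), (19, cG19),
    (23, cG23), (31, cG31), (47, cG47)], ∀ s ∈ y.2.map Cert.s, AllG T y.1 s := by
  simp only [List.forall_mem_cons]
  exact ⟨H.gG chk_cG2, H.gG chk_cG3, H.gG chk_cG5, H.gG chk_cG7, H.gG chk_cG11, H.gG chk_cG13, H.gG chk_cG17,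
    H.gG chk_cG19, H.gG chk_cG23, H.gG chk_cG31, H.gG chk_cG47, List.forall_mem_nil _⟩

theorem allG : ∀ x ∈ PL, ∀ s ∈ x.2.2, AllG T x.1 s ∨ (x.1 = 2 ∧ s = 0) ∨ (x.1 = 2 ∧ s ∈ [30, 46]) ∨
    (x.1 = 3 ∧ s = 0) := by
  have h : ∀ x ∈ PL, ∀ s ∈ x.2.2, ((x.1 = 2 ∧ s = 0) ∨ (x.1 = 2 ∧ s ∈ [30, 46]) ∨ (x.1 = 3 ∧ s = 0)) ∨
      (x.1 = 2 ∧ s = 95) ∨ ∃ y ∈ [(2, cG2), (3, cG3), (5, cG5), (7, cG7), (11, cG11), (13, cG13), (17, cG17),
        (19, cG19), (23, cG23), (31, cG31), (47, cG47)], x.1 = y.1 ∧ s ∈ y.2.map Cert.s := by decide +kernel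
  intro x hx s hs
  rcases h x hx s hs with h1 | ⟨h1, h2⟩ | ⟨y, hy, h1, h2⟩
  · exact Or.inr h1
  · rw [h1, h2]
    exact Or.inl H.g19
  · exact Or.inl (h1 ▸ H.global y hy s h2)

theorem stage {seeds : List (List ℤ)} (hsd : ∀ sd ∈ seeds, Virt T (nth sd)) {γ : List (List (ℤ × ℕ))} {J : List ℕ}
    {k1 M k : ℕ} {gens : List Bes.Gn} (h : Bes.okB ms γ J k1 M gens = true) (hk : J.length + gens.length = k)
    {c1 c2 c3 : List Cert} (h1 : chkQ datF 2 41 (2 ^ 41) seeds c1 (Bes.tgt cols γ J gens) k = true)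
    (h2 : chkQ datF 2 41 (2 ^ 41) seeds c2 (Bes.tgt cols γ J gens) k = true)
    (h3 : chkQ datF 3 13 (3 ^ 13) seeds c3 (Bes.tgt cols γ J gens) k = true)
    (h4 : c1.map Cert.s = [0] ∧ c2.map Cert.s = [30, 46] ∧ c3.map Cert.s = [0]) : ∀ j ∈ J, Virt T (rw cols j) := by
  refine Bes.virt_stage H.mass okPL (gram_of_chkG okLen chk_gram).2 h fun x hx s hs => ?_
  rw [len_ms, hk]
  rcases H.allG x hx s hs with h5 | ⟨h5, h6⟩ | ⟨h5, h6⟩ | ⟨h5, h6⟩
  · exact Or.inl h5
  · rw [h5]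
    exact Or.inr (good_of_chkQ H.mass.1 okLen h1 hsd s (by rw [h4.1, h6]; decide))
  · rw [h5]
    exact Or.inr (good_of_chkQ H.mass.1 okLen h2 hsd s (by rwa [h4.2.1]))
  · rw [h5]
    exact Or.inr (good_of_chkQ H.mass.1 okLen h3 hsd s (by rw [h4.2.2, h6]; decide))

/-- all the rows are generalized characters -/
theorem virt : ∀ i < 175, Virt T (rw cols i) := by
  have h1 := H.stage H.seeds ok1 (by decide) chk_cT1_1 chk_cT1_2 chk_cT1_3 (by decide)
  have h2 := H.stage (seeds := [valF, piF, rwL cols 23, rwL cols 25]) (by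
    simp only [List.forall_mem_cons, nth_rwL]
    exact ⟨H.val, H.pi, h1 _ (by decide), h1 _ (by decide), List.forall_mem_nil _⟩) ok2 (by decide +kernel)
    chk_cT2_1 chk_cT2_2 chk_cT2_3 (by decide)
  have h3 : ∀ i < 175, i ∈ J2 := by decide +kernel
  exact fun i hi => h2 i (h3 i hi)

omit [Finite G] in
theorem inh : Inh T := inh_of_mass H.mass (by decide +kernel)

/-- **the table** -/
theorem tab : Tab T tabB :=
  tabB_eq ▸ Bes.tab_of_two H.mass okLen
    ((TD.ty_eq_zero H.mass (by decide) (by decide +kernel) (by decide +kernel) 1).2 rfl) chk_gram chk_fin H.virt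

end Hyp

end Cfsg.Agent.TAB.B.Fin

private theorem dce_2eda90ccd7e2 : _root_.True := by
  try have : _root_.True := by simp only [_root_.Cfsg.Agent.TAB.B.Fin.tabB.eq_1]
  exact _root_.True.intro
end

-- part: TAB/B/Fin/Use
section
set_option linter.all false
open scoped Cfsg.Agent.FastGrp

/-!
# The consequences of the table of the Baby Monster (helper51, TAB)
-/

set_option autoImplicit false
set_option maxRecDepth 100000

namespace Cfsg.Agent.TAB.B.Fin

open Cfsg Cfsg.Agent.TAB.Eng Cfsg.Agent.TAB.Use Cfsg.Agent.TAB.B.Pair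

universe u

private theorem _root_.Cfsg.Agent.KO8ffefa4.e0.{ku, kv} {α : Type kv} {M : List α → Sort ku} (φ : ∀ l, M l) {z : M List.nil} {s : ∀ a l, M l → M (List.cons a l)} (h0 : φ List.nil = z) (hs : ∀ a l, φ (List.cons a l) = s a l (φ l)) (l : List α) : φ l = @List.rec α M z s l := List.rec h0 (fun a l ih => (hs a l).trans (congrArg (s a l) ih)) l
private noncomputable def _root_.Cfsg.Agent.KO8ffefa4.k1.{ku0, ku1} : type_of% @List.map.{ku0, ku1} := @(fun x0 x1 x2 x3 => @List.rec.{(ku1+1), ku0} @x0 @(fun x4 => @List.{ku1} @x1) [] @(fun x4 x5 x6 => (@x2 @x4) :: @x6) @x3)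
private theorem _root_.Cfsg.Agent.KO8ffefa4.e1.{ku0, ku1} : @List.map.{ku0, ku1} = @_root_.Cfsg.Agent.KO8ffefa4.k1.{ku0, ku1} := by delta _root_.Cfsg.Agent.KO8ffefa4.k1; funext a0 a1 a2 a3; refine (_root_.Cfsg.Agent.KO8ffefa4.e0 (fun a3 => @List.map.{ku0, ku1} a0 a1 a2 a3) ?_ (fun c0 c1 => ?_) a3 :) <;> (rfl')
private noncomputable def _root_.Cfsg.Agent.KO8ffefa4.oLe.{ku} (α : Sort ku) (a b : Nat) (f t : α) : α := @Decidable.rec (@LE.le Nat instLENat a b) (fun _ => α) (fun _ => f) (fun _ => t) (Nat.decLe a b)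
private noncomputable def _root_.Cfsg.Agent.KO8ffefa4.k2.{ku} (α : Sort ku) (a b : Nat) (f t : α) : α := @Bool.rec (fun _ => α) f t (Nat.ble a b)
private theorem _root_.Cfsg.Agent.KO8ffefa4.e2.{ku} : @_root_.Cfsg.Agent.KO8ffefa4.oLe.{ku} = @_root_.Cfsg.Agent.KO8ffefa4.k2.{ku} := funext fun α => funext fun a => funext fun b => funext fun f => funext fun t => by delta _root_.Cfsg.Agent.KO8ffefa4.oLe _root_.Cfsg.Agent.KO8ffefa4.k2; cases h : Nat.ble a b <;> cases Nat.decLe a b <;> rename_i g <;> first | rfl | exact absurd (h.symm.trans (Nat.ble_eq_true_of_le g)) Bool.false_ne_true | exact absurd (Nat.le_of_ble_eq_true h) g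
private noncomputable def _root_.Cfsg.Agent.KO8ffefa4.k3.{ku0} : type_of% @List.length.{ku0} := @(fun x0 x1 => @List.rec.{1, ku0} @x0 @(fun x2 => ℕ) (nat_lit 0) @(fun x2 x3 x4 => @Nat.add @x4 (nat_lit 1)) @x1)
private theorem _root_.Cfsg.Agent.KO8ffefa4.e3.{ku0} : @List.length.{ku0} = @_root_.Cfsg.Agent.KO8ffefa4.k3.{ku0} := by delta _root_.Cfsg.Agent.KO8ffefa4.k3; funext a0 a1; refine (_root_.Cfsg.Agent.KO8ffefa4.e0 (fun a1 => @List.length.{ku0} a0 a1) ?_ (fun c0 c1 => ?_) a1 :) <;> (rfl')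
private noncomputable def _root_.Cfsg.Agent.KO8ffefa4.k4 : (by first | exact type_of% @Cfsg.Agent.TAB.Eng.nth | exact Unit : Sort _) := by first | (refine @Subtype.val _ (fun g => @Cfsg.Agent.TAB.Eng.nth = @g) (@Subtype.mk _ _ (@(fun x0 => @List.rec.{1, 0} ℤ @(fun x1 => ℕ → ℤ) @(fun x1 => @Int.ofNat (nat_lit 0)) @(fun x1 x2 x3 x4 => @Nat.rec.{1} @(fun x5 => ℤ) @x1 @(fun x5 x6 => @x3 @x5) @x4) @x0)) ?_); rfl') | exact @Cfsg.Agent.TAB.Eng.nth | exact ()
private theorem _root_.Cfsg.Agent.KO8ffefa4.e4 : (by first | exact @Cfsg.Agent.TAB.Eng.nth = @_root_.Cfsg.Agent.KO8ffefa4.k4 | exact True : Prop) := by first | (delta _root_.Cfsg.Agent.KO8ffefa4.k4; exact @Subtype.property _ (fun g => @Cfsg.Agent.TAB.Eng.nth = @g) _) | rfl | trivial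
private noncomputable def _root_.Cfsg.Agent.KO8ffefa4.k6.{ku0} : type_of% @List.get?Internal.{ku0} := @(fun x0 x1 x2 => @List.rec.{(ku0+1), ku0} @x0 @(fun x3 => ℕ → @Option.{ku0} @x0) @(fun x3 => @Option.none.{ku0} _) @(fun x3 x4 x5 x6 => @Nat.rec.{(ku0+1)} @(fun x7 => @Option.{ku0} @x0) (@Option.some.{ku0} _ @x3) @(fun x7 x8 => @x5 @x7) @x6) @x1 @x2)
private theorem _root_.Cfsg.Agent.KO8ffefa4.e6.{ku0} : @List.get?Internal.{ku0} = @_root_.Cfsg.Agent.KO8ffefa4.k6.{ku0} := by delta _root_.Cfsg.Agent.KO8ffefa4.k6; funext a0 a1 a2; refine (congrFun (_root_.Cfsg.Agent.KO8ffefa4.e0 (fun a1 a2 => @List.get?Internal.{ku0} a0 a1 a2) ?_ (fun c0 c1 => ?_) a1) a2 :) <;> [(funext b0; (rfl')); (funext b0; (cases b0 with | @zero  => (rfl') | @succ b0_0 => (rfl')))]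
private noncomputable def _root_.Cfsg.Agent.KO8ffefa4.k7.{ku0} : type_of% @List.append.{ku0} := @(fun x0 x1 x2 => @List.rec.{(ku0+1), ku0} @x0 @(fun x3 => (@List.{ku0} @x0) → @List.{ku0} @x0) @(fun x3 => @x3) @(fun x3 x4 x5 x6 => @x3 :: (@x5 @x6)) @x1 @x2)
private theorem _root_.Cfsg.Agent.KO8ffefa4.e7.{ku0} : @List.append.{ku0} = @_root_.Cfsg.Agent.KO8ffefa4.k7.{ku0} := by delta _root_.Cfsg.Agent.KO8ffefa4.k7; funext a0 a1 a2; refine (congrFun (_root_.Cfsg.Agent.KO8ffefa4.e0 (fun a1 a2 => @List.append.{ku0} a0 a1 a2) ?_ (fun c0 c1 => ?_) a1) a2 :) <;> (rfl')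
private noncomputable def _root_.Cfsg.Agent.KO8ffefa4.k8 : (by first | exact type_of% @Cfsg.Agent.TAB.Sm2.rw' | exact Unit : Sort _) := by first | (refine @Subtype.val _ (fun g => @Cfsg.Agent.TAB.Sm2.rw' = @g) (@Subtype.mk _ _ (@(fun x0 x1 x2 => @Option.rec.{1, 0} (@List.{0} ℤ) @(fun x3 => @List.{0} ℤ) [] @(fun x3 => @x3) (@Cfsg.Agent.KO8ffefa4.k6.{0} _ (@Cfsg.Agent.KO8ffefa4.k7.{0} _ @x0 @x1) @x2))) ?_); rewrite [← Cfsg.Agent.KO8ffefa4.e7.{0}, ← Cfsg.Agent.KO8ffefa4.e6.{0}]; rfl') | exact @Cfsg.Agent.TAB.Sm2.rw' | exact ()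
private theorem _root_.Cfsg.Agent.KO8ffefa4.e8 : (by first | exact @Cfsg.Agent.TAB.Sm2.rw' = @_root_.Cfsg.Agent.KO8ffefa4.k8 | exact True : Prop) := by first | (delta _root_.Cfsg.Agent.KO8ffefa4.k8; exact @Subtype.property _ (fun g => @Cfsg.Agent.TAB.Sm2.rw' = @g) _) | rfl | trivial
private noncomputable def _root_.Cfsg.Agent.KO8ffefa4.k9 : type_of% @Int.mul := @(fun x0 x1 => @Int.rec.{1} @(fun x2 => ℤ) @(fun x2 => @Int.rec.{1} @(fun x3 => ℤ) @(fun x3 => @Int.ofNat (@Nat.mul @x2 @x3)) @(fun x3 => @Nat.rec.{1} @(fun x4 => ℤ) (@Int.ofNat (nat_lit 0)) @(fun x4 x5 => @Int.negSucc @x4) (@Nat.mul @x2 (@Nat.succ @x3))) @x1) @(fun x2 => @Int.rec.{1} @(fun x3 => ℤ) @(fun x3 => @Nat.rec.{1} @(fun x4 => ℤ) (@Int.ofNat (nat_lit 0)) @(fun x4 x5 => @Int.negSucc @x4) (@Nat.mul (@Nat.succ @x2) @x3)) @(fun x3 => @Int.ofNat (@Nat.mul (@Nat.succ @x2) (@Nat.succ @x3))) @x1) @x0)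
private theorem _root_.Cfsg.Agent.KO8ffefa4.e9 : @Int.mul = @_root_.Cfsg.Agent.KO8ffefa4.k9 := by delta _root_.Cfsg.Agent.KO8ffefa4.k9; rfl'
private noncomputable def _root_.Cfsg.Agent.KO8ffefa4.k10 : (by first | exact type_of% @Cfsg.Agent.TAB.Sm2.wt | exact Unit : Sort _) := by first | (refine @Subtype.val _ (fun g => @Cfsg.Agent.TAB.Sm2.wt = @g) (@Subtype.mk _ _ (@(fun x0 x1 x2 => @Cfsg.Agent.KO8ffefa4.k2.{1} ℤ (@Nat.succ @x2) (@Cfsg.Agent.KO8ffefa4.k3.{0} _ @x0) (@Cfsg.Agent.KO8ffefa4.k4 (@Cfsg.Agent.KO8ffefa4.k8 @x0 @x1 @x2) (nat_lit 0)) (@Cfsg.Agent.KO8ffefa4.k9 (@Int.ofNat (nat_lit 2)) (@Cfsg.Agent.KO8ffefa4.k4 (@Cfsg.Agent.KO8ffefa4.k8 @x0 @x1 @x2) (nat_lit 0))))) ?_); rewrite [← Cfsg.Agent.KO8ffefa4.e9, ← Cfsg.Agent.KO8ffefa4.e8, ← Cfsg.Agent.KO8ffefa4.e4, ← Cfsg.Agent.KO8ffefa4.e3.{0}, ← Cfsg.Agent.KO8ffefa4.e2.{1}]; (try delta Cfsg.Agent.TAB.Sm2.wt); (try generalize @Cfsg.Agent.TAB.Eng.nth = g0); (try generalize @Cfsg.Agent.TAB.Sm2.rw'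 = g1); rfl') | exact @Cfsg.Agent.TAB.Sm2.wt | exact ()
private theorem _root_.Cfsg.Agent.KO8ffefa4.e10 : (by first | exact @Cfsg.Agent.TAB.Sm2.wt = @_root_.Cfsg.Agent.KO8ffefa4.k10 | exact True : Prop) := by first | (delta _root_.Cfsg.Agent.KO8ffefa4.k10; exact @Subtype.property _ (fun g => @Cfsg.Agent.TAB.Sm2.wt = @g) _) | rfl | trivial
private noncomputable def _root_.Cfsg.Agent.KO8ffefa4.k11 : (by first | exact type_of% @Cfsg.Agent.TAB.Sm2.ro | exact Unit : Sort _) := by first | (refine @Subtype.val _ (fun g => @Cfsg.Agent.TAB.Sm2.ro = @g) (@Subtype.mk _ _ (@(fun x0 x1 => @Cfsg.Agent.KO8ffefa4.k2.{1} ℕ (@Nat.succ @x1) (@Cfsg.Agent.KO8ffefa4.k3.{0} _ @x0) (@Nat.add (@Cfsg.Agent.KO8ffefa4.k3.{0} _ @x0) (@Nat.div (@Nat.sub @x1 (@Cfsg.Agent.KO8ffefa4.k3.{0} _ @x0)) (nat_lit 2))) @x1)) ?_); rewrite [← Cfsg.Agent.KO8ffefa4.e3.{0}, ← Cfsg.Agent.KO8ffefa4.e2.{1}]; rfl') | exact @Cfsg.Agent.TAB.Sm2.ro | exact ()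
private theorem _root_.Cfsg.Agent.KO8ffefa4.e11 : (by first | exact @Cfsg.Agent.TAB.Sm2.ro = @_root_.Cfsg.Agent.KO8ffefa4.k11 | exact True : Prop) := by first | (delta _root_.Cfsg.Agent.KO8ffefa4.k11; exact @Subtype.property _ (fun g => @Cfsg.Agent.TAB.Sm2.ro = @g) _) | rfl | trivial
private theorem _root_.Cfsg.Agent.KO8ffefa4.e12.{ku} {M : Nat → Sort ku} (φ : ∀ n, M n) {z : M Nat.zero} {s : ∀ n, M n → M (Nat.succ n)} (h0 : φ Nat.zero = z) (hs : ∀ n, φ (Nat.succ n) = s n (φ n)) (n : Nat) : φ n = @Nat.rec M z s n := Nat.rec h0 (fun n ih => (hs n).trans (congrArg (s n) ih)) n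
private noncomputable def _root_.Cfsg.Agent.KO8ffefa4.k13 : type_of% @List.range.loop := @(fun x0 x1 => @Nat.rec.{1} @(fun x2 => (@List.{0} ℕ) → @List.{0} ℕ) @(fun x2 => @x2) @(fun x2 x3 x4 => @x3 (@x2 :: @x4)) @x0 @x1)
private theorem _root_.Cfsg.Agent.KO8ffefa4.e13 : @List.range.loop = @_root_.Cfsg.Agent.KO8ffefa4.k13 := by delta _root_.Cfsg.Agent.KO8ffefa4.k13; funext a0 a1; refine (congrFun (_root_.Cfsg.Agent.KO8ffefa4.e12 (fun a0 a1 => @List.range.loop a0 a1) ?_ (fun c0 => ?_) a0) a1 :) <;> (rfl')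
private noncomputable def _root_.Cfsg.Agent.KO8ffefa4.k14 : (by first | exact type_of% @Cfsg.Agent.TAB.Sm2.mkRows | exact Unit : Sort _) := by first | (refine @Subtype.val _ (fun g => @Cfsg.Agent.TAB.Sm2.mkRows = @g) (@Subtype.mk _ _ (@(fun x0 x1 => @Cfsg.Agent.TAB.Use.Rows.mk (@Cfsg.Agent.KO8ffefa4.k1.{0, 0} _ _ @(fun x2 => @Nat.div (@Int.rec.{1} @(fun x3 => ℕ) @(fun x3 => @x3) @(fun x3 => nat_lit 0) (@Cfsg.Agent.KO8ffefa4.k10 @x0 @x1 (@Cfsg.Agent.KO8ffefa4.k11 @x0 @x2))) (nat_lit 2)) (@Cfsg.Agent.KO8ffefa4.k13 (@Nat.add (@Cfsg.Agent.KO8ffefa4.k3.{0} _ @x0) (@Nat.mul (nat_lit 2) (@Cfsg.Agent.KO8ffefa4.k3.{0} _ @x1))) [])) (@Cfsg.Agent.KO8ffefa4.k7.{0} _ (@Cfsg.Agent.KO8ffefa4.k1.{0, 0} _ _ @(fun x2 => (((@x2, @Int.ofNat (nat_lit 1))) :: [], @Cfsg.Agent.KO8ffefa4.k8 @x0 @x1 @x2)) (@Cfsg.Agent.KO8ffefa4.k13 (@Cfsg.Agent.KO8ffefa4.k3.{0} _ @x0) [])) (@Cfsg.Agent.KO8ffefa4.k1.{0, 0} _ _ @(fun x2 => (((@Nat.add (@Cfsg.Agent.KO8ffefa4.k3.{0} _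 @x0) (@Nat.mul (nat_lit 2) @x2), @Int.ofNat (nat_lit 1))) :: (((@Nat.add (@Nat.add (@Cfsg.Agent.KO8ffefa4.k3.{0} _ @x0) (@Nat.mul (nat_lit 2) @x2)) (nat_lit 1), @Int.ofNat (nat_lit 1))) :: []), @Cfsg.Agent.KO8ffefa4.k8 @x0 @x1 (@Nat.add (@Cfsg.Agent.KO8ffefa4.k3.{0} _ @x0) @x2))) (@Cfsg.Agent.KO8ffefa4.k13 (@Cfsg.Agent.KO8ffefa4.k3.{0} _ @x1) []))))) ?_); rewrite [← Cfsg.Agent.KO8ffefa4.e8, ← Cfsg.Agent.KO8ffefa4.e7.{0}, ← Cfsg.Agent.KO8ffefa4.e3.{0}, ← Cfsg.Agent.KO8ffefa4.e13, ← Cfsg.Agent.KO8ffefa4.e11, ← Cfsg.Agent.KO8ffefa4.e10, ← Cfsg.Agent.KO8ffefa4.e1.{0, 0}]; (try delta Cfsg.Agent.TAB.Sm2.mkRows); (try generalize @Cfsg.Agent.TAB.Sm2.wt = g0); (try generalize @Cfsg.Agent.TAB.Sm2.ro = g1); (try generalize @Cfsg.Agent.TAB.Sm2.rw' = g2); rfl') | exact @Cfsg.Agent.TAB.Sm2.mkRows | exact ()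
private theorem _root_.Cfsg.Agent.KO8ffefa4.e14 : (by first | exact @Cfsg.Agent.TAB.Sm2.mkRows = @_root_.Cfsg.Agent.KO8ffefa4.k14 | exact True : Prop) := by first | (delta _root_.Cfsg.Agent.KO8ffefa4.k14; exact @Subtype.property _ (fun g => @Cfsg.Agent.TAB.Sm2.mkRows = @g) _) | rfl | trivial
private noncomputable def _root_.Cfsg.Agent.KO8ffefa4.k15 : (by first | exact type_of% @Cfsg.Agent.TAB.Eng.rwL | exact Unit : Sort _) := by first | (refine @Subtype.val _ (fun g => @Cfsg.Agent.TAB.Eng.rwL = @g) (@Subtype.mk _ _ (@(fun x0 x1 => @Cfsg.Agent.KO8ffefa4.k1.{0, 0} _ _ @(fun x2 => @Cfsg.Agent.KO8ffefa4.k4 @x2 @x1) @x0)) ?_); rewrite [← Cfsg.Agent.KO8ffefa4.e4, ← Cfsg.Agent.KO8ffefa4.e1.{0, 0}]; (try delta Cfsg.Agent.TAB.Eng.rwL); (try generalize @Cfsg.Agent.TAB.Eng.nth = g0); rfl') | exact @Cfsg.Agent.TAB.Eng.rwL | exact ()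
private theorem _root_.Cfsg.Agent.KO8ffefa4.e15 : (by first | exact @Cfsg.Agent.TAB.Eng.rwL = @_root_.Cfsg.Agent.KO8ffefa4.k15 | exact True : Prop) := by first | (delta _root_.Cfsg.Agent.KO8ffefa4.k15; exact @Subtype.property _ (fun g => @Cfsg.Agent.TAB.Eng.rwL = @g) _) | rfl | trivial
private noncomputable def _root_.Cfsg.Agent.KO8ffefa4.k16 : type_of% @List.range' := @(fun x0 x1 x2 => @Nat.rec.{1} @(fun x3 => ℕ → ℕ → @List.{0} ℕ) @(fun x3 x4 => []) @(fun x3 x4 x5 x6 => @x5 :: (@x4 (@Nat.add @x5 @x6) @x6)) @x1 @x0 @x2)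
private theorem _root_.Cfsg.Agent.KO8ffefa4.e16 : @List.range' = @_root_.Cfsg.Agent.KO8ffefa4.k16 := by delta _root_.Cfsg.Agent.KO8ffefa4.k16; funext a0 a1 a2; refine (congrFun (congrFun (_root_.Cfsg.Agent.KO8ffefa4.e12 (fun a1 a0 a2 => @List.range' a0 a1 a2) ?_ (fun c0 => ?_) a1) a0) a2 :) <;> (rfl')
private noncomputable def _root_.Cfsg.Agent.KO8ffefa4.k17 : (by first | exact type_of% @Cfsg.Agent.TAB.B.Bes.rowsL | exact Unit : Sort _) := by first | (refine @Subtype.val _ (fun g => @Cfsg.Agent.TAB.B.Bes.rowsL = @g) (@Subtype.mk _ _ (@(fun x0 x1 x2 => @Cfsg.Agent.KO8ffefa4.k1.{0, 0} _ _ (@Cfsg.Agent.KO8ffefa4.k15 @x0) (@Cfsg.Agent.KO8ffefa4.k16 @x1 @x2 (nat_lit 1)))) ?_); rewrite [← Cfsg.Agent.KO8ffefa4.e16, ← Cfsg.Agent.KO8ffefa4.e15, ← Cfsg.Agent.KO8ffefa4.e1.{0, 0}]; (try delta Cfsg.Agent.TAB.B.Bes.rowsL); (try generalize @Cfsg.Agent.TAB.Eng.rwL = g0); rfl') | exact @Cfsg.Agent.TAB.B.Bes.rowsL | exact ()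
private theorem _root_.Cfsg.Agent.KO8ffefa4.e17 : (by first | exact @Cfsg.Agent.TAB.B.Bes.rowsL = @_root_.Cfsg.Agent.KO8ffefa4.k17 | exact True : Prop) := by first | (delta _root_.Cfsg.Agent.KO8ffefa4.k17; exact @Subtype.property _ (fun g => @Cfsg.Agent.TAB.B.Bes.rowsL = @g) _) | rfl | trivial
private noncomputable def _root_.Cfsg.Agent.KO8ffefa4.oEq.{ku} (α : Sort ku) (a b : Nat) (f t : α) : α := @Decidable.rec (a = b) (fun _ => α) (fun _ => f) (fun _ => t) (Nat.decEq a b)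
private noncomputable def _root_.Cfsg.Agent.KO8ffefa4.k18.{ku} (α : Sort ku) (a b : Nat) (f t : α) : α := @Bool.rec (fun _ => α) f t (Nat.beq a b)
private theorem _root_.Cfsg.Agent.KO8ffefa4.e18.{ku} : @_root_.Cfsg.Agent.KO8ffefa4.oEq.{ku} = @_root_.Cfsg.Agent.KO8ffefa4.k18.{ku} := funext fun α => funext fun a => funext fun b => funext fun f => funext fun t => by delta _root_.Cfsg.Agent.KO8ffefa4.oEq _root_.Cfsg.Agent.KO8ffefa4.k18; cases h : Nat.beq a b <;> cases Nat.decEq a b <;> rename_i g <;> first | rfl | exact absurd g (Nat.ne_of_beq_eq_false h) | exact absurd (Nat.eq_of_beq_eq_true h) g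
private noncomputable def _root_.Cfsg.Agent.KO8ffefa4.k19.{ku0} : type_of% @List.all.{ku0} := @(fun x0 x1 x2 => @List.rec.{(ku0+1), ku0} @x0 @(fun x3 => (@x0 → @Bool) → @Bool) @(fun x3 => @Bool.true) @(fun x3 x4 x5 x6 => @Bool.rec.{1} @(fun x7 => @Bool) @Bool.false (@x5 @x6) (@x6 @x3)) @x1 @x2)
private theorem _root_.Cfsg.Agent.KO8ffefa4.e19.{ku0} : @List.all.{ku0} = @_root_.Cfsg.Agent.KO8ffefa4.k19.{ku0} := by delta _root_.Cfsg.Agent.KO8ffefa4.k19; funext a0 a1 a2; refine (congrFun (_root_.Cfsg.Agent.KO8ffefa4.e0 (fun a1 a2 => @List.all.{ku0} a0 a1 a2) ?_ (fun c0 c1 => ?_) a1) a2 :) <;> (rfl')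
private noncomputable def _root_.Cfsg.Agent.KO8ffefa4.k20.{ku0} : type_of% @List.any.{ku0} := @(fun x0 x1 x2 => @List.rec.{(ku0+1), ku0} @x0 @(fun x3 => (@x0 → @Bool) → @Bool) @(fun x3 => @Bool.false) @(fun x3 x4 x5 x6 => @Bool.rec.{1} @(fun x7 => @Bool) (@x5 @x6) @Bool.true (@x6 @x3)) @x1 @x2)
private theorem _root_.Cfsg.Agent.KO8ffefa4.e20.{ku0} : @List.any.{ku0} = @_root_.Cfsg.Agent.KO8ffefa4.k20.{ku0} := by delta _root_.Cfsg.Agent.KO8ffefa4.k20; funext a0 a1 a2; refine (congrFun (_root_.Cfsg.Agent.KO8ffefa4.e0 (fun a1 a2 => @List.any.{ku0} a0 a1 a2) ?_ (fun c0 c1 => ?_) a1) a2 :) <;> (rfl')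
private noncomputable def _root_.Cfsg.Agent.KO8ffefa4.k21 : type_of% @Nat.decEq := @(fun x0 x1 => @Bool.rec.{1} @(fun x2 => (@Eq.{1} _ (@Nat.beq @x0 @x1) @x2) → @Decidable (@Eq.{1} _ @x0 @x1)) @(fun x2 => @Decidable.isFalse _ (@Nat.ne_of_beq_eq_false _ _ @x2)) @(fun x2 => @Decidable.isTrue _ (@Nat.eq_of_beq_eq_true _ _ @x2)) (@Nat.beq @x0 @x1) (@Eq.refl.{1} _ (@Nat.beq @x0 @x1)))
private theorem _root_.Cfsg.Agent.KO8ffefa4.e21 : @Nat.decEq = @_root_.Cfsg.Agent.KO8ffefa4.k21 := by delta _root_.Cfsg.Agent.KO8ffefa4.k21; rfl'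
private noncomputable def _root_.Cfsg.Agent.KO8ffefa4.k22 : type_of% @Int.decEq := @(fun x0 x1 => @Int.rec.{1} @(fun x2 => @Decidable (@Eq.{1} _ @x2 @x1)) @(fun x2 => @Int.rec.{1} @(fun x3 => @Decidable (@Eq.{1} _ (@Int.ofNat @x2) @x3)) @(fun x3 => @Decidable.rec.{1} _ @(fun x4 => @Decidable (@Eq.{1} _ (@Int.ofNat @x2) (@Int.ofNat @x3))) @(fun x4 => @Decidable.isFalse _ (@Int.decEq._proof_2 @x2 @x3 @x4)) @(fun x4 => @Decidable.isTrue _ (@Int.decEq._proof_1 @x2 @x3 @x4)) (@Cfsg.Agent.KO8ffefa4.k21 @x2 @x3)) @(fun x3 => @Decidable.isFalse _ (@Int.decEq._proof_3 @x2 @x3)) @x1) @(fun x2 => @Int.rec.{1} @(fun x3 => @Decidable (@Eq.{1} _ (@Int.negSucc @x2) @x3)) @(fun x3 => @Decidable.isFalse _ (@Int.decEq._proof_4 @x2 @x3)) @(fun x3 => @Decidable.rec.{1} _ @(fun x4 => @Decidable (@Eq.{1} _ (@Int.negSucc @x2) (@Int.negSucc @x3))) @(fun x4 => @Decidable.isFalse _ (@Int.decEq._proof_6 @x2 @x3 @x4)) @(fun x4 => @Decidable.isTrue _ (@Int.decEq._proof_5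 @x2 @x3 @x4)) (@Cfsg.Agent.KO8ffefa4.k21 @x2 @x3)) @x1) @x0)
private theorem _root_.Cfsg.Agent.KO8ffefa4.e22 : @Int.decEq = @_root_.Cfsg.Agent.KO8ffefa4.k22 := by delta _root_.Cfsg.Agent.KO8ffefa4.k22; rewrite [← Cfsg.Agent.KO8ffefa4.e21]; rfl'
private noncomputable def _root_.Cfsg.Agent.KO8ffefa4.k24.{ku0} : type_of% @List.beq.{ku0} := @(fun x0 x1 x2 x3 => @List.rec.{(ku0+1), ku0} @x0 @(fun x4 => (@List.{ku0} @x0) → @Bool) @(fun x4 => @List.rec.{1, ku0} @x0 @(fun x5 => @Bool) @Bool.true @(fun x5 x6 x7 => @Bool.false) @x4) @(fun x4 x5 x6 x7 => @List.rec.{1, ku0} @x0 @(fun x8 => @Bool) @Bool.false @(fun x8 x9 x10 => @Bool.rec.{1} @(fun x11 => @Bool) @Bool.false (@x6 @x9) (@BEq.beq.{ku0} _ @x1 @x4 @x8)) @x7) @x2 @x3)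
private theorem _root_.Cfsg.Agent.KO8ffefa4.e24.{ku0} : @List.beq.{ku0} = @_root_.Cfsg.Agent.KO8ffefa4.k24.{ku0} := by delta _root_.Cfsg.Agent.KO8ffefa4.k24; funext a0 a1 a2 a3; refine (congrFun (_root_.Cfsg.Agent.KO8ffefa4.e0 (fun a2 a3 => @List.beq.{ku0} a0 a1 a2 a3) ?_ (fun c0 c1 => ?_) a2) a3 :) <;> [(funext b0; (cases b0 with | @nil  => (rfl') | @cons b0_0 b0_1 => (rfl'))); (funext b0; (cases b0 with | @nil  => (rfl') | @cons b0_0 b0_1 => (rfl')))]
private noncomputable def _root_.Cfsg.Agent.KO8ffefa4.k25 : (by first | exact type_of% @Cfsg.Agent.TAB.Use.zeroB | exact Unit : Sort _) := by first | (refine @Subtype.val _ (fun g => @Cfsg.Agent.TAB.Use.zeroB = @g) (@Subtype.mk _ _ (@(fun x0 x1 x2 x3 x4 => @Bool.rec.{1} @(fun x5 => @Bool) (@Cfsg.Agent.KO8ffefa4.k20.{0} _ (@Cfsg.Agent.TAB.Use.Rows.rel @x1) @(fun x5 => @Bool.rec.{1} @(fun x6 => @Bool) @Bool.false (@Decidable.rec.{1} _ @(fun x6 => @Bool) @(fun x6 => @Bool.false) @(fun x6 => @Bool.true)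 (@Cfsg.Agent.KO8ffefa4.k22 (@Option.rec.{1, 0} ℤ @(fun x6 => ℤ) (@Int.ofNat (nat_lit 0)) @(fun x6 => @x6) (@List.get?Internal.{0} _ (@Prod.snd.{0, 0} _ _ @x5) @x3)) (@Int.ofNat (nat_lit 0)))) (@Cfsg.Agent.KO8ffefa4.k24.{0} _ (@BEq.mk.{0} _ @(fun x6 x7 => @Prod.rec.{1, 0, 0} ℕ ℤ @(fun x8 => @Bool) @(fun x8 x9 => @Prod.rec.{1, 0, 0} ℕ ℤ @(fun x10 => @Bool) @(fun x10 x11 => @Bool.rec.{1} @(fun x12 => @Bool) @Bool.false (@Decidable.rec.{1} _ @(fun x12 => @Bool) @(fun x12 => @Bool.false) @(fun x12 => @Bool.true) (@Cfsg.Agent.KO8ffefa4.k22 @x9 @x11)) (@Cfsg.Agent.KO8ffefa4.k18.{1} @Bool @x8 @x10 @Bool.false @Bool.true)) @x7) @x6)) (@Prod.fst.{0, 0} _ _ @x5) (((@x4, @Int.ofNat (nat_lit 1))) :: [])))) @Bool.true (@Cfsg.Agent.KO8ffefa4.k20.{0} _ @x2 @(fun x5 => @Bool.rec.{1} @(fun x6 => @Bool) @Bool.false (@Cfsg.Agent.KO8ffefa4.k18.{1} @Bool (@Nat.mod (@Option.rec.{1, 0} ℕ @(fun x6 => ℕ) (nat_lit 0) @(fun x6 => @x6) (@List.get?Internal.{0} _ (@Cfsg.Agent.TAB.Use.Rows.deg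 @x1) @x4)) (@Nat.pow (@Prod.fst.{0, 0} _ _ @x5) (@Prod.snd.{0, 0} _ _ @x5))) (nat_lit 0) @Bool.false @Bool.true) (@Cfsg.Agent.KO8ffefa4.k18.{1} @Bool (@Nat.mod (@Option.rec.{1, 0} ℕ @(fun x6 => ℕ) (nat_lit 0) @(fun x6 => @x6) (@List.get?Internal.{0} _ (@Cfsg.Agent.TAB.Eng.Dat.ordL @x0) @x3)) (@Prod.fst.{0, 0} _ _ @x5)) (nat_lit 0) @Bool.false @Bool.true))))) ?_); rewrite [← Cfsg.Agent.KO8ffefa4.e18.{1}, ← Cfsg.Agent.KO8ffefa4.e24.{0}, ← Cfsg.Agent.KO8ffefa4.e22, ← Cfsg.Agent.KO8ffefa4.e20.{0}]; rfl') | exact @Cfsg.Agent.TAB.Use.zeroB | exact ()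
private theorem _root_.Cfsg.Agent.KO8ffefa4.e25 : (by first | exact @Cfsg.Agent.TAB.Use.zeroB = @_root_.Cfsg.Agent.KO8ffefa4.k25 | exact True : Prop) := by first | (delta _root_.Cfsg.Agent.KO8ffefa4.k25; exact @Subtype.property _ (fun g => @Cfsg.Agent.TAB.Use.zeroB = @g) _) | rfl | trivial
private noncomputable def _root_.Cfsg.Agent.KO8ffefa4.k26 : (by first | exact type_of% @Cfsg.Agent.TAB.Use.primesB | exact Unit : Sort _) := by first | (refine @Subtype.val _ (fun g => @Cfsg.Agent.TAB.Use.primesB = @g) (@Subtype.mk _ _ (@(fun x0 x1 => @Cfsg.Agent.KO8ffefa4.k19.{0} _ @x1 @(fun x2 => @Bool.rec.{1} @(fun x3 => @Bool) @Bool.false (@Bool.rec.{1} @(fun x3 => @Bool) @Bool.true @Bool.false (@Cfsg.Agent.KO8ffefa4.k18.{1} @Bool (@Nat.mod (@Cfsg.Agent.TAB.Eng.Dat.N @x0) (@Nat.pow (@Prod.fst.{0, 0} _ _ @x2) (@Nat.add (@Prod.snd.{0, 0} _ _ @x2) (nat_lit 1)))) (nat_lit 0) @Bool.false @Bool.true)) (@Cfsg.Agent.KO8ffefa4.k18.{1} @Bool (@Nat.mod (@Cfsg.Agent.TAB.Eng.Dat.N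 @x0) (@Nat.pow (@Prod.fst.{0, 0} _ _ @x2) (@Prod.snd.{0, 0} _ _ @x2))) (nat_lit 0) @Bool.false @Bool.true)))) ?_); rewrite [← Cfsg.Agent.KO8ffefa4.e18.{1}, ← Cfsg.Agent.KO8ffefa4.e19.{0}]; rfl') | exact @Cfsg.Agent.TAB.Use.primesB | exact ()
private theorem _root_.Cfsg.Agent.KO8ffefa4.e26 : (by first | exact @Cfsg.Agent.TAB.Use.primesB = @_root_.Cfsg.Agent.KO8ffefa4.k26 | exact True : Prop) := by first | (delta _root_.Cfsg.Agent.KO8ffefa4.k26; exact @Subtype.property _ (fun g => @Cfsg.Agent.TAB.Use.primesB = @g) _) | rfl | trivial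
private noncomputable def _root_.Cfsg.Agent.KO8ffefa4.k27 : (by first | exact type_of% @Cfsg.Agent.TAB.Use.vanB | exact Unit : Sort _) := by first | (refine @Subtype.val _ (fun g => @Cfsg.Agent.TAB.Use.vanB = @g) (@Subtype.mk _ _ (@(fun x0 x1 x2 x3 x4 x5 => @Bool.rec.{1} @(fun x6 => @Bool) @Bool.false (@Cfsg.Agent.KO8ffefa4.k19.{0} _ (@Cfsg.Agent.KO8ffefa4.k13 (@Cfsg.Agent.KO8ffefa4.k3.{0} _ (@Cfsg.Agent.TAB.Use.Rows.deg @x1)) []) @(fun x6 => @Bool.rec.{1} @(fun x7 => @Bool) (@Bool.rec.{1} @(fun x7 => @Bool) @Bool.false (@Bool.rec.{1} @(fun x7 => @Bool) (@Cfsg.Agent.KO8ffefa4.k25 @x0 @x1 @x2 @x5 @x6) @Bool.true (@Bool.rec.{1} @(fun x7 => @Bool) (@Cfsg.Agent.KO8ffefa4.k25 @x0 @x1 @x2 @x4 @x6) @Bool.true (@Cfsg.Agent.KO8ffefa4.k25 @x0 @x1 @x2 @x3 @x6))) (@Bool.rec.{1} @(fun x7 => @Bool) @Bool.true @Bool.false (@Cfsg.Agent.KO8ffefa4.k18.{1} @Bool (@Option.rec.{1, 0} ℕ @(fun x7 => ℕ) (nat_lit 0) @(fun x7 => @x7) (@Cfsg.Agent.KO8ffefa4.k6.{0} _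 (@Cfsg.Agent.TAB.Use.Rows.deg @x1) @x6)) (nat_lit 1) @Bool.false @Bool.true))) @Bool.true (@Cfsg.Agent.KO8ffefa4.k18.{1} @Bool @x6 (nat_lit 0) @Bool.false @Bool.true))) (@Bool.rec.{1} @(fun x6 => @Bool) @Bool.false (@Cfsg.Agent.KO8ffefa4.k26 @x0 @x2) (@Bool.rec.{1} @(fun x6 => @Bool) @Bool.false (@Cfsg.Agent.KO8ffefa4.k2.{1} @Bool (@Nat.succ @x5) (@Cfsg.Agent.TAB.Eng.Dat.n @x0) @Bool.false @Bool.true) (@Bool.rec.{1} @(fun x6 => @Bool) @Bool.false (@Cfsg.Agent.KO8ffefa4.k2.{1} @Bool (@Nat.succ @x4) (@Cfsg.Agent.TAB.Eng.Dat.n @x0) @Bool.false @Bool.true) (@Cfsg.Agent.KO8ffefa4.k2.{1} @Bool (@Nat.succ @x3) (@Cfsg.Agent.TAB.Eng.Dat.n @x0) @Bool.false @Bool.true)))))) ?_); rewrite [← Cfsg.Agent.KO8ffefa4.e2.{1}, ← Cfsg.Agent.KO8ffefa4.e26, ← Cfsg.Agent.KO8ffefa4.e6.{0}, ← Cfsg.Agent.KO8ffefa4.e18.{1}, ← Cfsg.Agent.KO8ffefa4.e25, ← Cfsg.Agent.KO8ffefa4.e3.{0}, ← Cfsg.Agent.KO8ffefa4.e13, ← Cfsg.Agent.KO8ffefa4.e19.{0}]; (try delta Cfsg.Agent.TAB.Use.vanB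 Cfsg.Agent.TAB.Use.Rows.n Cfsg.Agent.TAB.Use.Rows.d); (try generalize @Cfsg.Agent.TAB.Use.zeroB = g0); (try generalize @Cfsg.Agent.TAB.Use.primesB = g1); rfl') | exact @Cfsg.Agent.TAB.Use.vanB | exact ()
private theorem _root_.Cfsg.Agent.KO8ffefa4.e27 : (by first | exact @Cfsg.Agent.TAB.Use.vanB = @_root_.Cfsg.Agent.KO8ffefa4.k27 | exact True : Prop) := by first | (delta _root_.Cfsg.Agent.KO8ffefa4.k27; exact @Subtype.property _ (fun g => @Cfsg.Agent.TAB.Use.vanB = @g) _) | rfl | trivial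

theorem van_chk : vanB datF tabB [(2, 41), (3, 13), (5, 6), (7, 2), (11, 1), (13, 1), (17, 1), (19, 1), (23, 1), (31, 1),
    (47, 1)] 30 109 127 = true := by (first | (delta Cfsg.Agent.TAB.B.Fin.tabB; rewrite [Cfsg.Agent.KO8ffefa4.e27, Cfsg.Agent.KO8ffefa4.e14, Cfsg.Agent.KO8ffefa4.e17]; decide +kernel) | decide +kernel)

private noncomputable def _root_.Cfsg.Agent.KO8ffefa4.k28 : type_of% @List.range := @(fun x0 => @Cfsg.Agent.KO8ffefa4.k13 @x0 [])
private theorem _root_.Cfsg.Agent.KO8ffefa4.e28 : @List.range = @_root_.Cfsg.Agent.KO8ffefa4.k28 := by delta _root_.Cfsg.Agent.KO8ffefa4.k28; rewrite [← Cfsg.Agent.KO8ffefa4.e13]; rfl'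
private noncomputable def _root_.Cfsg.Agent.KO8ffefa4.k29 : (by first | exact type_of% @Cfsg.Agent.TAB.Use.Rows.n | exact Unit : Sort _) := by first | (refine @Subtype.val _ (fun g => @Cfsg.Agent.TAB.Use.Rows.n = @g) (@Subtype.mk _ _ (@(fun x0 => @Cfsg.Agent.KO8ffefa4.k3.{0} _ (@Cfsg.Agent.TAB.Use.Rows.deg @x0))) ?_); rewrite [← Cfsg.Agent.KO8ffefa4.e3.{0}]; rfl') | exact @Cfsg.Agent.TAB.Use.Rows.n | exact ()
private theorem _root_.Cfsg.Agent.KO8ffefa4.e29 : (by first | exact @Cfsg.Agent.TAB.Use.Rows.n = @_root_.Cfsg.Agent.KO8ffefa4.k29 | exact True : Prop) := by first | (delta _root_.Cfsg.Agent.KO8ffefa4.k29; exact @Subtype.property _ (fun g => @Cfsg.Agent.TAB.Use.Rows.n = @g) _) | rfl | trivial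
private noncomputable def _root_.Cfsg.Agent.KO8ffefa4.k30 : type_of% @Bool.or := @(fun x0 x1 => @Bool.rec.{1} @(fun x2 => @Bool) @x1 @Bool.true @x0)
private theorem _root_.Cfsg.Agent.KO8ffefa4.e30 : @Bool.or = @_root_.Cfsg.Agent.KO8ffefa4.k30 := by delta _root_.Cfsg.Agent.KO8ffefa4.k30; rfl'
private noncomputable def _root_.Cfsg.Agent.KO8ffefa4.k31 : type_of% @instDecidableEqNat := @Cfsg.Agent.KO8ffefa4.k21
private theorem _root_.Cfsg.Agent.KO8ffefa4.e31 : @instDecidableEqNat = @_root_.Cfsg.Agent.KO8ffefa4.k31 := by delta _root_.Cfsg.Agent.KO8ffefa4.k31; rewrite [← Cfsg.Agent.KO8ffefa4.e21]; rfl'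
private noncomputable def _root_.Cfsg.Agent.KO8ffefa4.k32 : (by first | exact type_of% @Cfsg.Agent.TAB.Use.Rows.d | exact Unit : Sort _) := by first | (refine @Subtype.val _ (fun g => @Cfsg.Agent.TAB.Use.Rows.d = @g) (@Subtype.mk _ _ (@(fun x0 x1 => @Option.rec.{1, 0} ℕ @(fun x2 => ℕ) (nat_lit 0) @(fun x2 => @x2) (@Cfsg.Agent.KO8ffefa4.k6.{0} _ (@Cfsg.Agent.TAB.Use.Rows.deg @x0) @x1))) ?_); rewrite [← Cfsg.Agent.KO8ffefa4.e6.{0}]; rfl') | exact @Cfsg.Agent.TAB.Use.Rows.d | exact ()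
private theorem _root_.Cfsg.Agent.KO8ffefa4.e32 : (by first | exact @Cfsg.Agent.TAB.Use.Rows.d = @_root_.Cfsg.Agent.KO8ffefa4.k32 | exact True : Prop) := by first | (delta _root_.Cfsg.Agent.KO8ffefa4.k32; exact @Subtype.property _ (fun g => @Cfsg.Agent.TAB.Use.Rows.d = @g) _) | rfl | trivial
private noncomputable def _root_.Cfsg.Agent.KO8ffefa4.k34 : (by first | exact type_of% @Cfsg.Agent.TAB.Eng.look | exact Unit : Sort _) := by first | (refine @Subtype.val _ (fun g => @Cfsg.Agent.TAB.Eng.look = @g) (@Subtype.mk _ _ (@(fun x0 x1 => @List.rec.{1, 0} (ℕ × ℕ) @(fun x2 => ℕ → ℕ) @(fun x2 => nat_lit 0) @(fun x2 x3 x4 x5 => @Cfsg.Agent.KO8ffefa4.k18.{1} ℕ (@Prod.fst.{0, 0} _ _ @x2) @x5 (@x4 @x5) (@Prod.snd.{0, 0} _ _ @x2)) @x0 @x1)) ?_); rewrite [← Cfsg.Agent.KO8ffefa4.e18.{1}]; funext a0 a1; refine (congrFun (_root_.Cfsg.Agent.KO8ffefa4.e0 (fun a0 a1 => @Cfsg.Agent.TAB.Eng.look a0 a1) ?_ (fun c0 c1 => ?_) a0) a1 :) <;> (rfl')) | exact @Cfsg.Agent.TAB.Eng.look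 | exact ()
private theorem _root_.Cfsg.Agent.KO8ffefa4.e34 : (by first | exact @Cfsg.Agent.TAB.Eng.look = @_root_.Cfsg.Agent.KO8ffefa4.k34 | exact True : Prop) := by first | (delta _root_.Cfsg.Agent.KO8ffefa4.k34; exact @Subtype.property _ (fun g => @Cfsg.Agent.TAB.Eng.look = @g) _) | rfl | trivial
private noncomputable def _root_.Cfsg.Agent.KO8ffefa4.k35 : (by first | exact type_of% @Cfsg.Agent.TAB.Eng.Dat.pwf | exact Unit : Sort _) := by first | (refine @Subtype.val _ (fun g => @Cfsg.Agent.TAB.Eng.Dat.pwf = @g) (@Subtype.mk _ _ (@(fun x0 x1 x2 => @Cfsg.Agent.KO8ffefa4.k34 (@Option.rec.{1, 0} (@List.{0} (ℕ × ℕ)) @(fun x3 => @List.{0} (ℕ × ℕ)) [] @(fun x3 => @x3) (@Cfsg.Agent.KO8ffefa4.k6.{0} _ (@Cfsg.Agent.TAB.Eng.Dat.pwL @x0) @x1)) (@Nat.gcd @x2 (@Option.rec.{1, 0} ℕ @(fun x3 => ℕ) (nat_lit 0) @(fun x3 => @x3) (@Cfsg.Agent.KO8ffefa4.k6.{0} _ (@Cfsg.Agent.TAB.Eng.Dat.ordL @x0) @x1))))) ?_); rewrite [← Cfsg.Agent.KO8ffefa4.e6.{0}, ← Cfsg.Agent.KO8ffefa4.e34];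 (try delta Cfsg.Agent.TAB.Eng.Dat.pwf Cfsg.Agent.TAB.Eng.Dat.pw Cfsg.Agent.TAB.Eng.Dat.ord); (try generalize @Cfsg.Agent.TAB.Eng.look = g0); rfl') | exact @Cfsg.Agent.TAB.Eng.Dat.pwf | exact ()
private theorem _root_.Cfsg.Agent.KO8ffefa4.e35 : (by first | exact @Cfsg.Agent.TAB.Eng.Dat.pwf = @_root_.Cfsg.Agent.KO8ffefa4.k35 | exact True : Prop) := by first | (delta _root_.Cfsg.Agent.KO8ffefa4.k35; exact @Subtype.property _ (fun g => @Cfsg.Agent.TAB.Eng.Dat.pwf = @g) _) | rfl | trivial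
private noncomputable def _root_.Cfsg.Agent.KO8ffefa4.k37 : (by first | exact type_of% @Cfsg.Agent.TAB.B.Pair.fix2B | exact Unit : Sort _) := by first | (refine @Subtype.val _ (fun g => @Cfsg.Agent.TAB.B.Pair.fix2B = @g) (@Subtype.mk _ _ (@(fun x0 x1 x2 x3 => @Bool.rec.{1} @(fun x4 => @Bool) (@Cfsg.Agent.KO8ffefa4.k20.{0} _ (@Cfsg.Agent.TAB.Use.Rows.rel @x1) @(fun x4 => @Bool.rec.{1} @(fun x5 => @Bool) @Bool.false (@Cfsg.Agent.KO8ffefa4.k20.{0} _ @x2 @(fun x5 => @Bool.rec.{1} @(fun x6 => @Bool) @Bool.true @Bool.false (@Decidable.rec.{1} _ @(fun x6 => @Bool) @(fun x6 => @Bool.false) @(fun x6 => @Bool.true) (@Cfsg.Agent.KO8ffefa4.k22 (@Int.rec.{1} @(fun x6 => ℤ) @(fun x6 => @Int.ofNat (@Nat.mod @x6 (nat_lit 8))) @(fun x6 => @Nat.rec.{1} @(fun x7 => ℤ) (@Int.ofNat (@Nat.sub (nat_lit 8) (@Nat.succ (@Nat.mod @x6 (nat_lit 8))))) @(fun x7 x8 => @Int.negSucc @x7) (@Nat.sub (@Nat.succ (@Nat.mod @x6 (nat_lit 8))) (nat_lit 8))) (@Int.add (@Int.mul (@Int.ofNat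 (nat_lit 2)) (@Option.rec.{1, 0} ℤ @(fun x6 => ℤ) (@Int.ofNat (nat_lit 0)) @(fun x6 => @x6) (@List.get?Internal.{0} _ (@Prod.snd.{0, 0} _ _ @x4) (@Cfsg.Agent.KO8ffefa4.k35 @x0 @x5 (nat_lit 2))))) (@Int.rec.{1} @(fun x6 => ℤ) @(fun x6 => @Nat.rec.{1} @(fun x7 => ℤ) (@Int.ofNat (nat_lit 0)) @(fun x7 x8 => @Int.negSucc @x7) @x6) @(fun x6 => @Int.ofNat (@Nat.succ @x6)) (@Int.pow (@Option.rec.{1, 0} ℤ @(fun x6 => ℤ) (@Int.ofNat (nat_lit 0)) @(fun x6 => @x6) (@List.get?Internal.{0} _ (@Prod.snd.{0, 0} _ _ @x4) @x5)) (nat_lit 2))))) (@Int.ofNat (nat_lit 0)))))) (@Cfsg.Agent.KO8ffefa4.k20.{0} _ (@Prod.fst.{0, 0} _ _ @x4) @(fun x5 => @Bool.rec.{1} @(fun x6 => @Bool) @Bool.false (@Bool.rec.{1} @(fun x6 => @Bool) (@Cfsg.Agent.KO8ffefa4.k24.{0} _ (@BEq.mk.{0} _ @(fun x6 x7 => @Prod.rec.{1, 0, 0} ℕ ℤ @(fun x8 => @Bool) @(fun x8 x9 => @Prod.rec.{1, 0, 0} ℕ ℤ @(fun x10 => @Bool) @(fun x10 x11 => @Bool.rec.{1} @(fun x12 => @Bool) @Bool.false (@Decidable.rec.{1}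 _ @(fun x12 => @Bool) @(fun x12 => @Bool.false) @(fun x12 => @Bool.true) (@Cfsg.Agent.KO8ffefa4.k22 @x9 @x11)) (@Cfsg.Agent.KO8ffefa4.k18.{1} @Bool @x8 @x10 @Bool.false @Bool.true)) @x7) @x6)) (@Prod.fst.{0, 0} _ _ @x4) (((@Prod.fst.{0, 0} _ _ @x5, @Int.ofNat (nat_lit 1))) :: (((@x3, @Int.ofNat (nat_lit 1))) :: []))) @Bool.true (@Cfsg.Agent.KO8ffefa4.k24.{0} _ (@BEq.mk.{0} _ @(fun x6 x7 => @Prod.rec.{1, 0, 0} ℕ ℤ @(fun x8 => @Bool) @(fun x8 x9 => @Prod.rec.{1, 0, 0} ℕ ℤ @(fun x10 => @Bool) @(fun x10 x11 => @Bool.rec.{1} @(fun x12 => @Bool) @Bool.false (@Decidable.rec.{1} _ @(fun x12 => @Bool) @(fun x12 => @Bool.false) @(fun x12 => @Bool.true) (@Cfsg.Agent.KO8ffefa4.k22 @x9 @x11)) (@Cfsg.Agent.KO8ffefa4.k18.{1} @Bool @x8 @x10 @Bool.false @Bool.true)) @x7) @x6)) (@Prod.fst.{0, 0} _ _ @x4) (((@x3, @Int.ofNat (nat_lit 1))) :: (((@Prod.fst.{0, 0} _ _ @x5, @Int.ofNat (nat_lit 1))) :: [])))) (@Bool.rec.{1} @(fun x6 => @Bool) @Bool.false (@Bool.rec.{1}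 @(fun x6 => @Bool) @Bool.true @Bool.false (@Cfsg.Agent.KO8ffefa4.k18.{1} @Bool (@Prod.fst.{0, 0} _ _ @x5) @x3 @Bool.false @Bool.true)) (@Cfsg.Agent.KO8ffefa4.k2.{1} @Bool (@Nat.succ (@Prod.fst.{0, 0} _ _ @x5)) (@Cfsg.Agent.KO8ffefa4.k3.{0} _ (@Cfsg.Agent.TAB.Use.Rows.deg @x1)) @Bool.false @Bool.true)))))) @Bool.true (@Cfsg.Agent.KO8ffefa4.k20.{0} _ (@Cfsg.Agent.TAB.Use.Rows.rel @x1) @(fun x4 => @Cfsg.Agent.KO8ffefa4.k24.{0} _ (@BEq.mk.{0} _ @(fun x5 x6 => @Prod.rec.{1, 0, 0} ℕ ℤ @(fun x7 => @Bool) @(fun x7 x8 => @Prod.rec.{1, 0, 0} ℕ ℤ @(fun x9 => @Bool) @(fun x9 x10 => @Bool.rec.{1} @(fun x11 => @Bool) @Bool.false (@Decidable.rec.{1} _ @(fun x11 => @Bool) @(fun x11 => @Bool.false) @(fun x11 => @Bool.true) (@Cfsg.Agent.KO8ffefa4.k22 @x8 @x10)) (@Cfsg.Agent.KO8ffefa4.k18.{1} @Bool @x7 @x9 @Bool.false @Bool.true)) @x6) @x5)) (@Prod.fst.{0, 0} _ _ @x4) (((@x3, @Int.ofNat (nat_lit 1))) :: []))))) ?_); rewrite [← Cfsg.Agent.KO8ffefa4.e3.{0}, ←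 Cfsg.Agent.KO8ffefa4.e2.{1}, ← Cfsg.Agent.KO8ffefa4.e18.{1}, ← Cfsg.Agent.KO8ffefa4.e24.{0}, ← Cfsg.Agent.KO8ffefa4.e35, ← Cfsg.Agent.KO8ffefa4.e22, ← Cfsg.Agent.KO8ffefa4.e20.{0}]; (try delta Cfsg.Agent.TAB.B.Pair.fix2B Cfsg.Agent.TAB.Use.Rows.n); (try generalize @Cfsg.Agent.TAB.Eng.Dat.pwf = g0); rfl') | exact @Cfsg.Agent.TAB.B.Pair.fix2B | exact ()
private theorem _root_.Cfsg.Agent.KO8ffefa4.e37 : (by first | exact @Cfsg.Agent.TAB.B.Pair.fix2B = @_root_.Cfsg.Agent.KO8ffefa4.k37 | exact True : Prop) := by first | (delta _root_.Cfsg.Agent.KO8ffefa4.k37; exact @Subtype.property _ (fun g => @Cfsg.Agent.TAB.B.Pair.fix2B = @g) _) | rfl | trivial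

theorem odd_chk : ((List.range tabB.n).all fun j =>
    tabB.d j % 2 == 0 || fix2B datF tabB [109, 144, 162, 139] j) = true := by (first | (delta Cfsg.Agent.TAB.B.Fin.tabB; rewrite [Cfsg.Agent.KO8ffefa4.e19.{0}, Cfsg.Agent.KO8ffefa4.e28, Cfsg.Agent.KO8ffefa4.e29, Cfsg.Agent.KO8ffefa4.e14, Cfsg.Agent.KO8ffefa4.e17, Cfsg.Agent.KO8ffefa4.e30, Cfsg.Agent.KO8ffefa4.e31, Cfsg.Agent.KO8ffefa4.e32, Cfsg.Agent.KO8ffefa4.e37]; decide +kernel) | decide +kernel)

variable {G : Type u} [Group G] [Finite G] {T : TD G datF}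

private noncomputable def _root_.Cfsg.Agent.KO8ffefa4.k38 : type_of% @Decidable.decide := @(fun x0 x1 => @Decidable.rec.{1} _ @(fun x2 => @Bool) @(fun x2 => @Bool.false) @(fun x2 => @Bool.true) @x1)
private theorem _root_.Cfsg.Agent.KO8ffefa4.e38 : @Decidable.decide = @_root_.Cfsg.Agent.KO8ffefa4.k38 := by delta _root_.Cfsg.Agent.KO8ffefa4.k38; rfl'
private noncomputable def _root_.Cfsg.Agent.KO8ffefa4.k39l (n : Nat) (P : ∀ k, k < n → Prop) (H : ∀ k h, Decidable (P k h)) (m : Nat) : m ≤ n → Bool := @Nat.rec (fun m => m ≤ n → Bool) (fun _ => true) (fun k ih h => @Decidable.rec (P k h) (fun _ => Bool) (fun _ => false) (fun _ => ih (Nat.le_of_succ_le h)) (H k h)) m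
private theorem _root_.Cfsg.Agent.KO8ffefa4.k39ls (n : Nat) (P : ∀ k, k < n → Prop) (H : ∀ k h, Decidable (P k h)) (m : Nat) : ∀ h : m ≤ n, _root_.Cfsg.Agent.KO8ffefa4.k39l n P H m h = true ↔ ∀ k (g : k < m), P k (Nat.lt_of_lt_of_le g h) := by induction m with | zero => exact fun _ => ⟨fun _ _ g => absurd g (Nat.not_lt_zero _), fun _ => rfl⟩ | succ m ih => intro h; show @Decidable.rec (P m h) (fun _ => Bool) (fun _ => false) (fun _ => _root_.Cfsg.Agent.KO8ffefa4.k39l n P H m (Nat.le_of_succ_le h)) (H m h) = true ↔ _; cases H m h with | isFalse q => exact ⟨fun g => absurd g Bool.false_ne_true, fun g => absurd (g m (Nat.lt_succ_self m)) q⟩ | isTrue q => exact ⟨fun g k hk => (Nat.lt_succ_iff_lt_or_eq.1 hk).elim ((ih _).1 g k) fun e => by subst e; exact q, fun g => (ih _).2 fun k hk => g k (Nat.lt_succ_of_lt hk)⟩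
private noncomputable def _root_.Cfsg.Agent.KO8ffefa4.k39 (n : Nat) (P : ∀ k, k < n → Prop) (H : ∀ k h, Decidable (P k h)) : Decidable (∀ k h, P k h) := @Bool.rec (fun b => _root_.Cfsg.Agent.KO8ffefa4.k39l n P H n (Nat.le_refl n) = b → Decidable (∀ k h, P k h)) (fun g => isFalse fun q => Bool.false_ne_true (g.symm.trans ((_root_.Cfsg.Agent.KO8ffefa4.k39ls n P H n _).2 fun k h => q k h))) (fun g => isTrue fun k h => (_root_.Cfsg.Agent.KO8ffefa4.k39ls n P H n _).1 g k h) (_root_.Cfsg.Agent.KO8ffefa4.k39l n P H n (Nat.le_refl n)) rfl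
private theorem _root_.Cfsg.Agent.KO8ffefa4.e39 : @Nat.decidableBallLT = @_root_.Cfsg.Agent.KO8ffefa4.k39 := funext fun _ => funext fun _ => funext fun _ => Subsingleton.elim _ _
private noncomputable def _root_.Cfsg.Agent.KO8ffefa4.k40 : type_of% @Bool.decEq := @(fun x0 x1 => @Bool.rec.{1} @(fun x2 => @Decidable (@Eq.{1} _ @x2 @x1)) (@Bool.rec.{1} @(fun x2 => @Decidable (@Eq.{1} _ @Bool.false @x2)) (@Decidable.isTrue _ (@rfl.{1} _ _)) (@Decidable.isFalse _ @(fun x2 => @Bool.noConfusion.{0} _ _ _ @x2)) @x1) (@Bool.rec.{1} @(fun x2 => @Decidable (@Eq.{1} _ @Bool.true @x2)) (@Decidable.isFalse _ @(fun x2 => @Bool.noConfusion.{0} _ _ _ @x2)) (@Decidable.isTrue _ (@rfl.{1} _ _)) @x1) @x0)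
private theorem _root_.Cfsg.Agent.KO8ffefa4.e40 : @Bool.decEq = @_root_.Cfsg.Agent.KO8ffefa4.k40 := by delta _root_.Cfsg.Agent.KO8ffefa4.k40; rfl'
private noncomputable def _root_.Cfsg.Agent.KO8ffefa4.k41 : type_of% @Nat.decLe := @(fun x0 x1 => @Decidable.rec.{1} _ @(fun x2 => @Decidable (@LE.le.{0} _ _ @x0 @x1)) @(fun x2 => @Decidable.isFalse _ (@Nat.not_le_of_not_ble_eq_true _ _ @x2)) @(fun x2 => @Decidable.isTrue _ (@Nat.le_of_ble_eq_true _ _ @x2)) (@Cfsg.Agent.KO8ffefa4.k40 (@Nat.ble @x0 @x1) @Bool.true))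
private theorem _root_.Cfsg.Agent.KO8ffefa4.e41 : @Nat.decLe = @_root_.Cfsg.Agent.KO8ffefa4.k41 := by delta _root_.Cfsg.Agent.KO8ffefa4.k41; rewrite [← Cfsg.Agent.KO8ffefa4.e40]; rfl'
private noncomputable def _root_.Cfsg.Agent.KO8ffefa4.k42 : type_of% @Nat.decLt := @(fun x0 x1 => @Cfsg.Agent.KO8ffefa4.k41 (@Nat.succ @x0) @x1)
private theorem _root_.Cfsg.Agent.KO8ffefa4.e42 : @Nat.decLt = @_root_.Cfsg.Agent.KO8ffefa4.k42 := by delta _root_.Cfsg.Agent.KO8ffefa4.k42; rewrite [← Cfsg.Agent.KO8ffefa4.e41]; rfl'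
private noncomputable def _root_.Cfsg.Agent.KO8ffefa4.k43 : (by first | exact type_of% @Cfsg.Agent.TAB.Eng.Dat.cnt | exact Unit : Sort _) := by first | (refine @Subtype.val _ (fun g => @Cfsg.Agent.TAB.Eng.Dat.cnt = @g) (@Subtype.mk _ _ (@(fun x0 x1 => @Option.rec.{1, 0} ℕ @(fun x2 => ℕ) (nat_lit 0) @(fun x2 => @x2) (@Cfsg.Agent.KO8ffefa4.k6.{0} _ (@Cfsg.Agent.TAB.Eng.Dat.cntL @x0) @x1))) ?_); rewrite [← Cfsg.Agent.KO8ffefa4.e6.{0}]; rfl') | exact @Cfsg.Agent.TAB.Eng.Dat.cnt | exact ()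
private theorem _root_.Cfsg.Agent.KO8ffefa4.e43 : (by first | exact @Cfsg.Agent.TAB.Eng.Dat.cnt = @_root_.Cfsg.Agent.KO8ffefa4.k43 | exact True : Prop) := by first | (delta _root_.Cfsg.Agent.KO8ffefa4.k43; exact @Subtype.property _ (fun g => @Cfsg.Agent.TAB.Eng.Dat.cnt = @g) _) | rfl | trivial

theorem inh (hm : T.Mass) : Inh T := inh_of_mass hm (by (first | (refine of_decide_eq_true ?_; rewrite [Cfsg.Agent.KO8ffefa4.e38, Cfsg.Agent.KO8ffefa4.e39, Cfsg.Agent.KO8ffefa4.e42, Cfsg.Agent.KO8ffefa4.e43]; decide +kernel) | decide +kernel))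

theorem van_of (hm : T.Mass) (h : Tab T tabB) : VAN.Van3 G :=
  h.van3 (inh hm) hm.1 _ (by norm_num) _ _ _ van_chk

theorem odd_of (hm : T.Mass) (h : Tab T tabB) : OddRat G := fun _ hχ ho _ hτ => by
  refine fix_odd h odd_chk ?_ hχ ho
  simp only [List.forall_mem_cons]
  exact ⟨good2_two (inh hm) (m := 23) (by decide) (by decide) (by decide +kernel) hτ,
    good2_two (inh hm) (m := 17) (by decide) (by decide) (by decide +kernel) hτ,
    good2_two (inh hm) (m := 47) (by decide) (by decide) (by decide +kernel) hτ,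
    good2_two (inh hm) (m := 15) (by decide) (by decide) (by decide +kernel) hτ, List.forall_mem_nil _⟩

theorem sig_of (hm : T.Mass) (h : Tab T tabB) (hs : SigConj T 139) : OddSig G := fun _ hχ ho _ hσ => by
  refine fix_odd h odd_chk ?_ hχ ho
  simp only [List.forall_mem_cons]
  exact ⟨good2_sq (inh hm) (a := 0) (b := 23) (m := 5) (by decide +kernel) (by decide +kernel) hσ,
    good2_sq (inh hm) (a := 1) (b := 17) (m := 23) (by decide +kernel) (by decide +kernel) hσ,
    good2_sq (inh hm) (a := 0) (b := 47) (m := 7) (by decide +kernel) (by decide +kernel) hσ,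
    good2_sig hs hσ, List.forall_mem_nil _⟩

end Cfsg.Agent.TAB.B.Fin
end
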