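import Cfsg.Agent.TAB.B.C3.T12S_m3
import Cfsg.Agent.TAB.B.C3.T6K_m3
import Cfsg.Agent.TAB.B.C3.T24M_m3
import Cfsg.Agent.TAB.B.C3.T12N_m3
import Cfsg.Agent.TAB.B.C3.T18E_m3
import Cfsg.Agent.TAB.B.C3.T18AB
import Cfsg.Agent.TAB.B.C3.T18D_m3
import Cfsg.Agent.TAB.B.C3.T27A_m3
import Cfsg.Agent.TAB.B.Fin.Use
import Cfsg.Agent.TAB.B.Fin.Cols_m3
import Cfsg.Agent.TAB.B.C2.R4_m3
import Cfsg.Agent.TAB.B.DG.K0_m3
import Cfsg.Agent.TAB.B.D.WA_m3
import Cfsg.Agent.TAB.B.DG.Main_m3
import Cfsg.Agent.TAB.B.A3.Left_m3
import Cfsg.Agent.TAB.B.A3.Six_m3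
import Cfsg.Agent.TAB.Eng.Map
import Cfsg.Agent.BM.KHAll
import Cfsg.Agent.TAB.C3B.Box_m3
import Cfsg.Agent.OrdDiv.Table
import Cfsg.Agent.S0000
import Cfsg.Agent.Prune
set_option linter.all false

section
prune_inst 0x7f00000000000000000000000000000000000000000000000000000000000000000000000000000000000000000000000000000000000000000000000000000000000000000000000000000000000000003fffffffffffffffffffffffffffbeffbdffffffff

-- part: TAB/B/C3/T6D
section
set_option linter.all false

/-!
# The type 6D of the Baby Monster (helper84, TAB; generated)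
-/

set_option autoImplicit false
set_option maxRecDepth 100000
set_option Elab.async false

namespace Cfsg.Agent.TAB.B.C3.T6D

open Subgroup Cfsg.Agent.BabyM.Conc Cfsg.Agent.BabyM.TransInv Cfsg.Agent.H819.U33 Cfsg.Agent.BMx.Fast
  Cfsg.Agent.TAB.B.Tr Cfsg.Agent.H123.Cls Cfsg.Agent.TAB.Eng
open Cfsg.Agent.H863.U33 (wy1)

/-- word -/
def wm : List Ltr := [.Z10, .Z4, .Z3, .Z0, .X9, .X8, .X6, .X3, .X2, .X1, .y10, .y6, .y5, .y4, .y2, .p5, .hi, .p7, .hi, .p8, .hi, .p7, .hi, .p5, .hi, .taui, .X0]

/-- plane -/
def pm_0 : ℕ := 0xffffffffffffffffffffffffffffffffffffffffffffffffffffffffffffffffffffffffffffffffffffffffffffffffffffffffffffffffffffffffffffffffffffffffffffffffffffffffffffffffffffffffffffffffffffffffffffffffffffffffffffffffffffffffffffffffffffffffffffffffffffffffffffffff000000000000000000000000000000000000000000000000000000000000000000000000000000000000000000000000000000000000000000000000000000000000000000000000000000000000000000000000000000000000000000000000000000000000000000000000000000000000000000000000000000000000000000000000000000000000000000000000000000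00000000000000000000000000000000000000000000000000000000000000000000000000000000000000000000000000000000000000000000000000000000000000000000000000000000000000000000000000000000000000000000000000000000000000000000000000000000000000000000000000000000000000000000000000000000000000000000000000000000000000000000000000000000000000000000000000000000000000000000000000000000000000000000000000007252c0007252ca007252c0000000000000ffff0000ffffffffffff0000ffffffffffff00000000ffffffff000000000000ffff00000000ffffffffffffffffffffffff00000000000000000000ffff0000ffff0000ffff0000ffffffffffff0000ffff0000aaaa0000ffffffffaaaaffff00000000000000000000ffffffff000000000000000000000000ffff000000000000aaaa0000ffff000000000000000000000000000000000000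

/-- plane -/
def pm_1 : ℕ := 0xffffffffffffffffffffffffffffffffffffffffffffffffffffffffffffffffffffffffffffffffffffffffffffffffffffffffffffffffffffffffffffffffffffffffffffffffffffffffffffffffffffffffffffffffffffffffffffffffffffffffffffffffffffffffffffffffffffffffffffffffffffffffffffffff0000000000000000000000000000000000000000000000000000000000000000000000000000000000000000000000000000000000000000000000000000000000000000000000000000000000000000000000000000000000000000000000000000000000000000000000000000000000000000000000000000000000000000000000000000000000000000000000000000000000000000000000000000000000000000000000000000000000000000000000000000000000000000000000000000000000000000000000000000000000000000000000000000000000000000000000000000000000000000000000000000000000000000000000000000000000000000000000000000000000000000000000000000000000000000000000000000000000000000000000000000000000000000000000000000000000000000000000000000000000000000000000000000000000000000000000000000000000000000000000000000000000000000000000000000000000000000000000000000000000000000000000000000000000000000000000000000000000000000000000000000000000000000000000000000000000000000000000000000000000000000000000000000000000000000000000000004040a00040400000404000000000000000000ffff000000000000ffff000000000000ffffffff000000000000ffffffff0000ffffffff000000000000000000000000ffff0000ffff0000ffff0000ffff0000000000000000000000000000000000000000cccc000000000000cccc00000000000000000000000000000000000000000000ffffffff00000000000000000000cccc00000000000000000000000000000000000000000000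

/-- plane -/
def pm_2 : ℕ := 0xf0f0000000000000f0f0000000000000000000000000000000000000000000000000000000000000000000000000f0f000000000000000000000000000000000000000000000

/-- plane -/
def pm_3 : ℕ := 0xff00000000000000ff00000000000000000000000000000000000000000000000000000000000000000000000000ff0000000000000000000000000000000000000000000000

theorem cm_0 : trF wm 4 [pm_0, pm_1, pm_2, pm_3] U (-28) = true := by decide +kernel

theorem ch_m : chB (g wm) = ((-7 : ℤ) : ℚ) := chB_of (dg_of_trF cm_0) (by decide) (by decide)

/-- word -/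
def wv3 : List Ltr := [.z, .Z10, .Z7, .Z4, .Z2, .Z1, .Z0, .X9, .X6, .X4, .X3, .y8, .y4, .y3, .y1, .p5, .hi, .p5, .hi, .p3, .hi, .p5, .hi, .p9, .hi]

/-- plane -/
def pv3_0 : ℕ := 0xfffffffffffffffff6f6f6f6f9f9f9f9ffffffffffffffff9999999966666666ffffffffffffffff6060606090909090ffffffffffffffff0000000000000000f6f6f6f6f9f9f9f90000000000000000999999996666666600000000000000006060606090909090000000000000000000000000000000000000000000000000ffffffffffffffff6f6f6f6f9f9f9f9fffffffffffffffff9999999966666666ffffffffffffffff0606060609090909ffffffffffffffff00000000000000006f6f6f6f9f9f9f9f00000000000000009999999966666666000000000000000006060606090909090000000000000000000000000000000000000000000000000000000000000000000000000000000000000000000000000000000000000000000000000000000000000000000000000000000000000000000000000000000000000000000000000000000000000000000000000000000000000000000000000000000000000000000000000000000000000000000000000000000000000000f9f9f9f9f6f6f6f6ffffffffffffffff6666666699999999ffffffffffffffff9090909060606060ffffffffffffffff0000000000000000ffffffffffffffff0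000000000000000f9f9f9f9f6f6f6f6000000000000000066666666999999990000000000000000909090906060606000000000000000000000000000000000000000000000000000000000000000000000000000000000000000000000000000000000000000000000000000000000000000000000000000000000000000000000000000000000000000000000000000000000007330000073b8c000620000000000000000ffffea04ffffffffffffe608fffffffffffff000f000ae04ffffffffffffffffffffffffffffffffffff0000ffffd850ffff000000000000ffffffff6090ffffffffea80ffffffff30c00000000000000000fffff000ae400000fffff000ffffffff000000000000000000000000000000000000a5003c0000006900000000f00000ea200000f000000000000000609000000000f000c0300000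

theorem cv3_0 : trF wv3 1 [pv3_0] U (-493) = true := by decide +kernel

theorem ch_v3 : chB (g wv3) = ((-493 : ℤ) : ℚ) := chB_of (dg_of_trF cv3_0) (by decide) (by decide)

/-- word -/
def c3 : List Ltr := []

theorem l3 : eqF (cj c3 wv3) (pw wm 3) = true := by decide +kernel

/-- word -/
def wc : List Ltr := [.Z8, .Z7, .Z6, .Z5, .Z4, .X10, .X6, .X2, .X1, .y10, .y8, .y5, .y3, .y2, .p7, .hi, .p4, .hi, .p6,
  .hi, .p9, .hi, .p10, .hi, .p5, .xii, .hi, .p8, .xii, .y4, .y9, .taui, .xii, .y6, .p3, .hi, .xii, .p10, .y1, .tau,
  .xii, .hi, .p8, .xii, .y2, .X0, .p10, .xii, .y4, .p8, .xii, .y8, .tau, .xii, .p4, .xii, .y1, .y10, .p2, .hi, .p7,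
  .tau, .xii, .p2]

/-- word -/
def ws : List Ltr := [.Z9, .Z7, .Z4, .X9, .X8, .X3, .y10, .y8, .y3, .y2, .y1, .p10, .hi, .p10, .hi, .p3, .hi, .p9,
  .hi, .p, .xii, .y2, .hi, .p4, .hi, .p4, .taui, .X0, .y1, .p6, .xii, .p, .xii, .xii, .p, .xii, .y5, .tau, .xii, .p5,
  .xii, .p10, .y7, .hi, .p9, .tau]

theorem ord : ordF wm 6 = true := by decide +kernel

theorem h1 : eqF (cj wc wm) (flat [11, 15, 15, 15] ++ pw wy1 1) = true := by decide +kernel

theorem h2 : or (eqF (cj wc (pw wm 2)) wy1) (eqF (cj wc (pw wm 2)) (winv wy1)) = true := by decide +kernel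

/-- the columns -/
def cs : List ℕ := [270336, 532480, 65, 66, 16777216, 1073741824, 68719476736, 4398046511104, 281474976710656]

theorem hc : evC [11, 15, 15, 15] = cs := by decide +kernel

theorem hb : chkB 6561 13 row 13 (tab cs) [(false, 1)] [.cell [(false, 0)], .base 0 1 2, .cell [(true, 3), (true, 1)],
  .cnt 0 [25, 28, 32, 37, 39, 40], .cell [(true, 8), (true, 2)], .base 0 84 2, .cell [(true, 6), (true, 1), (true, 0),
  (true, 11)], .base 0 82 2, .cell [(true, 14), (true, 3), (true, 0), (true, 13), (false, 16), (true, 1)], .base 0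
  3830 2, .cell [(true, 15), (true, 4), (true, 9), (true, 7)], .cnt 0 [0], .cell [(true, 19), (true, 18), (true, 6),
  (true, 9), (true, 2), (false, 5), (false, 3)], .cnt 0 [0], .cell [(true, 21), (true, 20), (true, 8), (true, 11),
  (true, 5), (false, 7), (false, 4)], .cnt 0 [0], .cell [(true, 23), (true, 22), (true, 10), (true, 7), (false, 6),
  (false, 13), (false, 12)], .cnt 0 [0], .cell [(true, 25), (true, 14), (true, 11), (true, 8), (false, 6), (false, 9),
  (true, 24)], .cnt 0 [0], .cell [(true, 27), (true, 26), (true, 17), (false, 2), (true, 11), (false, 0), (false, 14),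
  (false, 10)], .cnt 0 [0], .cell [(true, 27), (true, 16), (false, 0), (false, 10)], .cnt 0 [0], .cell [(true, 28),
  (true, 17), (false, 10), (false, 20)], .cnt 0 [0], .cell [(true, 33), (true, 19), (false, 4), (true, 23), (true,
  32), (false, 35)], .cnt 0 [0], .cell [(true, 35), (true, 21), (false, 6), (true, 18), (true, 34), (false, 24)], .cnt
  0 [0], .cell [(true, 37), (true, 23), (false, 8), (true, 21), (true, 36), (false, 26)], .cnt 0 [0], .cell [(true,
  39), (true, 38), (true, 26), (false, 10), (true, 22), (false, 18)], .cnt 0 [0], .cell [(true, 38), (true, 30),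
  (true, 27), (false, 20)], .cnt 0 [0], .cell [(true, 43), (true, 32), (false, 8), (true, 27), (true, 29), (true,
  42)], .cnt 0 [0], .cell [(true, 45), (true, 34), (false, 10), (true, 32), (false, 18), (false, 47)], .cnt 0 [0],
  .cell [(true, 45), (false, 14), (true, 37), (false, 28)], .cnt 0 [0], .cell [(true, 42), (false, 30), (true, 39),
  (true, 38), (true, 49)], .cnt 0 [0], .cell [(true, 51), (true, 50), (false, 0), (false, 20), (true, 34), (false,
  53), (false, 41)], .cnt 0 [0], .cell [(true, 53), (true, 52), (false, 2), (false, 22), (true, 37), (false, 55),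
  (false, 43)], .cnt 0 [0], .cell [(true, 55), (true, 44), (false, 20), (false, 4), (false, 10), (false, 57)], .cnt 0
  [0], .cell [(true, 57), (true, 46), (false, 22), (false, 12), (false, 44), (false, 43), (false, 54), (false, 59),
  (false, 40), (false, 1)], .cnt 0 [0], .cell [(true, 50), (true, 45), (true, 46), (false, 22)], .cnt 0 [0], .cell
  [(true, 59), (false, 28), (false, 0), (false, 42)], .cnt 0 [0], .cell [(true, 60), (false, 2), (false, 42), (false,
  53), (false, 52), (false, 47)], .cnt 0 [0], .cell [(true, 56), (true, 51), (true, 52), (false, 44), (true, 55),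
  (false, 49), (true, 28), (true, 26), (true, 6)], .cnt 0 [0], .cell [(true, 58), (true, 53), (true, 54), (true, 51),
  (false, 46)], .cnt 0 [0], .cell [(true, 68), (true, 59), (true, 56), (false, 44), (true, 58), (false, 71)], .cnt 0
  [0], .cell [(true, 62), (true, 57), (true, 58), (true, 55), (true, 50)], .cnt 0 [0], .cell [(true, 63), (false, 48),
  (true, 62), (false, 44), (false, 24), (false, 75)], .cnt 0 [0], .cell [(true, 77), (true, 65), (false, 6), (false,
  12), (true, 46)], .cnt 0 [0], .cell [(true, 67), (false, 52), (true, 66), (false, 4), (false, 14), (false, 73),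
  (false, 79), (false, 76), (false, 61), (true, 56)], .cnt 0 [0], .cell [(true, 69), (false, 54), (false, 40), (true,
  68), (true, 75)], .cnt 0 [0], .cell [(true, 80), (true, 71), (false, 28), (false, 10), (false, 62), (false, 81)],
  .cnt 0 [0], .cell [(true, 82), (true, 73), (false, 6), (false, 18), (true, 72), (false, 66)], .cnt 0 [0], .cell
  [(true, 76), (true, 71), (true, 72), (false, 30)], .cnt 0 [0], .cell [(true, 86), (true, 77), (false, 10), (false,
  58), (false, 0), (true, 70)], .cnt 0 [0], .cell [(true, 80), (true, 73), (false, 68), (false, 10), (true, 79),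
  (false, 78)], .cnt 0 [0], .cell [(true, 82), (true, 74), (false, 68), (false, 32), (true, 78)], .cnt 0 [0], .cell
  [(true, 92), (false, 18), (false, 48), (false, 2), (true, 82), (false, 95)], .cnt 0 [0], .cell [(true, 86), (false,
  74), (false, 58), (false, 0), (true, 85)], .cnt 0 [0], .cell [(false, 72), (false, 6), (false, 26), (false, 44),
  (false, 24), (false, 97)], .cnt 0 [0], .cell [(true, 89), (false, 74), (false, 4), (false, 8), (false, 20)], .cnt 0
  [0], .cell [(true, 103), (false, 76), (false, 8), (false, 20)], .cnt 0 [0], .cell [(true, 101), (false, 4), (false,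
  60), (true, 87), (true, 78)], .cnt 0 [0], .cell [(true, 95), (true, 89), (false, 2), (false, 0), (false, 76)], .cnt
  0 [0], .cell [(true, 97), (false, 82), (true, 90), (false, 86), (false, 8), (true, 2)], .cnt 0 [0], .cell [(true,
  92), (false, 84), (false, 42), (false, 6), (false, 4)], .cnt 0 [0], .cell [(true, 102), (false, 90), (false, 74),
  (true, 101), (false, 95), (false, 94), (false, 100), (true, 2), (true, 16)], .cnt 0 [0], .cell [(true, 112), (false,
  4), (false, 0), (false, 68), (true, 102), (false, 115)], .cnt 0 [0], .cell [(true, 106), (false, 6), (false, 40),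
  (true, 98), (false, 68), (false, 2)], .cnt 0 [0], .cell [(true, 115), (false, 74), (true, 107), (false, 101), (true,
  92), (true, 8), (true, 42), (true, 10), (true, 18), (true, 0)], .cnt 0 [0], .cell [(true, 110), (true, 105), (false,
  18), (false, 96), (false, 108), (true, 102)], .cnt 0 [0], .cell [(true, 112), (false, 14), (false, 36), (false,
  100), (false, 104)], .cnt 0 [0], .cell [(true, 114), (true, 109), (false, 102), (false, 64), (true, 40), (false,
  107)], .cnt 0 [0], .cell [(true, 124), (true, 112), (false, 4), (false, 10), (false, 100), (true, 109)], .cnt 0 [0],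
  .cell [(true, 114), (false, 70), (false, 22), (false, 44), (false, 4), (false, 129)], .cnt 0 [0], .cell [(false,
  108), (false, 2), (false, 40), (false, 0), (false, 94), (true, 58), (false, 112)], .cnt 0 [0], .cell [(true, 133),
  (true, 121), (false, 4), (false, 6), (true, 78)], .cnt 0 [0], .cell [(true, 135), (true, 123), (false, 44), (false,
  6), (true, 117)], .cnt 0 [0], .cell [(true, 130), (false, 106), (false, 30), (false, 28)], .cnt 0 [0], .cell [(true,
  127), (false, 112), (false, 32), (false, 42), (false, 98), (false, 139)], .cnt 0 [0], .cell [(true, 129), (false,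
  100), (false, 36), (false, 70), (false, 8), (false, 122)], .cnt 0 [0], .cell [(true, 140), (true, 131), (false, 20),
  (false, 26), (false, 8), (true, 128)], .cnt 0 [0], .cell [(true, 130), (false, 108), (false, 10), (false, 118),
  (false, 72), (false, 142)], .cnt 0 [0], .cell [(true, 135), (false, 104), (false, 18), (false, 88), (false, 4),
  (false, 134)], .cnt 0 [0], .cell [(true, 149), (false, 126), (false, 8), (false, 10), (false, 44)], .cnt 0 [0], .fin
  [149, 138, 4, 132, 126, 42, 22, 135, 8, 120, 64, 66, 40, 110, 60, 10, 50, 16, 38, 0, 94, 30, 18, 133, 24, 48, 102,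
  28, 2, 52, 26, 36, 44, 68, 6, 104, 14, 54, 20]] 26873855 = true := Qk.chkB_of (by decide +kernel)

theorem hs : evC ([11, 16, 17, 15, 16, 16] ++ [11, 15, 15, 15]) = evC ([11, 15, 15, 15] ++ [11, 16, 17, 15, 16, 16])
  := by decide +kernel

theorem h3 : eqF (flat [11, 16, 17, 15, 16, 16]) ws = true := by decide +kernel

theorem h4 : neF (ws ++ cj wc wm) (cj wc wm ++ ws) = true := by decide +kernel

theorem cent : Nat.card (centralizer ({g wm} : Set G)) ≤ 40310784 :=
  cent2 h1 h2 hc (by decide +kernel) hb hs h3 h4 (by norm_num)

theorem ty : TyB 22 (g wm) := (tyB_iff sg_6D _).2 ⟨orderOf_of_ordF ord,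
  List.forall_mem_cons.2 ⟨tr_one ch_m,
  List.forall_mem_cons.2 ⟨tr_yy h2,
  List.forall_mem_cons.2 ⟨tr_pw l3 ch_v3,
  List.forall_mem_nil _⟩⟩⟩⟩

end Cfsg.Agent.TAB.B.C3.T6D

namespace Cfsg.Agent.TAB.B.C3

theorem boxC_6D : BoxCB 22 := boxC_of T6D.ty T6D.cent cnt_6D (by norm_num)

end Cfsg.Agent.TAB.B.C3
end

-- part: TAB/B/C3/T6I
section
set_option linter.all false

/-!
# The type 6I of the Baby Monster (helper84, TAB; generated)
-/

set_option autoImplicit false
set_option maxRecDepth 100000
set_option Elab.async false

namespace Cfsg.Agent.TAB.B.C3.T6I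

open Subgroup Cfsg.Agent.BabyM.Conc Cfsg.Agent.BabyM.TransInv Cfsg.Agent.H819.U33 Cfsg.Agent.BMx.Fast
  Cfsg.Agent.TAB.B.Tr Cfsg.Agent.H123.Cls Cfsg.Agent.TAB.Eng
open Cfsg.Agent.H863.U33 (wy1)

/-- word -/
def wm : List Ltr := [.p5, .hi, .p5, .hi, .p5, .hi, .p5, .hi, .p7, .tau, .p4]

/-- plane -/
def pm_0 : ℕ := 0xffffffffffffffffffffffffffffffffffffffffffffffffffffffffffffffffffffffffffffffffffffffffffffffffffffffffffffffffffffffffffffffffffffffffffffffffffffffffffffffffffffffffffffffffffffffffffffffffffffffffffffffffffffffffffffffffffffffffffffffffffffffffffffffff000000000000000000000000000000000000000000000000000000000000000000000000000000000000000000000000000000000000000000000000000000000000000000000000000000000000000000000000000000000000000000000000000000000000000000000000000000000000000000000000000000000000000000000000000000000000000000000000000000000000000000000000000000000000000000000000000000000000000000000000000000000000000000000000000000000000000000000000000000000000000000000000000000000000000000000000000000000000000000000000000000000000000000000000000000000000000000000000000000000000000000000000000000000000000000000000000000000000000000000000000000000000000000000000000000000000000000000000000000000000000000000000000000000008692000587b200008692000000000000000000000ffff00000000ffff0000aaaaaaaa0000ffffffff0000000000000000ffff0000ffff0000aaaaaaaa000000000000000000000000ffffffffffff000000000000000000000000ffffffffffff00000000000000000000ffffffff00000000000000000000ffffffffffffffffffffffff00000000000000000000000000000000ffffffff0000aaaaffff00000000ffff000000000000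

/-- plane -/
def pm_1 : ℕ := 0xffffffffffffffffffffffffffffffffffffffffffffffffffffffffffffffffffffffffffffffffffffffffffffffffffffffffffffffffffffffffffffffffffffffffffffffffffffffffffffffffffffffffffffffffffffffffffffffffffffffffffffffffffffffffffffffffffffffffffffffffffffffffffffffff000000000000000000000000000000000000000000000000000000000000000000000000000000000000000000000000000000000000000000000000000000000000000000000000000000000000000000000000000000000000000000000000000000000000000000000000000000000000000000000000000000000000000000000000000000000000000000000000000000000000000000000000000000000000000000000000000000000000000000000000000000000000000000000000000000000000000000000000000000000000000000000000000000000000000000000000000000000000000000000000000000000000000000000000000000000000000000000000000000000000000000000000000000000000000000000000000000000000000000000000000000000000000000000000000000000000000000000000000000000000000000000000000000000000000000000000000000000000000000000000000000000000000000000000000000000000000000000000000000000000000000000000000000000000000000000000000000000000000000000000000000000000000000000000000000000000000000000000000000000000000000000000000000000000000000000000007396800023848000238480000000000000ffffffff0000ffffffff00000000cccccccc00000000000000000000ffffffff0000000000000000ccccccccffffffffffffffffffffffff000000000000ffffffffffffffffffffffff000000000000000000000000ffffffff0000000000000000000000000000000000000000000000000000000000000000000000000000ffffffff00000000ffffcccc0000ffff00000000000000000000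

/-- plane -/
def pm_2 : ℕ := 0xf0f0f0f000000000000000000000000000000000000000000000f0f0f0f000000000000000000000000000000000000000000000000000000000000000000000000000000000000000000000000000000000000000000000000000000000000000000000000000000000000000000000000000000000000000000000f0f00000000000000000000000000000

/-- plane -/
def pm_3 : ℕ := 0xff00ff0000000000000000000000000000000000000000000000ff00ff0000000000000000000000000000000000000000000000000000000000000000000000000000000000000000000000000000000000000000000000000000000000000000000000000000000000000000000000000000000000000000000000ff000000000000000000000000000000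

theorem cm_0 : trF wm 4 [pm_0, pm_1, pm_2, pm_3] U (52) = true := by decide +kernel

theorem ch_m : chB (g wm) = ((13 : ℤ) : ℚ) := chB_of (dg_of_trF cm_0) (by decide) (by decide)

/-- word -/
def wv3 : List Ltr := [.Z9, .Z8, .Z6, .Z5]

theorem cv3_0 : trF wv3 1 [] U (19) = true := by decide +kernel

theorem ch_v3 : chB (g wv3) = ((19 : ℤ) : ℚ) := chB_of (dg_of_trF cv3_0) (by decide) (by decide)

/-- word -/
def c3 : List Ltr := []

theorem l3 : eqF (cj c3 wv3) (pw wm 3) = true := by decide +kernel

/-- word -/
def wc : List Ltr := [.z, .Z8, .Z7, .Z5, .Z4, .Z3, .Z2, .Z1, .X5, .X3, .X0, .y10, .y8, .y4, .y3, .y1, .p10, .hi, .p2,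
  .hi, .p5, .hi, .p, .hi, .p3, .hi, .p2, .xii, .p10, .hi, .p8, .tau, .y1, .xii, .p10, .xii, .y4, .p10, .hi, .p8, .tau,
  .y1, .xii, .y1, .hi, .p10, .hi, .p2, .xii, .p4, .hi, .p2, .tau]

/-- word -/
def ws : List Ltr := [.z, .Z8, .Z7, .Z2, .Z1, .Z0, .X9, .X6, .X4, .X3, .X2, .y9, .y7, .y6, .y2, .y1, .p2, .hi, .p6,
  .hi, .p8, .hi, .p, .hi, .p6, .hi, .xii, .p2, .hi, .xii, .y1, .y5, .xii, .p5, .y4, .hi, .p10]

theorem ord : ordF wm 6 = true := by decide +kernel

theorem h1 : eqF (cj wc wm) (flat [8] ++ pw wy1 2) = true := by decide +kernel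

theorem h2 : or (eqF (cj wc (pw wm 2)) wy1) (eqF (cj wc (pw wm 2)) (winv wy1)) = true := by decide +kernel

/-- the columns -/
def cs : List ℕ := [2, 128, 8192, 524288, 33554432, 2147483648, 137438953472, 8796093022208, 281474976710656]

theorem hc : evC [8] = cs := by decide +kernel

theorem hb : chkB 6561 13 row 13 (tab cs) [(false, 1), (true, 1)] [.cell [(false, 0), (false, 1)], .base 0 91 2, .cell
  [(true, 3), (true, 1), (true, 0)], .base 0 11 2, .cell [(true, 2), (false, 1), (false, 0)], .base 0 729 2, .cell
  [(true, 9), (true, 3), (true, 0), (false, 4), (false, 1), (false, 7)], .base 0 1016 2, .cell [(true, 10), (true, 1),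
  (true, 4), (true, 3), (false, 12), (true, 0), (false, 7), (false, 6)], .cnt 0 [0], .cell [(true, 10), (false, 0),
  (true, 9), (false, 6), (false, 5)], .cnt 0 [0], .cell [(true, 16), (true, 14), (true, 11), (false, 0), (true, 10),
  (true, 8), (true, 7)], .cnt 0 [0], .cell [(true, 18), (false, 4), (true, 13), (false, 2), (true, 10), (true, 12),
  (false, 15)], .cnt 0 [0], .cell [(true, 20), (true, 15), (true, 12), (true, 9), (false, 4), (true, 14)], .cnt 0 [0],
  .cell [(true, 22), (true, 17), (true, 14), (true, 10), (false, 6), (true, 16)], .cnt 0 [0], .cell [(true, 24),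
  (true, 22), (false, 2), (true, 16), (true, 18), (false, 6)], .cnt 0 [0], .cell [(true, 26), (true, 24), (true, 15),
  (false, 6), (false, 14), (true, 21), (false, 23)], .cnt 0 [0], .cell [(true, 28), (true, 25), (false, 0), (true,
  20), (true, 22), (true, 12)], .cnt 0 [0], .cell [(true, 30), (true, 27), (false, 16), (false, 8), (true, 24), (true,
  14)], .cnt 0 [0], .cell [(true, 32), (true, 29), (false, 4), (true, 20), (false, 2), (false, 21), (false, 30)], .cnt
  0 [0], .cell [(true, 34), (true, 31), (false, 20), (false, 2), (true, 28), (false, 32)], .cnt 0 [0], .cell [(true,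
  36), (true, 31), (true, 28), (true, 24), (false, 2), (false, 34), (false, 13)], .cnt 0 [0], .cell [(true, 38),
  (true, 35), (false, 10), (true, 27), (false, 20), (false, 26), (false, 36)], .cnt 0 [0], .cell [(true, 40), (true,
  35), (true, 28), (false, 22), (false, 29), (false, 32), (false, 37), (true, 26), (false, 38)], .cnt 0 [0], .cell
  [(true, 42), (true, 40), (false, 0), (true, 30), (false, 2), (false, 31), (false, 39)], .cnt 0 [0], .cell [(true,
  44), (true, 39), (true, 33), (false, 26), (false, 32), (true, 28), (false, 42), (true, 30), (false, 36)], .cnt 0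
  [0], .cell [(true, 46), (true, 41), (true, 38), (true, 35), (false, 24), (true, 40)], .cnt 0 [0], .cell [(true, 48),
  (true, 46), (false, 0), (false, 34), (true, 40), (false, 32)], .cnt 0 [0], .cell [(true, 50), (true, 48), (true,
  38), (false, 0), (true, 44), (false, 39)], .cnt 0 [0], .cell [(true, 52), (true, 50), (false, 10), (false, 38),
  (true, 47), (true, 0)], .cnt 0 [0], .cell [(true, 54), (true, 52), (false, 12), (false, 40), (true, 49), (false,
  1)], .cnt 0 [0], .cell [(true, 56), (true, 54), (false, 24), (false, 42), (false, 40), (false, 53)], .cnt 0 [0],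
  .cell [(true, 58), (true, 56), (false, 24), (false, 0), (false, 44), (false, 52)], .cnt 0 [0], .cell [(true, 60),
  (true, 58), (false, 18), (false, 0), (true, 54), (false, 52)], .cnt 0 [0], .cell [(true, 62), (true, 57), (false,
  2), (true, 51), (false, 16), (true, 50)], .cnt 0 [0], .cell [(true, 64), (true, 62), (false, 18), (false, 6),
  (false, 46), (false, 59)], .cnt 0 [0], .cell [(true, 66), (true, 64), (false, 24), (false, 6), (false, 52), (true,
  55)], .cnt 0 [0], .cell [(true, 68), (true, 66), (true, 57), (false, 18), (true, 63), (false, 56)], .cnt 0 [0],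
  .cell [(true, 68), (true, 58), (false, 42), (false, 10), (true, 65), (false, 50)], .cnt 0 [0], .cell [(true, 70),
  (true, 61), (false, 20), (true, 67), (false, 58), (false, 50)], .cnt 0 [0], .cell [(true, 74), (true, 71), (false,
  0), (false, 36), (true, 69), (false, 72)], .cnt 0 [0], .cell [(true, 76), (true, 71), (true, 65), (false, 58),
  (true, 64), (false, 12), (false, 74), (false, 73), (true, 2), (true, 8)], .cnt 0 [0], .cell [(true, 76), (true, 66),
  (false, 50), (false, 14), (false, 20)], .cnt 0 [0], .cell [(true, 78), (false, 34), (false, 66), (false, 52),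
  (false, 64), (true, 75)], .cnt 0 [0], .cell [(true, 78), (false, 30), (true, 76), (false, 68)], .cnt 0 [0], .cell
  [(true, 84), (true, 82), (false, 48), (false, 16), (false, 70), (false, 81)], .cnt 0 [0], .cell [(true, 86), (true,
  84), (false, 8), (false, 72), (false, 70), (true, 68)], .cnt 0 [0], .cell [(true, 88), (true, 86), (false, 48),
  (false, 22), (false, 74), (false, 85)], .cnt 0 [0], .cell [(true, 88), (false, 48), (false, 76), (false, 46),
  (false, 74), (true, 84)], .cnt 0 [0], .cell [(true, 92), (true, 90), (false, 46), (false, 34), (true, 80)], .cnt 0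
  [0], .cell [(true, 94), (true, 91), (false, 36), (true, 83), (false, 44), (false, 82)], .cnt 0 [0], .cell [(true,
  96), (true, 93), (false, 82), (false, 64), (false, 78), (false, 91)], .cnt 0 [0], .cell [(true, 96), (true, 95),
  (true, 87), (false, 78), (false, 24)], .cnt 0 [0], .cell [(true, 100), (true, 92), (false, 48), (true, 88), (false,
  30), (false, 82)], .cnt 0 [0], .cell [(true, 102), (true, 91), (false, 42), (false, 52), (false, 24), (false, 80)],
  .cnt 0 [0], .cell [(true, 104), (true, 102), (false, 4), (false, 10), (false, 0), (true, 99)], .cnt 0 [0], .cell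
  [(true, 106), (true, 104), (false, 8), (true, 95), (false, 62), (false, 94)], .cnt 0 [0], .cell [(true, 108),
  (false, 94), (false, 4), (false, 54), (true, 97), (true, 80), (true, 96)], .cnt 0 [0], .cell [(true, 110), (true,
  108), (false, 0), (false, 10), (true, 105), (false, 104)], .cnt 0 [0], .cell [(true, 110), (true, 100), (false, 84),
  (false, 68), (false, 60), (false, 101)], .cnt 0 [0], .cell [(true, 114), (true, 112), (false, 4), (true, 108),
  (true, 102), (false, 62)], .cnt 0 [0], .cell [(true, 116), (false, 102), (false, 12), (false, 62), (true, 105),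
  (false, 104)], .cnt 0 [0], .cell [(true, 116), (false, 0), (false, 92), (false, 100), (false, 66), (false, 118)],
  .cnt 0 [0], .cell [(true, 120), (true, 117), (false, 2), (true, 115), (false, 24), (false, 108), (false, 118),
  (false, 114), (true, 8), (true, 14), (true, 0)], .cnt 0 [0], .cell [(true, 122), (true, 119), (false, 4), (true,
  111), (true, 117), (false, 26)], .cnt 0 [0], .cell [(true, 124), (false, 44), (true, 113), (false, 108), (false,
  90), (false, 112)], .cnt 0 [0], .cell [(true, 124), (true, 115), (false, 74), (true, 121), (false, 0)], .cnt 0 [0],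
  .cell [(true, 128), (false, 28), (false, 36), (true, 120), (false, 52), (false, 126), (false, 117)], .cnt 0 [0],
  .cell [(true, 130), (false, 2), (false, 52), (true, 122), (false, 18), (true, 119)], .cnt 0 [0], .cell [(true, 132),
  (true, 129), (false, 2), (false, 94), (false, 116), (false, 126)], .cnt 0 [0], .cell [(true, 134), (true, 132),
  (false, 4), (false, 10), (false, 0)], .cnt 0 [0], .cell [(true, 136), (false, 62), (false, 8), (false, 38), (true,
  40), (false, 134), (false, 2)], .cnt 0 [0], .cell [(true, 133), (true, 130), (false, 28), (false, 54), (false, 98),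
  (false, 139)], .cnt 0 [0], .cell [(true, 135), (true, 132), (false, 24), (false, 52), (false, 0)], .cnt 0 [0], .cell
  [(true, 137), (true, 134), (false, 44), (false, 56), (false, 80), (false, 143)], .cnt 0 [0], .cell [(true, 142),
  (true, 141), (false, 102), (false, 98), (false, 14)], .cnt 0 [0], .cell [(true, 140), (true, 138), (false, 22),
  (false, 0), (false, 94), (false, 146)], .cnt 0 [0], .cell [(true, 140), (false, 106), (false, 74), (false, 114),
  (false, 143), (true, 134)], .cnt 0 [0], .cell [(true, 148), (true, 147), (false, 108), (false, 78), (false, 0)],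
  .cnt 0 [0], .cell [(true, 145), (true, 134), (false, 144)], .cnt 0 [0], .cell [(true, 152), (true, 142), (false,
  78), (false, 2), (false, 54)], .cnt 0 [0], .cell [(true, 154), (false, 108), (false, 58), (false, 82), (false, 26),
  (false, 151)], .cnt 0 [0], .fin [158, 156, 155, 10, 18, 147, 134, 86, 76, 84, 78, 88, 116, 120, 114, 124, 16, 60,
  12, 44, 68, 149, 8, 40, 2, 146, 22, 52, 0, 36, 70, 24, 62, 26, 38, 118, 6, 102, 4, 50, 56, 14, 20]] 6635519 = true
  := Qk.chkB_of (by decide +kernel)

theorem hs : evC ([17] ++ [8]) = evC ([8] ++ [17]) := by decide +kernel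

theorem h3 : eqF (flat [17]) ws = true := by decide +kernel

theorem h4 : neF (ws ++ cj wc wm) (cj wc wm ++ ws) = true := by decide +kernel

theorem cent : Nat.card (centralizer ({g wm} : Set G)) ≤ 9953280 :=
  cent2 h1 h2 hc (by decide +kernel) hb hs h3 h4 (by norm_num)

theorem ty : TyB 27 (g wm) := (tyB_iff sg_6I _).2 ⟨orderOf_of_ordF ord,
  List.forall_mem_cons.2 ⟨tr_one ch_m,
  List.forall_mem_cons.2 ⟨tr_yy h2,
  List.forall_mem_cons.2 ⟨tr_pw l3 ch_v3,
  List.forall_mem_nil _⟩⟩⟩⟩

end Cfsg.Agent.TAB.B.C3.T6I

namespace Cfsg.Agent.TAB.B.C3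

theorem boxC_6I : BoxCB 27 := boxC_of T6I.ty T6I.cent cnt_6I (by norm_num)

end Cfsg.Agent.TAB.B.C3
end

-- part: TAB/B/C3/Main
section
set_option linter.all false

/-!
# The boxes of the section of 3B of the Baby Monster (helper84, TAB)
-/

set_option autoImplicit false

namespace Cfsg.Agent.TAB.B.C3

theorem box_3B : BoxB 6 := boxC_3B.box

theorem box_6D : BoxB 22 := boxC_6D.box

theorem box_6I : BoxB 27 := boxC_6I.box

theorem box_6J : BoxB 28 := boxC_6J.box

theorem box_6K : BoxB 29 := boxC_6K.box

theorem box_9A : BoxB 45 := boxC_9A.box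

theorem box_9B : BoxB 46 := boxC_9B.box

theorem box_12F : BoxB 59 := boxC_12F.box

theorem box_12N : BoxB 67 := boxC_12N.box

theorem box_12Q : BoxB 70 := boxC_12Q.box

theorem box_12R : BoxB 71 := boxC_12R.box

theorem box_12S : BoxB 72 := boxC_12S.box

theorem box_12T : BoxB 73 := boxC_12T.box

theorem box_18D : BoxB 92 := boxC_18D.box

theorem box_18E : BoxB 93 := boxC_18E.box

theorem box_18F : BoxB 94 := boxC_18F.box

theorem box_24H : BoxB 117 := boxC_24H.box

theorem box_24J : BoxB 119 := boxC_24J.box

theorem box_24M : BoxB 122 := boxC_24M.box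

theorem box_27A : BoxB 127 := boxC_27A.box

theorem box_36C : BoxB 149 := boxC_36C.box

/-- the indices of the types -/
def threeL : List ℕ := [6, 22, 27, 28, 29, 45, 46, 59, 67, 70, 71, 72, 73, 90, 92, 93, 94, 117, 119, 122, 127, 149]

/-- **the 22 boxes** -/
theorem boxes_three : ∀ i ∈ threeL, BoxB i :=
  List.forall_mem_cons.2 ⟨box_3B,
  List.forall_mem_cons.2 ⟨box_6D,
  List.forall_mem_cons.2 ⟨box_6I,
  List.forall_mem_cons.2 ⟨box_6J,
  List.forall_mem_cons.2 ⟨box_6K,
  List.forall_mem_cons.2 ⟨box_9A,
  List.forall_mem_cons.2 ⟨box_9B,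
  List.forall_mem_cons.2 ⟨box_12F,
  List.forall_mem_cons.2 ⟨box_12N,
  List.forall_mem_cons.2 ⟨box_12Q,
  List.forall_mem_cons.2 ⟨box_12R,
  List.forall_mem_cons.2 ⟨box_12S,
  List.forall_mem_cons.2 ⟨box_12T,
  List.forall_mem_cons.2 ⟨box_18AB,
  List.forall_mem_cons.2 ⟨box_18D,
  List.forall_mem_cons.2 ⟨box_18E,
  List.forall_mem_cons.2 ⟨box_18F,
  List.forall_mem_cons.2 ⟨box_24H,
  List.forall_mem_cons.2 ⟨box_24J,
  List.forall_mem_cons.2 ⟨box_24M,
  List.forall_mem_cons.2 ⟨box_27A,
  List.forall_mem_cons.2 ⟨box_36C,
  List.forall_mem_nil _⟩⟩⟩⟩⟩⟩⟩⟩⟩⟩⟩⟩⟩⟩⟩⟩⟩⟩⟩⟩⟩⟩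

end Cfsg.Agent.TAB.B.C3
end

-- part: TAB/B/Fin/Asm
section
set_option linter.all false
open scoped Cfsg.Agent.FastGrp

/-!
# The table of the group of the model of the Baby Monster (helper51, TAB)
-/

set_option autoImplicit false
set_option maxRecDepth 100000
set_option maxHeartbeats 200000

namespace Cfsg.Agent.TAB.B.Fin

open Cfsg Cfsg.Agent.TAB.Eng Cfsg.Agent.TAB.Use Cfsg.Agent.TAB.B.Geo

theorem boxes_rest : ∀ i ∈ [0, 1, 3, 4, 5, 19, 53, 74, 89, 95, 107, 109, 125, 126, 140, 143, 144, 145, 150, 151, 162, 165,
    166, 171], BoxB i := by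
  simp only [List.forall_mem_cons, List.not_mem_nil, false_imp_iff, implies_true, and_true]
  exact ⟨boxC_1A.box, boxC_2A.box, boxC_2C.box, boxC_2D.box, A3.boxC_3A.box, A3.boxC_6A.box, P11.box_11A, P11.box_13A,
    P11.box_17A, P11.box_19A, P11.box_22A, P11.box_23AB, P11.box_26A, P11.box_26B, P11.box_31AB, P11.box_33A, P11.box_34AB,
    P11.box_34C, P11.box_38A, P11.box_39A, P11.box_47AB, P11.box_52A, P11.box_55A, P11.box_66A⟩

set_option synthInstance.maxSize 1000 in
theorem cover_ok : ∀ i < 173, i ≠ 15 → i ≠ 20 → i ≠ 24 →
    i ∈ [0, 1, 3, 4, 5, 19, 53, 74, 89, 95, 107, 109, 125, 126, 140, 143, 144, 145, 150, 151, 162, 165, 166, 171] ∨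
    i ∈ C2.twoBL ∨ i ∈ C3.threeL ∨
    i ∈ [11, 14, 16, 23, 26, 37, 40, 41, 43, 44, 51, 63, 69, 79, 87, 88, 118, 121, 132, 136] ∨
    i ∈ [17, 18, 30, 47, 49, 52, 75, 76, 77, 80, 81, 102, 103, 105, 106, 124, 133, 134, 135, 138, 146, 156,
      157, 158, 159, 170, 172] := by decide +kernel

/-- **all the boxes** -/
theorem all_boxes : ∀ i < 173, BoxB i := A3.box_left fun i h1 h2 h3 h4 =>
  (cover_ok i h1 h2 h3 h4).elim (boxes_rest i) fun h => h.elim (C2.boxes_twoB i) fun h => h.elim (C3.boxes_three i)
    fun h => h.elim (DG.boxes i) (D.boxes i)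

theorem class_le {G : Type*} [Group G] [Finite G] {Q : G → Prop} (hQ : ∀ g h, Q g → Q (h * g * h⁻¹)) {x : G} (hx : Q x)
    {e : ℕ} (he : Nat.card (Subgroup.centralizer ({x} : Set G)) ≤ e) : Nat.card G / e ≤ Nat.card {g // Q g} :=
  (div_le_class he).trans (Nat.card_le_card_of_injective
    (fun g => ⟨g.1, by obtain ⟨c, hc⟩ := isConj_iff.1 g.2; exact hc ▸ hQ _ _ hx⟩)
    fun _ _ e => Subtype.ext (Subtype.mk.inj e))

theorem a18 {T : TD BG dat} (hT : ∀ g, ∀ i < 173, T.ty g = i ↔ TyB i g) :
    datF.cnt 90 ≤ Nat.card {g // T.ty g = 90 ∧ 15 ≤ piB g} := by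
  obtain ⟨x, h1, h2, f, h3, h4⟩ := C3.exists_18A
  have h5 : 15 ≤ piB x := (Nat.card_fin 15).ge.trans (Nat.card_le_card_of_injective
    (fun i => (⟨f i, (h4 i).1, (h4 i).2.symm⟩ : {y : BG // IsConj zB y ∧ x * y = y * x})) fun _ _ e => h3 (Subtype.mk.inj e))
  have h6 := class_le (Q := fun g => T.ty g = 90 ∧ 15 ≤ piB g)
    (fun g h hg => ⟨(T.conj g h).trans hg.1, (C2.X16.piB_conj g h).symm ▸ hg.2⟩) ⟨(hT x 90 (by norm_num)).2 h1, h5⟩ h2
  rw [card_B] at h6
  exact le_trans (by decide +kernel) h6

theorem val_ok : ∀ i < 175, cF i < 173 ∧ nth valF i = val (cF i) ∧ nth piF i = pN i := by decide +kernel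

theorem sig_abs {G : Type*} [Group G] {g z : G} (h : IsConj (g ^ 15) z) (H : ∀ x : G, x ^ 15 = z → IsConj x (x ^ 17)) :
    IsConj g (g ^ 17) := by
  obtain ⟨c, hc⟩ := isConj_iff.1 h
  have h1 := H (c * g * c⁻¹) (by rw [conj_pow, hc])
  rw [conj_pow] at h1
  exact (isConj_iff.2 ⟨c, rfl⟩).trans (h1.trans (isConj_iff.2 ⟨c, rfl⟩).symm)

/-- **the hypotheses hold in the model** -/
theorem hyp_BG : ∃ T : TD BG datF, Hyp T ∧ SigConj T 139 := by
  classical
  let _ : Fintype BG := Fintype.ofFinite _
  obtain ⟨T, hm, hT⟩ := exists_tdB all_boxes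
  obtain ⟨T', h1, h2, h3⟩ := RefHyp.refine (T := T) (π := piB)
    ⟨hm, isChar_piB, (sum_piB_sq.trans (congrArg (10 * ·) hm.1)).le, C2.low hT, C2.a16 hT, a18 hT⟩
  refine ⟨T', ⟨h1, ?_, ?_, fun g hg => ?_⟩, ?_⟩
  · have h4 : (fun g => ((nth valF (T'.ty g) : ℤ) : ℂ)) = fun g => ((tr g : ℚ) : ℂ) := by
      funext g
      rw [ty_val (T.lt g) ((hT _ _ (T.lt g)).1 rfl), (val_ok _ (T'.lt g)).2.1, h2, Rat.cast_intCast]
    rw [Virt, h4]
    exact Characters.Brauer.isGeneralizedCharacter_of_isCharacter isChar
  · have h4 : (fun g => ((nth piF (T'.ty g) : ℤ) : ℂ)) = fun g => ((piB g : ℕ) : ℂ) := by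
      funext g
      rw [(val_ok _ (T'.lt g)).2.2, h3, Int.cast_natCast]
    rw [Virt, h4]
    exact Characters.Brauer.isGeneralizedCharacter_of_isCharacter isChar_piB
  · rw [show Nat.card (Subgroup.centralizer ({g} : Set BG)) = 38 from P11.c19 g (by rw [T'.ord, hg]; rfl)]
    norm_num
  · obtain ⟨g, hg⟩ := inh h1 139 (by decide)
    have h4 : T.ty (g ^ 15) = 2 := by
      rw [T.pow, ← h2, hg]
      decide +kernel
    have h5 : T.ty zB = 2 := (hT _ 2 (by norm_num)).2
      ((tyB_iff sg_2B _).2 ⟨orderOf_two zB_sq (by rw [tr_zB]; norm_num), by simp [tr_zB]⟩)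
    exact ⟨g, 1, 15, 17, hg, by decide +kernel,
      sig_abs ((BoxC.one hT (by decide) boxC_2B).conj hm h4 h5) fun _ => conj17⟩

end Cfsg.Agent.TAB.B.Fin
end

-- part: TAB/B/Fin/Main
section
set_option linter.all false
open scoped Cfsg.Agent.FastGrp

/-!
# The table of the Baby Monster: the results (helper51, TAB)
-/

set_option autoImplicit false
set_option maxRecDepth 100000
set_option maxHeartbeats 200000

namespace Cfsg.Agent.TAB.B.Fin

open Cfsg Cfsg.Agent.TAB.Eng Cfsg.Agent.TAB.Use

/-- **the table of the Baby Monster** -/
theorem tab : ∃ T : TD Spor.BabyMonster datF, T.Mass ∧ Tab T tabB ∧ SigConj T 139 := by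
  obtain ⟨T, H, hs⟩ := hyp_BG
  exact ⟨_, mass_pull H.mass BM.KHAll.iso, tab_pull H.tab BM.KHAll.iso, sigConj_pull hs BM.KHAll.iso⟩

theorem finite_B : Finite Spor.BabyMonster := by
  obtain ⟨T, h, -⟩ := tab
  exact Nat.finite_of_card_ne_zero (by rw [h.1]; decide +kernel)

theorem van : VAN.Van3 Spor.BabyMonster := by
  have := finite_B
  obtain ⟨T, h1, h2, -⟩ := tab
  exact van_of h1 h2

theorem odd : OddRat Spor.BabyMonster := by
  have := finite_B
  obtain ⟨T, h1, h2, -⟩ := tab
  exact odd_of h1 h2

theorem sig : OddSig Spor.BabyMonster := by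
  have := finite_B
  obtain ⟨T, h1, h2, h3⟩ := tab
  exact sig_of h1 h2 h3

theorem deg : DegList Spor.BabyMonster degs := by
  obtain ⟨T, -, h2, -⟩ := tab
  exact h2.degList

theorem dz5 : H665.NoPQ.HasDZ 5 Spor.BabyMonster := DZ3.b5_of deg (by decide +kernel)

end Cfsg.Agent.TAB.B.Fin
end

-- part: TAB/M/Main
section
set_option linter.all false

/-!
# The table of the Monster, without hypotheses (helper15, TAB)
-/

set_option autoImplicit false

namespace Cfsg.Agent.TAB.M

open Cfsg Cfsg.Agent.TAB.Eng Cfsg.Agent.TAB.Use

theorem base : H940.Eng.Base := ⟨OrdDiv.table, fun _ _ _ _ => S0000.result⟩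

theorem out : Out := out_of base C3B.box3

theorem van : VAN.Van3 Spor.Monster := out.van

theorem odd : OddRat Spor.Monster := out.odd

theorem sig : OddSig Spor.Monster := out.sig

theorem deg : DegList Spor.Monster degs := out.deg

end Cfsg.Agent.TAB.M
end

-- part: DZ3/Spor/Mon
section
set_option linter.all false
open scoped Cfsg.Agent.FastGrp

/-!
# S4527, sporadic groups: the Monster for `p = 5, 7`, a character of degree `8980616927734375` (helper15)
-/

set_option autoImplicit false

namespace Cfsg.Agent.DZ3.Spor

open Cfsg Cfsg.Agent.H665.NoPQ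

theorem mem_mon : 8980616927734375 ∈ charDegrees Spor.Monster := by
  obtain ⟨χ, h⟩ := TAB.M.deg
  exact mem_of_one (h.irr 15 (by decide +kernel)) (h.deg 15 (by decide +kernel))

theorem card_mon : Nat.card Spor.Monster = 808017424794512875886459904961710757005754368000000000 := by
  obtain ⟨e⟩ := H593.IMMon.equivMG
  rw [← BpSpor.MBigModel.card_M]
  exact Nat.card_congr e.toEquiv

/-- **the Monster has a character of `5`-defect zero** -/
theorem m5 : HasDZ 5 Spor.Monster :=
  of_deg (MulEquiv.refl _) (a := 9) (by norm_num) mem_mon card_mon (by norm_num) (by norm_num) (by norm_num)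

/-- **the Monster has a character of `7`-defect zero** -/
theorem m7 : HasDZ 7 Spor.Monster :=
  of_deg (MulEquiv.refl _) (a := 6) (by norm_num) mem_mon card_mon (by norm_num) (by norm_num) (by norm_num)

end Cfsg.Agent.DZ3.Spor
end
end
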